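import Groth.Agent.Ega3B.LimInv4

/-!
# Noetherian models of a pair of composable morphisms `X ⟶ Y ⟶ S`

`S` the vertex of a cofiltered limit cone with affine transition maps, `g : Y ⟶ S` of finite
presentation, `φ : X ⟶ Y` proper with `φ ≫ g` of finite presentation (and possibly flat): the whole
situation comes from a stage, with `X₀ ⟶ Y₀` proper (and `X₀ ⟶ S₀` flat, `Y₀` affine if `Y` is).
-/

set_option autoImplicit false
set_option backward.isDefEq.respectTransparency false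
set_option backward.defeqAttrib.useBackward true
set_option linter.unusedSectionVars false
universe u
open CategoryTheory Limits AlgebraicGeometry TopologicalSpace Opposite

namespace Groth.Agent.Flat2D.TripleModel

open Groth.Agent.CalgA.LimFP Groth.Agent.Ega3B.LimInv

variable {I : Type u} [SmallCategory I] {D : I ⥤ Scheme.{u}} {c : Cone D}
  [IsCofiltered I] [∀ (i j : I) (f : i ⟶ j), IsAffineHom (D.map f)] (hc : IsLimit c)
  [∀ i, CompactSpace (D.obj i)] [∀ i, QuasiSeparatedSpace (D.obj i)]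
  {X Y : Scheme.{u}} {φ : X ⟶ Y} {f' : X ⟶ c.pt} {g : Y ⟶ c.pt}

attribute [local instance] Mdl.lfp Mdl.qc Mdl.qs

include hc in
/-- Properness of a morphism of models is reached at a later stage. -/
theorem Hom.exists_isProper {i : I} {M : Mdl f' i} {N : Mdl g i} (v : Mdl.Hom φ M N) [IsProper φ] :
    ∃ (j : I) (a : j ⟶ i), IsProper (v.bc a).φ := by
  have : CompactSpace M.A := QuasiCompact.compactSpace_of_compactSpace M.f
  have : QuasiSeparatedSpace M.A := quasiSeparatedSpace_of_quasiSeparated M.f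
  have : CompactSpace N.A := QuasiCompact.compactSpace_of_compactSpace N.f
  have : QuasiSeparatedSpace N.A := quasiSeparatedSpace_of_quasiSeparated N.f
  have hft : LocallyOfFiniteType (v.φ ≫ N.f) := by rw [v.w]; infer_instance
  have hft' : LocallyOfFiniteType v.φ := locallyOfFiniteType_of_comp v.φ N.f
  obtain ⟨j, a, Xi, Yi, fi, gi, pY, pX, h1, h2, h3⟩ := Groth.Agent.S2074.result D c hc i v.φ N.f
    φ g N.p M.p N.h v.isPullback
  refine ⟨j, a, ?_⟩
  let e := (IsPullback.of_hasPullback N.f (D.map a)).isoIsPullback _ _ h1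
  have he1 : e.hom ≫ pY = pullback.fst N.f (D.map a) :=
    (IsPullback.of_hasPullback N.f (D.map a)).isoIsPullback_hom_fst _ _ h1
  have h4 := v.isPullback_bc a
  have h5 : IsPullback (h2.lift (pullback.fst M.f (D.map a)) ((v.bc a).φ ≫ e.hom) (by
      rw [Category.assoc, he1, h4.w])) (v.bc a).φ fi e.hom := by
    refine IsPullback.of_right (h₁₂ := pX) (h₂₂ := pY) (v₁₃ := v.φ) ?_ (by simp) h2
    rw [IsPullback.lift_fst, he1]
    exact h4
  exact MorphismProperty.of_isPullback (P := @IsProper) h5 h3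

/-- Properness of a morphism of models persists. -/
theorem Hom.isProper_bc {i : I} {M : Mdl f' i} {N : Mdl g i} (v : Mdl.Hom φ M N) [IsProper v.φ]
    {j : I} (a : j ⟶ i) : IsProper (v.bc a).φ :=
  MorphismProperty.of_isPullback (P := @IsProper) (v.isPullback_bc a) ‹_›

include hc in
/-- A model of an affine scheme becomes affine at a later stage. -/
theorem Mdl.exists_isAffine {i : I} (N : Mdl g i) [IsAffine Y] :
    ∃ (j : I) (a : j ⟶ i), IsAffine (N.bc a).A := by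
  have h1 : ∀ {j k : Over i} (a : j ⟶ k), IsAffineHom ((bcDiagram D N.f).map a) :=
    fun a => isAffineHom_bcDiagram_map a
  have h2 : ∀ j : Over i, CompactSpace ((bcDiagram D N.f).obj j) :=
    fun j => compactSpace_bcDiagram_obj j
  have h3 : ∀ j : Over i, QuasiSeparatedSpace ((bcDiagram D N.f).obj j) :=
    fun j => quasiSeparatedSpace_bcDiagram_obj j
  have h4 : IsAffine (bcCone N.h).pt := ‹IsAffine Y›
  obtain ⟨j, hj⟩ := Scheme.exists_isAffine_of_isLimit _ _ (isLimitBcCone hc N.h)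
  exact ⟨j.left, j.hom, hj⟩

theorem Mdl.isAffine_bc {i : I} (N : Mdl g i) [IsAffine N.A] {j : I} (a : j ⟶ i) :
    IsAffine (N.bc a).A := by
  have h : IsAffineHom (D.map a) := inferInstance
  have : IsAffineHom (pullback.fst N.f (D.map a)) := MorphismProperty.pullback_fst _ _ h
  exact isAffine_of_isAffineHom (pullback.fst N.f (D.map a))

include hc in
/-- The whole situation `X ⟶ Y ⟶ c.pt` comes from a stage. -/
theorem exists_model [IsProper φ] [LocallyOfFinitePresentation g] [QuasiCompact g]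
    [QuasiSeparated g] [LocallyOfFinitePresentation (φ ≫ g)] :
    ∃ (i : I) (X₀ Y₀ : Scheme.{u}) (φ₀ : X₀ ⟶ Y₀) (g₀ : Y₀ ⟶ D.obj i) (p : X ⟶ X₀) (q : Y ⟶ Y₀),
      IsPullback p φ φ₀ q ∧ IsPullback q g g₀ (c.π.app i) ∧ IsProper φ₀ ∧
      LocallyOfFinitePresentation g₀ ∧ LocallyOfFinitePresentation (φ₀ ≫ g₀) ∧ QuasiCompact g₀ ∧
      QuasiSeparated g₀ ∧ (Flat (φ ≫ g) → Flat (φ₀ ≫ g₀)) ∧ (IsAffine Y → IsAffine Y₀) := by
  have hqc : QuasiCompact (φ ≫ g) := inferInstance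
  have hqs : QuasiSeparated (φ ≫ g) := inferInstance
  obtain ⟨i1, ⟨N⟩⟩ := exists_mdl (D := D) (c := c) hc (f' := g)
  obtain ⟨i2, ⟨M⟩⟩ := exists_mdl (D := D) (c := c) hc (f' := φ ≫ g)
  let i3 := IsCofiltered.min i1 i2
  let N3 := N.bc (IsCofiltered.minToLeft i1 i2)
  let M3 := M.bc (IsCofiltered.minToRight i1 i2)
  obtain ⟨i4, a4, ⟨v4⟩⟩ := M3.exists_hom hc N3 φ rfl
  obtain ⟨i5, a5, h5⟩ := Hom.exists_isProper hc v4
  -- flatness
  obtain ⟨i6, a6, h6⟩ : ∃ (i6 : I) (a6 : i6 ⟶ i5), Flat (φ ≫ g) →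
      Flat (((M3.bc a4).bc a5).bc a6).f := by
    by_cases hfl : Flat (φ ≫ g)
    · obtain ⟨i6, a6, h6⟩ := Mdl.exists_flat hc ((M3.bc a4).bc a5)
      exact ⟨i6, a6, fun _ => h6⟩
    · exact ⟨i5, 𝟙 _, fun h => absurd h hfl⟩
  obtain ⟨i7, a7, h7⟩ : ∃ (i7 : I) (a7 : i7 ⟶ i6), IsAffine Y →
      IsAffine ((((N3.bc a4).bc a5).bc a6).bc a7).A := by
    by_cases haff : IsAffine Y
    · obtain ⟨i7, a7, h7⟩ := Mdl.exists_isAffine hc (((N3.bc a4).bc a5).bc a6)
      exact ⟨i7, a7, fun _ => h7⟩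
    · exact ⟨i6, 𝟙 _, fun h => absurd h haff⟩
  let v7 := ((v4.bc a5).bc a6).bc a7
  have h5' : IsProper ((v4.bc a5).bc a6).φ := Hom.isProper_bc _ _
  have h5'' : IsProper v7.φ := Hom.isProper_bc _ _
  refine ⟨i7, _, _, v7.φ, ((((N3.bc a4).bc a5).bc a6).bc a7).f, _, _, v7.isPullback,
    ((((N3.bc a4).bc a5).bc a6).bc a7).h, h5'', inferInstance, ?_, inferInstance, inferInstance,
    ?_, h7⟩
  · rw [v7.w]; infer_instance
  · intro h
    have := h6 h
    rw [v7.w]
    infer_instance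

section Spec

open Groth.Agent.Flat2D.SpecFGLimit

/-- Noetherian model of `X ⟶ Y ⟶ Spec A`. -/
theorem exists_model_Spec (A : Type u) [CommRing A] {X Y : Scheme.{u}} (φ : X ⟶ Y)
    (g : Y ⟶ Spec (CommRingCat.of A)) [IsProper φ] [LocallyOfFinitePresentation g] [QuasiCompact g]
    [QuasiSeparated g] [LocallyOfFinitePresentation (φ ≫ g)] :
    ∃ (S : Subalgebra ℤ A) (_ : S.FG) (X₀ Y₀ : Scheme.{u}) (φ₀ : X₀ ⟶ Y₀)
      (g₀ : Y₀ ⟶ Spec (CommRingCat.of S)) (p : X ⟶ X₀) (q : Y ⟶ Y₀),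
      IsPullback p φ φ₀ q ∧ IsPullback q g g₀ (Spec.map (CommRingCat.ofHom S.val.toRingHom)) ∧
      IsProper φ₀ ∧ LocallyOfFinitePresentation g₀ ∧ LocallyOfFinitePresentation (φ₀ ≫ g₀) ∧
      QuasiCompact g₀ ∧ QuasiSeparated g₀ ∧ (Flat (φ ≫ g) → Flat (φ₀ ≫ g₀)) ∧
      (IsAffine Y → IsAffine Y₀) := by
  have i1 : ∀ i, CompactSpace ((specDiagram A).obj i) := fun i => inferInstance
  have i2 : ∀ i, QuasiSeparatedSpace ((specDiagram A).obj i) := fun i => inferInstance
  have i3 : LocallyOfFinitePresentation (Y := (specCone A).pt) g := ‹_›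
  have i4 : QuasiCompact (Y := (specCone A).pt) g := ‹_›
  have i5 : QuasiSeparated (Y := (specCone A).pt) g := ‹_›
  have i6 : LocallyOfFinitePresentation (Y := (specCone A).pt) (φ ≫ g) := ‹_›
  obtain ⟨i, X₀, Y₀, φ₀, g₀, p, q, h1, h2, h3, h4, h5, h6, h7, h8, h9⟩ := exists_model
    (D := specDiagram A) (c := specCone A) (isLimitSpecCone A) (φ := φ) (g := g)
  exact ⟨i.unop.1, i.unop.2, X₀, Y₀, φ₀, g₀, p, q, h1, h2, h3, h4, h5, h6, h7, h8, h9⟩

end Spec

end Groth.Agent.Flat2D.TripleModel
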