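import Mathlib.Topology.KrullDimension
import Mathlib.AlgebraicGeometry.Properties
import Mathlib.AlgebraicGeometry.Morphisms.UniversallyOpen
import Mathlib.AlgebraicGeometry.Morphisms.QuasiFinite
import Groth.Prelude.Def_Flat

/-!
# Dimensions of open subsets of schemes via coheights, and morphisms with going down

* `krullDim_opens`: the dimension of a nonempty open subset is the supremum of the coheights
  of its points.
* `coheight_eq_of_generalizing`: coheights are preserved by generalizing maps whose fibres
  contain no specializations.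
* `localDim_eq_of_flat_locallyQuasiFinite`: flat, locally of finite presentation, locally
  quasi-finite morphisms preserve local dimensions.
-/

set_option autoImplicit false
universe u

open AlgebraicGeometry CategoryTheory TopologicalSpace Order

namespace Groth.Agent.Flat2D.DimMap

/-- The dimension of a nonempty open subset of a scheme is the supremum of the coheights of its
points. -/
theorem krullDim_opens {X : Scheme.{u}} (U : X.Opens) (hU : (U : Set X).Nonempty) :
    topologicalKrullDim (U : Set X) = ((⨆ x : U, Order.coheight (x : X) : ℕ∞) : WithBot ℕ∞) := by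
  have : Nonempty (U.toScheme) := hU.to_subtype
  have h1 : topologicalKrullDim (U.toScheme) = Order.krullDim (U.toScheme) :=
    Order.krullDim_eq_of_orderIso irreducibleSetEquivPoints
  change topologicalKrullDim (U.toScheme) = _
  rw [h1, Order.krullDim_eq_iSup_coheight_of_nonempty]
  congr 1
  apply iSup_congr
  intro x
  have := coheight_eq_of_isOpenImmersion (x := x) U.ι
  exact this.symm

theorem le_krullDim_opens {X : Scheme.{u}} (U : X.Opens) {x : X} (hx : x ∈ U) :
    (Order.coheight x : WithBot ℕ∞) ≤ topologicalKrullDim (U : Set X) := by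
  rw [krullDim_opens U ⟨x, hx⟩]
  exact WithBot.coe_le_coe.mpr (le_iSup (fun x : U => Order.coheight (x : X)) ⟨x, hx⟩)

theorem krullDim_opens_le {X : Scheme.{u}} (U : X.Opens) {d : WithBot ℕ∞}
    (h : ∀ x ∈ U, (Order.coheight x : WithBot ℕ∞) ≤ d) :
    topologicalKrullDim (U : Set X) ≤ d := by
  rcases (U : Set X).eq_empty_or_nonempty with hU | hU
  · have : IsEmpty (U : Set X) := by rw [hU]; infer_instance
    have : topologicalKrullDim (U : Set X) = ⊥ := by
      have : IsEmpty (IrreducibleCloseds (U : Set X)) := by
        constructor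
        intro Z
        obtain ⟨x, -⟩ := Z.isIrreducible.nonempty
        exact IsEmpty.false x
      exact Order.krullDim_eq_bot
    rw [this]
    exact bot_le
  · rw [krullDim_opens U hU]
    obtain ⟨x, hx⟩ := hU
    induction d with
    | bot => simpa using h x hx
    | coe d =>
      rw [WithBot.coe_le_coe]
      exact iSup_le fun y => WithBot.coe_le_coe.mp (h y y.2)

/-- Coheights are preserved by generalizing morphisms whose fibres have no nontrivial
specializations. -/
theorem coheight_eq_of_generalizing {X Y : Scheme.{u}} (g : X ⟶ Y) (hg : GeneralizingMap g)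
    (hf : ∀ x y : X, x ⤳ y → g x = g y → x = y) (x : X) :
    Order.coheight x = Order.coheight (g x) := by
  refine Order.coheight_eq_of_strictMono (g : X → Y) ?_ ?_ x
  · intro a b hab
    rw [lt_iff_le_not_ge] at hab ⊢
    have hs : b ⤳ a := hab.1
    refine ⟨hs.map g.continuous, fun h => hab.2 ?_⟩
    have hba : g a ⤳ g b := h
    have he : g b = g a := ((hs.map g.continuous).antisymm hba).eq
    rw [hf b a hs he]
  · intro a b hab
    have hs : b ⤳ g a := hab.le
    obtain ⟨c, hc, hcb⟩ := hg hs
    refine ⟨c, lt_of_le_not_ge hc ?_, hcb⟩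
    intro h
    apply hab.not_ge
    have hac : a ⤳ c := h
    have := hac.map g.continuous
    rw [hcb] at this
    exact this

/-- In the fibres of a locally quasi-finite morphism there are no nontrivial specializations. -/
theorem eq_of_specializes_of_locallyQuasiFinite {X Y : Scheme.{u}} (g : X ⟶ Y)
    [LocallyQuasiFinite g] (x y : X) (h : x ⤳ y) (hxy : g x = g y) : x = y := by
  have hd := g.isDiscrete_preimage_singleton (g y)
  have hx : x ∈ g ⁻¹' {g y} := hxy
  have hy : y ∈ g ⁻¹' {g y} := rfl
  have := hd.to_subtype
  have h' : (⟨x, hx⟩ : (g ⁻¹' {g y} : Set X)) ⤳ ⟨y, hy⟩ := by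
    rw [Topology.IsInducing.subtypeVal.specializes_iff.symm]
    exact h
  exact congrArg Subtype.val h'.eq

/-- Flat locally quasi-finite morphisms locally of finite presentation preserve local
dimensions. -/
theorem localDim_eq_of_flat_locallyQuasiFinite {X Y : Scheme.{u}} (g : X ⟶ Y) [Flat g]
    [LocallyQuasiFinite g] [LocallyOfFinitePresentation g] (x : X) :
    FlatMor.localDim X x = FlatMor.localDim Y (g x) := by
  have hgen : GeneralizingMap g := Flat.generalizingMap g
  have hco : ∀ x, Order.coheight x = Order.coheight (g x) :=
    coheight_eq_of_generalizing g hgen (eq_of_specializes_of_locallyQuasiFinite g)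
  have hopen : IsOpenMap g := g.isOpenMap
  apply le_antisymm
  · refine le_iInf fun V => ?_
    refine (iInf_le _ (⟨g ⁻¹ᵁ V.1, V.2⟩ : {U : Opens X // x ∈ U})).trans ?_
    refine krullDim_opens_le _ fun y hy => ?_
    rw [hco]
    exact le_krullDim_opens V.1 hy
  · refine le_iInf fun U => ?_
    refine (iInf_le _ (⟨⟨g '' U.1, hopen _ U.1.isOpen⟩, ⟨x, U.2, rfl⟩⟩ :
      {U : Opens Y // g x ∈ U})).trans ?_
    refine krullDim_opens_le _ ?_
    rintro _ ⟨y, hy, rfl⟩
    rw [← hco]
    exact le_krullDim_opens U.1 hy

end Groth.Agent.Flat2D.DimMap
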