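import Mathlib.AlgebraicGeometry.Morphisms.FinitePresentation
import Mathlib.AlgebraicGeometry.Morphisms.QuasiCompact
import Mathlib.AlgebraicGeometry.Fiber
import Mathlib.Topology.KrullDimension
import Mathlib.RingTheory.Spectrum.Prime.Topology

/-!
# Affine charts of a quasi-compact morphism over an affine open of the base, and local constructibility

* `exists_affine_data`: for `f : X ⟶ Y` quasi-compact and `j : Spec R ⟶ Y` an open immersion, finitely many
  open immersions `g i : Spec (S i) ⟶ X` over `j` covering `f ⁻¹ (range j)`;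
* `exists_affine_data_finitePresentation`, `exists_affine_data_finiteType`: with the ring maps of finite
  presentation, finite type;
* `isLocallyConstructible_of_affine`: a subset of `Y` whose preimages under all open immersions
  `Spec R ⟶ Y` are constructible is locally constructible;
* `le_topologicalKrullDim_iff`: dimension and open covers;
* `fibre_preimage_eq`: set theoretic fibres in charts.
-/

set_option autoImplicit false

namespace Groth.Agent.Flat2D.AffData

open AlgebraicGeometry CategoryTheory Limits Topology TopologicalSpace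

universe u v w

theorem exists_affine_data {X Y : Scheme.{u}} (f : X ⟶ Y) [QuasiCompact f]
    (R : CommRingCat.{u}) (j : Spec R ⟶ Y) [IsOpenImmersion j] :
    ∃ (ι : Type u) (_ : Finite ι) (S : ι → CommRingCat.{u}) (g : ∀ i, Spec (S i) ⟶ X)
      (φ : ∀ i, R ⟶ S i), (∀ i, IsOpenImmersion (g i)) ∧ (∀ i, g i ≫ f = Spec.map (φ i) ≫ j) ∧
        (∀ x : X, f x ∈ Set.range j → ∃ i, x ∈ Set.range (g i)) := by
  have hqc : QuasiCompact (pullback.snd f j) := MorphismProperty.pullback_snd _ _ inferInstance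
  have : CompactSpace ↑(pullback f j) := HasAffineProperty.iff_of_isAffine.mp hqc
  let 𝒰 := (pullback f j).affineCover.finiteSubcover
  choose φ hφ using fun i => Spec.map_surjective (𝒰.f i ≫ pullback.snd f j)
  refine ⟨𝒰.I₀, inferInstance, _, fun i => 𝒰.f i ≫ pullback.fst f j, φ, fun i => ?_,
    fun i => ?_, fun x hx => ?_⟩
  · have : IsOpenImmersion (𝒰.f i) := inferInstance
    exact (inferInstance : IsOpenImmersion (𝒰.f i ≫ pullback.fst f j))
  · rw [hφ i, Category.assoc, Category.assoc, pullback.condition]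
  · have hx' : x ∈ Set.range (pullback.fst f j) := by
      rw [IsOpenImmersion.range_pullbackFst]
      exact hx
    obtain ⟨z, rfl⟩ := hx'
    obtain ⟨i, w, hw⟩ := 𝒰.exists_eq z
    refine ⟨i, w, ?_⟩
    rw [← hw]
    exact Scheme.Hom.comp_apply _ _ _

theorem exists_affine_data_finiteType {X Y : Scheme.{u}} (f : X ⟶ Y) [QuasiCompact f]
    [LocallyOfFiniteType f] (R : CommRingCat.{u}) (j : Spec R ⟶ Y) [IsOpenImmersion j] :
    ∃ (ι : Type u) (_ : Finite ι) (S : ι → CommRingCat.{u}) (g : ∀ i, Spec (S i) ⟶ X)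
      (φ : ∀ i, R ⟶ S i), (∀ i, IsOpenImmersion (g i)) ∧ (∀ i, g i ≫ f = Spec.map (φ i) ≫ j) ∧
        (∀ x : X, f x ∈ Set.range j → ∃ i, x ∈ Set.range (g i)) ∧
        (∀ i, (φ i).hom.FiniteType) := by
  obtain ⟨ι, hι, S, g, φ, hg, h1, h2⟩ := exists_affine_data f R j
  refine ⟨ι, hι, S, g, φ, hg, h1, h2, fun i => ?_⟩
  have := hg i
  have h3 : LocallyOfFiniteType (Spec.map (φ i) ≫ j) := by
    rw [← h1 i]
    infer_instance
  have h4 : LocallyOfFiniteType (Spec.map (φ i)) := locallyOfFiniteType_of_comp (Spec.map (φ i)) j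
  exact (HasRingHomProperty.Spec_iff (P := @LocallyOfFiniteType)).mp h4

theorem exists_affine_data_finitePresentation {X Y : Scheme.{u}} (f : X ⟶ Y) [QuasiCompact f]
    [LocallyOfFinitePresentation f] (R : CommRingCat.{u}) (j : Spec R ⟶ Y) [IsOpenImmersion j] :
    ∃ (ι : Type u) (_ : Finite ι) (S : ι → CommRingCat.{u}) (g : ∀ i, Spec (S i) ⟶ X)
      (φ : ∀ i, R ⟶ S i), (∀ i, IsOpenImmersion (g i)) ∧ (∀ i, g i ≫ f = Spec.map (φ i) ≫ j) ∧
        (∀ x : X, f x ∈ Set.range j → ∃ i, x ∈ Set.range (g i)) ∧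
        (∀ i, (φ i).hom.FinitePresentation) := by
  obtain ⟨ι, hι, S, g, φ, hg, h1, h2⟩ := exists_affine_data f R j
  refine ⟨ι, hι, S, g, φ, hg, h1, h2, fun i => ?_⟩
  have := hg i
  have h3 : LocallyOfFinitePresentation (Spec.map (φ i) ≫ j) := by
    rw [← h1 i]
    infer_instance
  have h4 : LocallyOfFinitePresentation (Spec.map (φ i)) :=
    MorphismProperty.of_postcomp (W := @LocallyOfFinitePresentation) (W' := @IsOpenImmersion)
      _ j inferInstance h3
  exact (HasRingHomProperty.Spec_iff (P := @LocallyOfFinitePresentation)).mp h4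

theorem isLocallyConstructible_range_val_preimage {X : Type v} {Y : Type w} [TopologicalSpace X]
    [TopologicalSpace Y] (f : X → Y) (hf : IsOpenEmbedding f) {s : Set Y}
    (h : IsLocallyConstructible (f ⁻¹' s)) :
    IsLocallyConstructible ((Subtype.val : Set.range f → Y) ⁻¹' s) := by
  have h2 := h.preimage_of_isOpenEmbedding hf.isEmbedding.toHomeomorph.symm.isOpenEmbedding
  convert! h2 using 1
  ext x
  obtain ⟨y, rfl⟩ := hf.isEmbedding.toHomeomorph.surjective x
  rw [Set.mem_preimage, Set.mem_preimage, Set.mem_preimage, Homeomorph.symm_apply_apply]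
  rfl

/-- Local constructibility can be checked on affine charts. -/
theorem isLocallyConstructible_of_affine {Y : Scheme.{u}} {s : Set Y}
    (h : ∀ (R : CommRingCat.{u}) (j : Spec R ⟶ Y) [IsOpenImmersion j],
      IsConstructible (j ⁻¹' s)) : IsLocallyConstructible s := by
  refine .of_isOpenCover Y.affineCover.isOpenCover_opensRange fun i => ?_
  have h0 : IsOpenImmersion (Y.affineCover.f i) := inferInstance
  have h1 := (@h _ (Y.affineCover.f i) h0).isLocallyConstructible
  exact isLocallyConstructible_range_val_preimage _ (Y.affineCover.f i).isOpenEmbedding h1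

/-- dimension and open covers. -/
theorem le_topologicalKrullDim_iff {T : Type v} [TopologicalSpace T] {ι : Type w}
    {W : ι → Type*} [∀ i, TopologicalSpace (W i)] (g : ∀ i, W i → T)
    (hg : ∀ i, IsOpenEmbedding (g i)) (hcov : ∀ t, ∃ i, t ∈ Set.range (g i)) (d : ℕ) :
    (d : WithBot ℕ∞) ≤ topologicalKrullDim T ↔
      ∃ i, (d : WithBot ℕ∞) ≤ topologicalKrullDim (W i) := by
  constructor
  · intro h
    obtain ⟨l, hl⟩ := Order.le_krullDim_iff.mp h
    obtain ⟨t, ht⟩ := l.head.isIrreducible.nonempty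
    obtain ⟨i, w, rfl⟩ := hcov t
    refine ⟨i, Order.le_krullDim_iff.mpr ?_⟩
    have hmem : ∀ k, (g i ⁻¹' (l k : Set T)).Nonempty := fun k =>
      ⟨w, (l.strictMono.monotone (Fin.zero_le k) : l 0 ≤ l k) ht⟩
    let e := IrreducibleCloseds.orderIsoOfIsOpenEmbedding (g i) (hg i)
    refine ⟨LTSeries.mk l.length (fun k => e.symm ⟨l k, hmem k⟩) ?_, hl⟩
    intro a b hab
    exact e.symm.strictMono (show (⟨l a, hmem a⟩ : {V : IrreducibleCloseds T |
      (g i ⁻¹' V).Nonempty}) < ⟨l b, hmem b⟩ from l.strictMono hab)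
  · rintro ⟨i, hi⟩
    exact hi.trans (hg i).isInducing.topologicalKrullDim_le


/-- set-theoretic fibres in charts. -/
theorem fibre_preimage_eq {X Y : Scheme.{u}} (f : X ⟶ Y) {R S : CommRingCat.{u}} (j : Spec R ⟶ Y)
    [IsOpenImmersion j] (g : Spec S ⟶ X) (φ : R ⟶ S) (h : g ≫ f = Spec.map φ ≫ j)
    (p : Spec R) : g ⁻¹' (f ⁻¹' {j p}) = PrimeSpectrum.comap φ.hom ⁻¹' {p} := by
  ext x
  change f (g x) = j p ↔ Spec.map φ x = p
  have h1 : f (g x) = j (Spec.map φ x) := by
    rw [← Scheme.Hom.comp_apply, h, Scheme.Hom.comp_apply]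
  rw [h1]
  exact j.isOpenEmbedding.injective.eq_iff

/-- Dimension of fibres in charts. -/
theorem le_topologicalKrullDim_fiber_iff {X Y : Scheme.{u}} (f : X ⟶ Y) {R : CommRingCat.{u}}
    (j : Spec R ⟶ Y) [IsOpenImmersion j] {ι : Type u} {S : ι → CommRingCat.{u}}
    (g : ∀ i, Spec (S i) ⟶ X) (φ : ∀ i, R ⟶ S i) (hg : ∀ i, IsOpenImmersion (g i))
    (hfg : ∀ i, g i ≫ f = Spec.map (φ i) ≫ j)
    (hcov : ∀ x : X, f x ∈ Set.range j → ∃ i, x ∈ Set.range (g i)) (p : Spec R) (d : ℕ) :
    (d : WithBot ℕ∞) ≤ topologicalKrullDim (f.fiber (j p)) ↔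
      ∃ i, (d : WithBot ℕ∞) ≤
        topologicalKrullDim (PrimeSpectrum.comap (φ i).hom ⁻¹' {(p : PrimeSpectrum R)}) := by
  rw [IsHomeomorph.topologicalKrullDim_eq _ (f.fiberHomeo (j p)).isHomeomorph]
  rw [le_topologicalKrullDim_iff (T := f ⁻¹' {j p}) (ι := ι)
    (W := fun i => (g i ⁻¹' (f ⁻¹' {j p})))
    (fun i => Set.restrictPreimage (f ⁻¹' {j p}) (g i))
    (fun i => (g i).isOpenEmbedding.restrictPreimage _)]
  · refine exists_congr fun i => ?_
    rw [fibre_preimage_eq f j (g i) (φ i) (hfg i) p]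
    exact Iff.rfl
  · rintro ⟨x, hx⟩
    obtain ⟨i, y, hy⟩ := hcov x ⟨p, hx.symm⟩
    refine ⟨i, ⟨y, ?_⟩, Subtype.ext hy⟩
    rw [Set.mem_preimage, hy]
    exact hx

end Groth.Agent.Flat2D.AffData
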