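import Groth.Agent.Flat2D.FibDimAlg

/-!
# Constructibility of level sets of fibre dimension (affine case)

For a finitely presented `A`-algebra `B` the set of primes `p` of `A` with `d ≤ dim κ(p) ⊗ B` is
constructible.
-/

set_option autoImplicit false

namespace Groth.Agent.Flat2D.FibDimConstr

open Ideal MvPolynomial TensorProduct Topology Groth.Agent.Flat2D.FibDimAlg

universe u v w

theorem isPrime_map_C {A : Type u} [CommRing A] (p : Ideal A) [p.IsPrime] (σ : Type v) :
    (Ideal.map MvPolynomial.C p : Ideal (MvPolynomial σ A)).IsPrime := by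
  have : (Ideal.map MvPolynomial.C p : Ideal (MvPolynomial σ A)) =
      RingHom.ker (MvPolynomial.map (σ := σ) (algebraMap A p.ResidueField)) := by
    ext f
    rw [RingHom.mem_ker, map_eq_zero_iff_mem]
  rw [this]
  exact RingHom.ker_isPrime _

/-- The generic point of the fibre of `𝔸^σ` over `p`. -/
noncomputable def genPt {A : Type u} [CommRing A] (σ : Type v) (p : PrimeSpectrum A) :
    PrimeSpectrum (MvPolynomial σ A) :=
  ⟨Ideal.map MvPolynomial.C p.asIdeal, isPrime_map_C p.asIdeal σ⟩

theorem genPt_preimage_zeroLocus {A : Type u} [CommRing A] {σ : Type v}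
    (s : Set (MvPolynomial σ A)) :
    genPt σ ⁻¹' (PrimeSpectrum.zeroLocus s) =
      PrimeSpectrum.zeroLocus (⋃ g ∈ s, Set.range (fun m => MvPolynomial.coeff m g)) := by
  classical
  ext p
  simp only [Set.mem_preimage, PrimeSpectrum.mem_zeroLocus, genPt, Set.subset_def, SetLike.mem_coe,
    MvPolynomial.mem_map_C_iff, Set.mem_iUnion, Set.mem_range]
  constructor
  · rintro h a ⟨g, hg, m, rfl⟩
    exact h g hg m
  · intro h g hg m
    exact h _ ⟨g, hg, m, rfl⟩

theorem zeroLocus_coeffs_finite {A : Type u} [CommRing A] {σ : Type v}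
    (g : MvPolynomial σ A) :
    genPt σ ⁻¹' (PrimeSpectrum.zeroLocus {g}) =
      PrimeSpectrum.zeroLocus (Set.range (fun m : g.support => MvPolynomial.coeff m.1 g)) := by
  classical
  rw [genPt_preimage_zeroLocus]
  ext p
  simp only [PrimeSpectrum.mem_zeroLocus, Set.subset_def, SetLike.mem_coe,
    Set.mem_iUnion, Set.mem_range]
  constructor
  · rintro h a ⟨m, rfl⟩
    exact h _ ⟨g, rfl, m, rfl⟩
  · rintro h a ⟨g', hg', m, rfl⟩
    obtain rfl : g' = g := hg'
    by_cases hm : m ∈ g'.support
    · exact h _ ⟨⟨m, hm⟩, rfl⟩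
    · rw [MvPolynomial.notMem_support_iff] at hm
      rw [hm]
      exact p.asIdeal.zero_mem

theorem isConstructible_zeroLocus_of_finite {A : Type u} [CommRing A] {s : Set A} (hs : s.Finite) :
    IsConstructible (PrimeSpectrum.zeroLocus s) := by
  rw [← isConstructible_compl]
  exact (PrimeSpectrum.isRetrocompact_zeroLocus_compl hs).isConstructible
    (PrimeSpectrum.isClosed_zeroLocus _).isOpen_compl

theorem isConstructible_genPt_preimage {A : Type u} [CommRing A] {σ : Type v}
    {s : Set (PrimeSpectrum (MvPolynomial σ A))} (hs : IsConstructible s) :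
    IsConstructible (genPt σ ⁻¹' s) := by
  classical
  obtain ⟨S, rfl⟩ := PrimeSpectrum.exists_constructibleSetData_iff.mpr hs
  have h1 : ∀ g : MvPolynomial σ A, IsConstructible (genPt σ ⁻¹' (PrimeSpectrum.zeroLocus {g})) := by
    intro g
    rw [zeroLocus_coeffs_finite]
    exact isConstructible_zeroLocus_of_finite (Set.finite_range _)
  simp only [PrimeSpectrum.ConstructibleSetData.toSet, Set.preimage_iUnion]
  refine .biUnion S.finite_toSet fun C _ => ?_
  rw [PrimeSpectrum.BasicConstructibleSetData.toSet, Set.preimage_sdiff]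
  refine .sdiff ?_ (h1 _)
  have : PrimeSpectrum.zeroLocus (Set.range C.g) = ⋂ i, PrimeSpectrum.zeroLocus {C.g i} := by
    rw [← PrimeSpectrum.zeroLocus_iUnion]
    congr 1
    ext x
    simp [eq_comm]
  rw [this, Set.preimage_iInter]
  exact .iInter fun i => h1 _

theorem exists_fin_adjoin_eq_top (A : Type u) (B : Type v) [CommRing A]
    [CommRing B] [Algebra A B] [Algebra.FiniteType A B] :
    ∃ (r : ℕ) (x : Fin r → B), Algebra.adjoin A (Set.range x) = ⊤ := by
  obtain ⟨s, hs⟩ := (inferInstance : Algebra.FiniteType A B).out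
  refine ⟨s.card, fun i => (s.equivFin.symm i : B), ?_⟩
  rw [← hs]
  congr 1
  ext b
  simp only [Set.mem_range, Finset.mem_coe]
  constructor
  · rintro ⟨i, rfl⟩
    exact (s.equivFin.symm i).2
  · intro hb
    exact ⟨s.equivFin ⟨b, hb⟩, by simp⟩

/-- The dimension of the fibres of a finite type algebra is bounded. -/
theorem exists_bound_ringKrullDim_fiber (A : Type u) (B : Type v) [CommRing A]
    [CommRing B] [Algebra A B] [Algebra.FiniteType A B] :
    ∃ r : ℕ, ∀ (p : PrimeSpectrum A) (d : ℕ),
      (d : WithBot ℕ∞) ≤ ringKrullDim (p.asIdeal.Fiber B) → d ≤ r := by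
  obtain ⟨r, x, hx⟩ := exists_fin_adjoin_eq_top A B
  refine ⟨r, fun p d hd => ?_⟩
  obtain ⟨ι, -⟩ := (le_ringKrullDim_fiber_iff x hx p d).mp hd
  simpa using Fintype.card_le_of_injective ι ι.injective

/-- The set of primes over which the fibre dimension of a finitely presented algebra is at
least `d` is constructible. -/
theorem isConstructible_setOf_le_ringKrullDim_fiber (A : Type u) (B : Type v) [CommRing A]
    [CommRing B] [Algebra A B] [Algebra.FinitePresentation A B] (d : ℕ) :
    IsConstructible {p : PrimeSpectrum A | (d : WithBot ℕ∞) ≤ ringKrullDim (p.asIdeal.Fiber B)} := by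
  obtain ⟨r, x, hx⟩ := exists_fin_adjoin_eq_top A B
  have : {p : PrimeSpectrum A | (d : WithBot ℕ∞) ≤ ringKrullDim (p.asIdeal.Fiber B)} =
      ⋃ ι : Fin d ↪ Fin r, genPt (Fin d) ⁻¹' (Set.range (PrimeSpectrum.comap
        (MvPolynomial.aeval (fun i => x (ι i)) : MvPolynomial (Fin d) A →ₐ[A] B).toRingHom)) := by
    ext p
    rw [Set.mem_ofPred_eq, le_ringKrullDim_fiber_iff x hx p d, Set.mem_iUnion]
    refine exists_congr fun ι => ?_
    rw [Set.mem_preimage, Set.mem_range]
    refine exists_congr fun q => ?_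
    rw [PrimeSpectrum.ext_iff]
    rfl
  rw [this]
  refine .iUnion fun ι => isConstructible_genPt_preimage ?_
  apply PrimeSpectrum.isConstructible_range_comap
  apply RingHom.FinitePresentation.of_comp_finiteType (MvPolynomial.C : A →+* MvPolynomial (Fin d) A)
  · have : ((MvPolynomial.aeval (fun i => x (ι i)) :
      MvPolynomial (Fin d) A →ₐ[A] B).toRingHom).comp MvPolynomial.C = algebraMap A B := by
      ext a
      simp
    rw [this]
    exact RingHom.finitePresentation_algebraMap.mpr inferInstance
  · exact (RingHom.finiteType_algebraMap (A := A) (B := MvPolynomial (Fin d) A)).mpr inferInstance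

end Groth.Agent.Flat2D.FibDimConstr
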