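import Mathlib.AlgebraicGeometry.AffineSpace
import Mathlib.AlgebraicGeometry.Morphisms.Etale

set_option autoImplicit false
universe u

namespace Groth.Agent.Flat2D.AffVec

open AlgebraicGeometry CategoryTheory Limits

variable {n : Type u} {S : Scheme.{u}}

instance isOpenImmersion_map {S T : Scheme.{u}} (f : S ⟶ T) [IsOpenImmersion f] :
    IsOpenImmersion (AffineSpace.map n f) :=
  MorphismProperty.of_isPullback (P := @IsOpenImmersion) (AffineSpace.isPullback_map f).flip inferInstance

/-- The morphism from an affine scheme to affine space over `S` given by a tuple of ring elements, the structure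
morphism factoring through an open affine. -/
theorem homOfVector_spec {A C : CommRingCat.{u}} (k : Spec A ⟶ S) (φ : A ⟶ C) (c : n → C) :
    (AffineSpace.homOfVector (Spec.map φ ≫ k) (fun i => (Scheme.ΓSpecIso C).inv (c i)) : Spec C ⟶ 𝔸(n; S)) =
      Spec.map (CommRingCat.ofHom (MvPolynomial.eval₂Hom φ.hom c)) ≫ (AffineSpace.SpecIso n A).inv ≫
        AffineSpace.map n k := by
  apply AffineSpace.hom_ext
  · simp only [AffineSpace.homOfVector_over, Category.assoc, AffineSpace.map_over, AffineSpace.SpecIso_inv_over_assoc]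
    rw [← Spec.map_comp_assoc]
    congr 2
    ext x
    simp
  · intro i
    rw [AffineSpace.homOfVector_appTop_coord]
    simp only [Scheme.Hom.comp_appTop, CommRingCat.comp_apply, AffineSpace.map_appTop_coord,
      AffineSpace.SpecIso_inv_appTop_coord]
    rw [← CommRingCat.comp_apply, ← Scheme.ΓSpecIso_inv_naturality, CommRingCat.comp_apply]
    congr 1
    simp

theorem etale_homOfVector {A C : CommRingCat.{u}} (k : Spec A ⟶ S) [IsOpenImmersion k] (φ : A ⟶ C) (c : n → C)
    (h : (MvPolynomial.eval₂Hom φ.hom c).Etale) :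
    Etale (AffineSpace.homOfVector (Spec.map φ ≫ k) (fun i => (Scheme.ΓSpecIso C).inv (c i)) : Spec C ⟶ 𝔸(n; S)) := by
  rw [homOfVector_spec]
  have : Etale (Spec.map (CommRingCat.ofHom (MvPolynomial.eval₂Hom φ.hom c))) := by
    rw [HasRingHomProperty.Spec_iff (P := @Etale)]
    exact h
  infer_instance

/-- A morphism to `Spec B` killing the ideal `I` factors through `Spec (B / I)`. -/
theorem exists_lift_quotient {B : CommRingCat.{u}} (I : Ideal B) {T : Scheme.{u}} (t : T ⟶ Spec B)
    (h : ∀ x ∈ I, t.appTop ((Scheme.ΓSpecIso B).inv x) = 0) :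
    ∃ t' : T ⟶ Spec (.of (B ⧸ I)), t' ≫ Spec.map (CommRingCat.ofHom (Ideal.Quotient.mk I)) = t := by
  have ht : t = T.toSpecΓ ≫ Spec.map ((Scheme.ΓSpecIso B).inv ≫ t.appTop) := by
    rw [Spec.map_comp, ← Scheme.toSpecΓ_naturality_assoc]
    simp
  let α : CommRingCat.of (B ⧸ I) ⟶ Γ(T, ⊤) := CommRingCat.ofHom
    (Ideal.Quotient.lift I ((Scheme.ΓSpecIso B).inv ≫ t.appTop).hom h)
  refine ⟨T.toSpecΓ ≫ Spec.map α, ?_⟩
  rw [Category.assoc, ← Spec.map_comp]
  conv_rhs => rw [ht]
  congr 2

end Groth.Agent.Flat2D.AffVec
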