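import Groth.Agent.Flat2D.ConstrNoeth
import Groth.Agent.Flat2D.ApproxFP
import Mathlib.AlgebraicGeometry.Noetherian
import Mathlib.AlgebraicGeometry.Restrict

/-!
# Constructibility of fibrewise invariants of morphisms of finite presentation

If `N f : Y → α` is a function attached to every morphism `f : X ⟶ Y`, compatible with base change, and constant
near the generic point of every irreducible closed subset of `Y` when `Y` is Noetherian affine and `f` of finite type,
then its level sets are locally constructible for every morphism `f` of finite presentation.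
-/

set_option autoImplicit false

universe u v

open CategoryTheory Limits AlgebraicGeometry Topology

namespace Groth.Agent.Flat2D.ConstrBC

open ConstrNoeth

variable {α : Type v} (N : ∀ {X Y : Scheme.{u}} (_ : X ⟶ Y), Y → α)

/-- The affine case, with finitely many values. -/
theorem finConstr_of_isAffine
    (hbc : ∀ {X Y X' Y' : Scheme.{u}} (f : X ⟶ Y) (f' : X' ⟶ Y') (g' : X' ⟶ X) (g : Y' ⟶ Y),
      IsPullback g' f' f g → ∀ y' : Y', N f' y' = N f (g y'))
    (hgen : ∀ {X Y : Scheme.{u}} (f : X ⟶ Y) [IsNoetherian Y] [IsAffine Y] [LocallyOfFinitePresentation f]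
      [QuasiCompact f] [QuasiSeparated f] (y : Y),
      ∃ V : Set ↑Y, V ⊆ closure {y} ∧ y ∈ V ∧ IsOpen (Subtype.val ⁻¹' V : Set ↑(closure ({y} : Set ↑Y))) ∧
        ∀ y' ∈ V, N f y' = N f y)
    {X Y : Scheme.{u}} (f : X ⟶ Y) [IsAffine Y] [LocallyOfFinitePresentation f] [QuasiCompact f]
    [QuasiSeparated f] : FinConstr (N f) := by
  obtain ⟨X₀, Y₀, f₀, g', g, hN, hA, h1, h2, h3, hpb⟩ := ApproxFP.exists_noetherian_model f
  have h0 : FinConstr (N f₀) := finConstr_of_noetherian (N f₀) (fun y => hgen f₀ y)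
  have h4 : FinConstr (fun y => N f₀ (g y)) :=
    h0.preimage_of_isSpectralMap (f := g) (g.isSpectralMap)
  have h5 : N f = fun y => N f₀ (g y) := by
    funext y
    exact hbc f₀ f g' g hpb y
  rw [h5]
  exact h4

/-- Level sets of fibrewise invariants are locally constructible. -/
theorem isLocallyConstructible
    (hbc : ∀ {X Y X' Y' : Scheme.{u}} (f : X ⟶ Y) (f' : X' ⟶ Y') (g' : X' ⟶ X) (g : Y' ⟶ Y),
      IsPullback g' f' f g → ∀ y' : Y', N f' y' = N f (g y'))
    (hgen : ∀ {X Y : Scheme.{u}} (f : X ⟶ Y) [IsNoetherian Y] [IsAffine Y] [LocallyOfFinitePresentation f]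
      [QuasiCompact f] [QuasiSeparated f] (y : Y),
      ∃ V : Set ↑Y, V ⊆ closure {y} ∧ y ∈ V ∧ IsOpen (Subtype.val ⁻¹' V : Set ↑(closure ({y} : Set ↑Y))) ∧
        ∀ y' ∈ V, N f y' = N f y)
    {X Y : Scheme.{u}} (f : X ⟶ Y) [LocallyOfFinitePresentation f] [QuasiCompact f]
    [QuasiSeparated f] (a : α) : IsLocallyConstructible {y : Y | N f y = a} := by
  refine IsLocallyConstructible.of_isOpenCover (U := fun U : Y.affineOpens => U.1) ?_ ?_
  · rw [TopologicalSpace.IsOpenCover]
    exact iSup_affineOpens_eq_top Y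
  · intro U
    have hU : IsAffine (U.1 : Scheme.{u}) := U.2
    have h := (finConstr_of_isAffine N hbc hgen (f ∣_ U.1)).2 a
    have heq : (Subtype.val ⁻¹' {y | N f y = a} : Set (U.1 : Set Y)) =
        {y : (U.1 : Scheme.{u}) | N (f ∣_ U.1) y = a} := by
      ext y
      have := hbc f (f ∣_ U.1) _ _ (isPullback_morphismRestrict f U.1).flip y
      change N f _ = a ↔ N (f ∣_ U.1) y = a
      rw [this]
      rfl
    refine IsConstructible.isLocallyConstructible ?_
    rw [heq]
    exact h

end Groth.Agent.Flat2D.ConstrBC
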