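import Groth.Agent.Ega3A.ConstrTopBasic
import Mathlib.Topology.Spectral.Prespectral

/-!
# Functions with finitely many values and constructible level sets

`FinConstr N` : the function `N : X → α` on a topological space has finite range and constructible level sets.
On a quasi-sober Noetherian space this follows from: near every point `x` (inside the closure of `x`)
the function is constant.
-/

set_option autoImplicit false

universe u v w

namespace Groth.Agent.Flat2D.ConstrNoeth

open Set TopologicalSpace Topology

variable {X : Type u} [TopologicalSpace X] {α : Type v} {β : Type w}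

/-- A function with finite range and constructible level sets. -/
def FinConstr (N : X → α) : Prop :=
  (Set.range N).Finite ∧ ∀ a, IsConstructible {x | N x = a}

theorem FinConstr.isConstructible_preimage {N : X → α} (hN : FinConstr N) (s : Set α) :
    IsConstructible {x | N x ∈ s} := by
  have h : {x | N x ∈ s} = ⋃ a ∈ (Set.range N ∩ s), {x | N x = a} := by
    ext x
    simp only [mem_setOf_eq, mem_iUnion, exists_prop, mem_inter_iff, mem_range]
    constructor
    · intro hx
      exact ⟨N x, ⟨⟨x, rfl⟩, hx⟩, rfl⟩
    · rintro ⟨a, ⟨-, ha⟩, rfl⟩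
      exact ha
  rw [h]
  exact IsConstructible.biUnion (hN.1.inter_of_left s) (fun a _ => hN.2 a)

theorem FinConstr.comp {N : X → α} (hN : FinConstr N) (g : α → β) : FinConstr (fun x => g (N x)) := by
  refine ⟨?_, fun b => ?_⟩
  · have : Set.range (fun x => g (N x)) = g '' Set.range N := by
      ext b; simp
    rw [this]
    exact hN.1.image g
  · exact hN.isConstructible_preimage {a | g a = b}

theorem FinConstr.prod {N : X → α} {M : X → β} (hN : FinConstr N) (hM : FinConstr M) :
    FinConstr (fun x => (N x, M x)) := by
  refine ⟨?_, fun b => ?_⟩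
  · exact (hN.1.prod hM.1).subset (by rintro _ ⟨x, rfl⟩; exact ⟨⟨x, rfl⟩, ⟨x, rfl⟩⟩)
  · have : {x | (N x, M x) = b} = {x | N x = b.1} ∩ {x | M x = b.2} := by
      ext x; simp [Prod.ext_iff]
    rw [this]
    exact (hN.2 _).inter (hM.2 _)

theorem FinConstr.map₂ {γ : Type*} {N : X → α} {M : X → β} (hN : FinConstr N) (hM : FinConstr M)
    (g : α → β → γ) : FinConstr (fun x => g (N x) (M x)) :=
  (hN.prod hM).comp (fun p => g p.1 p.2)

/-- Pullback along a spectral-like map. -/
theorem FinConstr.preimage {Y : Type*} [TopologicalSpace Y] {N : X → α} (hN : FinConstr N) {f : Y → X}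
    (hfcont : Continuous f) (hf : ∀ s, IsOpen s → IsRetrocompact s → IsRetrocompact (f ⁻¹' s)) :
    FinConstr (fun y => N (f y)) :=
  ⟨hN.1.subset (by rintro _ ⟨y, rfl⟩; exact ⟨f y, rfl⟩), fun a => (hN.2 a).preimage hfcont hf⟩

/-- Pullback along a continuous map whose source is a compact quasi-separated space, when the map is spectral. -/
theorem FinConstr.preimage_of_isSpectralMap {Y : Type*} [TopologicalSpace Y] [CompactSpace Y]
    [QuasiSeparatedSpace Y] [CompactSpace X] {N : X → α} (hN : FinConstr N) {f : Y → X}
    (hf : IsSpectralMap f) : FinConstr (fun y => N (f y)) :=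
  hN.preimage hf.continuous fun s hs hs' =>
    (hf.isCompact_preimage_of_isOpen hs hs'.isCompact).isRetrocompact (hs.preimage hf.continuous)

/-- In a Noetherian space every closed subset whose irreducible closed subsets have generic points, a function
which is constant near the generic point of each irreducible closed subset has finitely many values and
constructible level sets. -/
theorem finConstr_of_noetherian [NoetherianSpace X] [QuasiSober X] (N : X → α)
    (h : ∀ x : X, ∃ V : Set X, V ⊆ closure {x} ∧ x ∈ V ∧
      IsOpen (Subtype.val ⁻¹' V : Set ↑(closure ({x} : Set X))) ∧ ∀ y ∈ V, N y = N x) :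
    FinConstr N := by
  have key : ∀ Y : Set X, IsClosed Y → ((N '' Y).Finite ∧ ∀ a, IsConstructible (Y ∩ {x | N x = a})) := by
    refine Ega3A.ConstrTopBasic.closed_induction ?_ ?_ ?_
    · refine ⟨by simp, fun a => by simpa using IsConstructible.empty⟩
    · rintro Y Z - - ⟨hY, hY'⟩ ⟨hZ, hZ'⟩
      refine ⟨by rw [image_union]; exact hY.union hZ, fun a => ?_⟩
      rw [union_inter_distrib_right]
      exact (hY' a).union (hZ' a)
    · intro Y hYc hY ih
      obtain ⟨x, hx⟩ := QuasiSober.sober hY hYc
      obtain ⟨V, hVx, hxV, hV, hN⟩ := h x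
      have hcl : closure {x} = Y := hx
      rw [isOpen_induced_iff] at hV
      obtain ⟨U, hU, hUV⟩ := hV
      have hUV' : U ∩ Y = V := by
        rw [← hcl]
        ext z
        constructor
        · rintro ⟨hz, hz'⟩
          have : (⟨z, hz'⟩ : ↑(closure ({x} : Set X))) ∈ (Subtype.val ⁻¹' U : Set ↑(closure ({x} : Set X))) := hz
          rw [hUV] at this
          exact this
        · intro hz
          refine ⟨?_, hVx hz⟩
          have : (⟨z, hVx hz⟩ : ↑(closure ({x} : Set X))) ∈ (Subtype.val ⁻¹' V : Set ↑(closure ({x} : Set X))) := hz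
          rw [← hUV] at this
          exact this
      have hne : (U ∩ Y).Nonempty := ⟨x, by rw [hUV']; exact hxV⟩
      obtain ⟨ih1, ih2⟩ := ih (Y \ U) (hYc.inter hU.isClosed_compl)
        (Ega3A.ConstrTopBasic.diff_ssubset hne)
      have hdec : Y = (Y \ U) ∪ (U ∩ Y) := by
        rw [inter_comm, union_comm, inter_union_sdiff]
      refine ⟨?_, fun a => ?_⟩
      · have : N '' Y ⊆ N '' (Y \ U) ∪ {N x} := by
          rintro _ ⟨z, hz, rfl⟩
          by_cases hzU : z ∈ U
          · right
            exact hN z (by rw [← hUV']; exact ⟨hzU, hz⟩)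
          · left
            exact ⟨z, ⟨hz, hzU⟩, rfl⟩
        exact (ih1.union (finite_singleton _)).subset this
      · by_cases ha : N x = a
        · have : Y ∩ {z | N z = a} = ((Y \ U) ∩ {z | N z = a}) ∪ (U ∩ Y) := by
            ext z
            constructor
            · rintro ⟨hz, hz'⟩
              by_cases hzU : z ∈ U
              · exact Or.inr ⟨hzU, hz⟩
              · exact Or.inl ⟨⟨hz, hzU⟩, hz'⟩
            · rintro (⟨⟨hz, -⟩, hz'⟩ | hz)
              · exact ⟨hz, hz'⟩
              · refine ⟨hz.2, ?_⟩
                rw [mem_setOf_eq, ← ha]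
                exact hN z (by rw [← hUV']; exact hz)
          rw [this]
          exact (ih2 a).union ((Ega3A.ConstrTopBasic.isConstructible_of_isOpen hU).inter
            (Ega3A.ConstrTopBasic.isConstructible_of_isClosed hYc))
        · have : Y ∩ {z | N z = a} = (Y \ U) ∩ {z | N z = a} := by
            ext z
            constructor
            · rintro ⟨hz, hz'⟩
              refine ⟨⟨hz, fun hzU => ha ?_⟩, hz'⟩
              rw [← hN z (by rw [← hUV']; exact ⟨hzU, hz⟩)]
              exact hz'
            · rintro ⟨⟨hz, -⟩, hz'⟩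
              exact ⟨hz, hz'⟩
          rw [this]
          exact ih2 a
  obtain ⟨h1, h2⟩ := key univ isClosed_univ
  exact ⟨by simpa using h1, fun a => by simpa using h2 a⟩

end Groth.Agent.Flat2D.ConstrNoeth
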