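import Groth.Agent.Flat2D.FiberRestrict
import Groth.Agent.FormalA.PullbackQC
import Groth.Agent.S0386

/-!
# Local form of the hypotheses of the contraction criteria (Stacks 0E7J, 0E7L)

`f : X ⟶ Y` proper, `g : Y ⟶ S`, `y` over `s`.
* `exists_flat_restrict`: affine opens `S' ∋ s`, `W ∋ y` with `f⁻¹ W ⟶ S'` flat;
* `dim_restrict`, `H1_restrict`, `surj_restrict`, `bij_restrict`: the hypotheses on
  `MoreMor.fiberMap f g s` restricted to `f' = f ∣_ W`, `g' = g.resLE S' W`.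
-/

set_option autoImplicit false
universe u
open CategoryTheory CategoryTheory.Limits AlgebraicGeometry Opposite TopologicalSpace

namespace Groth.Agent.Flat2D.ContrRestrict

open FiberRestrict LocalGlobalH

variable {X Y S : Scheme.{u}}

theorem flat_of_comp_mono (h : X ⟶ Y) (j : Y ⟶ S) [Mono j] [H : Flat (h ≫ j)] : Flat h :=
  MorphismProperty.of_isPullback (P := @Flat)
    (IsPullback.of_horiz_isIso_mono (fst := 𝟙 X) (snd := h) (f := h ≫ j) (g := j)
      ⟨Category.id_comp _⟩) H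

/-- A morphism is flat on an open on which all stalk maps are flat. -/
theorem flat_ι_comp (h : X ⟶ S) (U : X.Opens) (hU : ∀ x ∈ U, (h.stalkMap x).hom.Flat) :
    Flat (U.ι ≫ h) := by
  rw [Flat.iff_flat_stalkMap]
  intro x
  have h1 : (h.stalkMap (U.ι x)).hom.Flat := hU _ x.2
  have h2 : Function.Bijective (U.ι.stalkMap x).hom := ConcreteCategory.bijective_of_isIso _
  have h3 : (U.ι ≫ h).stalkMap x = h.stalkMap (U.ι x) ≫ U.ι.stalkMap x :=
    Scheme.Hom.stalkMap_comp _ _ _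
  rw [h3]
  exact RingHom.Flat.comp h1 (RingHom.Flat.of_bijective h2)

theorem exists_affine (S : Scheme.{u}) (V : S.Opens) (s : S) (hs : s ∈ V) :
    ∃ S' : S.Opens, IsAffineOpen S' ∧ s ∈ S' ∧ S' ≤ V := by
  obtain ⟨_, ⟨S', hS', rfl⟩, h1, h2⟩ := S.isBasis_affineOpens.exists_subset_of_mem_open
    (show s ∈ (V : Set S) from hs) V.2
  exact ⟨S', hS', h1, h2⟩

/-- Near a point `y` all of whose preimages are flat over `S`, `f⁻¹ W ⟶ S'` is flat. -/
theorem exists_flat_restrict (f : X ⟶ Y) (g : Y ⟶ S) [IsProper f]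
    [LocallyOfFinitePresentation (f ≫ g)] (y : Y)
    (hflat : ∀ x : X, f x = y → ((f ≫ g).stalkMap x).hom.Flat) (V : Y.Opens) (hV : y ∈ V)
    (V' : S.Opens) (hV' : g y ∈ V') :
    ∃ (S' : S.Opens) (W : Y.Opens) (h : W ≤ g ⁻¹ᵁ S'), IsAffineOpen S' ∧ IsAffineOpen W ∧
      S' ≤ V' ∧ W ≤ V ∧ g y ∈ S' ∧ y ∈ W ∧ Flat ((f ∣_ W) ≫ g.resLE S' W h) := by
  -- flat locus
  let Fl : X.Opens := ⟨{x | ((f ≫ g).stalkMap x).hom.Flat}, S0386.result (f ≫ g)⟩
  have hcl : IsClosed (f '' (Flᶜ : Set X)) := f.isClosedMap _ Fl.2.isClosed_compl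
  have hy : y ∉ f '' (Flᶜ : Set X) := by
    rintro ⟨x, hx, rfl⟩
    exact hx (hflat x rfl)
  obtain ⟨S', hS', hyS', hS'V⟩ := exists_affine S V' (g y) hV'
  let O : Y.Opens := V ⊓ g ⁻¹ᵁ S' ⊓ ⟨(f '' (Flᶜ : Set X))ᶜ, hcl.isOpen_compl⟩
  obtain ⟨W, hW, hyW, hWO⟩ := exists_affine Y O y ⟨⟨hV, hyS'⟩, hy⟩
  have hW1 : W ≤ g ⁻¹ᵁ S' := fun z hz => (hWO hz).1.2
  refine ⟨S', W, hW1, hS', hW, hS'V, fun z hz => (hWO hz).1.1, hyS', hyW, ?_⟩
  have h1 : Flat ((f ⁻¹ᵁ W).ι ≫ f ≫ g) := by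
    refine flat_ι_comp _ _ fun x hx => ?_
    by_contra hx'
    exact (hWO hx).2 ⟨x, hx', rfl⟩
  have h2 : ((f ∣_ W) ≫ g.resLE S' W hW1) ≫ S'.ι = (f ⁻¹ᵁ W).ι ≫ f ≫ g := by
    rw [Category.assoc, Scheme.Hom.resLE_comp_ι, morphismRestrict_ι_assoc]
  have h3 : Flat (((f ∣_ W) ≫ g.resLE S' W hW1) ≫ S'.ι) := by rw [h2]; exact h1
  exact flat_of_comp_mono _ S'.ι

section Transfer

variable (f : X ⟶ Y) (g : Y ⟶ S) (S' : S.Opens) (W : Y.Opens) (h : W ≤ g ⁻¹ᵁ S') (s : S')

theorem dim_restrict [LocallyOfFiniteType f] (n : WithBot ℕ∞)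
    (hdim : ∀ y' : ↥(g.fiber s.1), topologicalKrullDim ↑((MoreMor.fiberMap f g s.1).fiber y') ≤ n)
    (y' : W) (hy' : g.resLE S' W h y' = s) : topologicalKrullDim ↑((f ∣_ W).fiber y') ≤ n := by
  have h1 : g y'.1 = s.1 := by
    have : (g.resLE S' W h ≫ S'.ι) y' = (W.ι ≫ g) y' := by rw [Scheme.Hom.resLE_comp_ι]
    rw [Scheme.Hom.comp_apply, hy'] at this
    exact this.symm
  obtain ⟨z, hz⟩ : y'.1 ∈ Set.range (g.fiberι s.1) := by
    rw [g.range_fiberι s.1]
    exact h1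
  have h2 := Flat2G.ProperDim.topologicalKrullDim_fiber_baseChange f (MoreMor.fiberMap f g s.1)
    ((f ≫ g).fiberι s.1) (g.fiberι s.1) (isPullback_fiberMap f g s.1) z
  have h3 := Flat2G.ProperDim.topologicalKrullDim_fiber_baseChange f (f ∣_ W)
    (f ⁻¹ᵁ W).ι W.ι (isPullback_morphismRestrict f W).flip y'
  have h4 := hdim z
  rw [h2, hz] at h4
  rw [h3]
  exact h4

variable (hS : IsAffineOpen S') (hW : IsAffineOpen W)

/-- The open of the fibre attached to `W`, and the comparison of fibre maps. -/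
theorem exists_compare : ∃ (k : (g.resLE S' W h).fiber s ⟶ g.fiber s.1)
    (l : ((f ∣_ W) ≫ g.resLE S' W h).fiber s ⟶ (f ≫ g).fiber s.1),
      IsPullback k ((g.resLE S' W h).fiberι s) (g.fiberι s.1) W.ι ∧
      IsPullback l (MoreMor.fiberMap (f ∣_ W) (g.resLE S' W h) s) (MoreMor.fiberMap f g s.1) k :=
  exists_isPullback_fiberMap f g (f ∣_ W) (g.resLE S' W h) (f ⁻¹ᵁ W).ι W.ι S'.ι
    (isPullback_morphismRestrict f W).flip (g.resLE_comp_ι h).symm s

theorem isAffine_fiber' {X Y : Scheme.{u}} (f : X ⟶ Y) (y : Y) [IsAffine X] [IsAffine Y] :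
    IsAffine (f.fiber y) := by
  have h1 : IsAffineHom (f.fiberToSpecResidueField y) :=
    MorphismProperty.of_isPullback (P := @IsAffineHom) (isPullback_fiber f y) inferInstance
  exact isAffine_of_isAffineHom (f.fiberToSpecResidueField y)

include hS hW in
theorem isAffine_fiber : IsAffine ((g.resLE S' W h).fiber s) :=
  @isAffine_fiber' _ _ (g.resLE S' W h) s hW hS

/-- Vanishing of cohomology of the structure sheaf over the range of an open immersion. -/
theorem subsingleton_HH_structure {X' X : Scheme.{u}} (j : X' ⟶ X) [IsOpenImmersion j]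
    (W : X.Opens) (hW : W = j ''ᵁ ⊤) (n : ℕ)
    (hv : Subsingleton (Coh.HHon X (Coh.structureModule X) W n)) :
    Subsingleton (Coh.HH X' (Coh.structureModule X') n) :=
  subsingleton_HH_of_iso (FormalA.PullbackQC.pullbackUnitIso j) n
    ((HU_iff_pullback j (Coh.structureModule X) W hW n).1
      ((HU_iff_HHon (Coh.structureModule X) W n).2 hv))

include hS hW in
theorem H1_restrict (n : ℕ)
    (hR1 : ∀ U : (g.fiber s.1).Opens, IsAffineOpen U → Subsingleton (Coh.HHon ((f ≫ g).fiber s.1)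
      (Coh.structureModule ((f ≫ g).fiber s.1)) (MoreMor.fiberMap f g s.1 ⁻¹ᵁ U) n)) :
    Subsingleton (Coh.HH (((f ∣_ W) ≫ g.resLE S' W h).fiber s)
      (Coh.structureModule (((f ∣_ W) ≫ g.resLE S' W h).fiber s)) n) := by
  obtain ⟨k, l, hk, hl⟩ := exists_compare f g S' W h s
  have hk' : IsOpenImmersion k := MorphismProperty.of_isPullback (P := @IsOpenImmersion) hk.flip
    inferInstance
  have hl' : IsOpenImmersion l := MorphismProperty.of_isPullback (P := @IsOpenImmersion) hl.flip hk'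
  have := isAffine_fiber g S' W h s hS hW
  refine subsingleton_HH_structure l _ ?_ n (hR1 (k ''ᵁ ⊤) (by
    rw [Scheme.Hom.image_top_eq_opensRange]
    exact isAffineOpen_opensRange k))
  exact (image_preimage_eq hl ⊤).symm

include hS hW in
theorem surj_restrict
    (hsurj : ∀ U : (g.fiber s.1).Opens, IsAffineOpen U →
      Function.Surjective ((MoreMor.fiberMap f g s.1).app U)) :
    Function.Surjective ((MoreMor.fiberMap (f ∣_ W) (g.resLE S' W h) s).app ⊤) := by
  obtain ⟨k, l, hk, hl⟩ := exists_compare f g S' W h s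
  have hk' : IsOpenImmersion k := MorphismProperty.of_isPullback (P := @IsOpenImmersion) hk.flip
    inferInstance
  have := isAffine_fiber g S' W h s hS hW
  refine (surjective_app_iff hl ⊤).2 (hsurj _ ?_)
  rw [Scheme.Hom.image_top_eq_opensRange]
  exact isAffineOpen_opensRange k

theorem bij_restrict
    (hbij : ∀ U : (g.fiber s.1).Opens, Function.Bijective ((MoreMor.fiberMap f g s.1).app U)) :
    Function.Bijective ((MoreMor.fiberMap (f ∣_ W) (g.resLE S' W h) s).app ⊤) := by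
  obtain ⟨k, l, hk, hl⟩ := exists_compare f g S' W h s
  have hk' : IsOpenImmersion k := MorphismProperty.of_isPullback (P := @IsOpenImmersion) hk.flip
    inferInstance
  exact (bijective_app_iff hl ⊤).2 (hbij _)

end Transfer

end Groth.Agent.Flat2D.ContrRestrict
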