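import Groth.Prelude.Def_MoreMor
import Mathlib.AlgebraicGeometry.Morphisms.SmoothFiber
import Mathlib.AlgebraicGeometry.Fiber

/-!
# Fibres along thickenings
-/

set_option autoImplicit false
universe u

namespace Groth.Agent.Flat2D.DeformFib

open AlgebraicGeometry CategoryTheory Limits

/-- The residue field map of a closed immersion (more generally of a morphism surjective on stalks)
is an isomorphism. -/
lemma isIso_residueFieldMap {X Y : Scheme.{u}} (i : X ⟶ Y) [SurjectiveOnStalks i] (x : X) :
    IsIso (i.residueFieldMap x) := by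
  have h1 : Function.Surjective (i.residueFieldMap x).hom := by
    have hs : Function.Surjective (i.stalkMap x).hom := i.stalkMap_surjective x
    have h2 : Function.Surjective ((i.stalkMap x ≫ X.residue x).hom) := by
      intro z
      obtain ⟨y, rfl⟩ := Scheme.residue_surjective X x z
      obtain ⟨t, rfl⟩ := hs y
      exact ⟨t, rfl⟩
    rw [← Scheme.residue_residueFieldMap] at h2
    intro z
    obtain ⟨t, ht⟩ := h2 z
    exact ⟨(Y.residue (i x)).hom t, ht⟩
  have h2 : Function.Injective (i.residueFieldMap x).hom := (i.residueFieldMap x).hom.injective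
  rw [ConcreteCategory.isIso_iff_bijective]
  exact ⟨h2, h1⟩

/-- If `f` is the base change of `f'` along a surjective closed immersion then the scheme-theoretic
fibres of `f'` are those of `f`. -/
lemma fiberToSpecResidueField_of_isPullback {P : MorphismProperty Scheme.{u}} [P.RespectsIso]
    {X X' Y Y' : Scheme.{u}} {iX : X ⟶ X'} {iY : Y ⟶ Y'} {f : X ⟶ Y} {f' : X' ⟶ Y'}
    (hc : IsPullback iX f f' iY) [SurjectiveOnStalks iY] [Surjective iY]
    (h : ∀ y : Y, P (f.fiberToSpecResidueField y)) (y' : Y') :
    P (f'.fiberToSpecResidueField y') := by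
  obtain ⟨y, rfl⟩ := iY.surjective y'
  have hp := isPullback_fiberToSpecResidueField_of_isPullback hc y
  have := isIso_residueFieldMap iY y
  have h1 : IsIso (Spec.map (iY.residueFieldMap y)) := inferInstance
  have h2 := hp.isIso_fst_of_isIso
  refine (P.arrow_mk_iso_iff (Arrow.isoMk
    (@asIso _ _ _ _ (pullback.map f (Y.fromSpecResidueField y) f'
      (Y'.fromSpecResidueField (iY y)) iX (Spec.map (iY.residueFieldMap y)) iY
        hc.w.symm (by simp)) h2)
    (@asIso _ _ _ _ (Spec.map (iY.residueFieldMap y)) h1) ?_)).mp (h y)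
  exact hp.w

/-- From the square over `S ⟶ S'` to the square over `Y ⟶ Y'`. -/
lemma isPullback_top {X X' Y Y' S S' : Scheme.{u}} {iX : X ⟶ X'} {iY : Y ⟶ Y'} {iS : S ⟶ S'}
    {f : X ⟶ Y} {f' : X' ⟶ Y'} {g : Y ⟶ S} {g' : Y' ⟶ S'}
    (hcX : IsPullback iX (f ≫ g) (f' ≫ g') iS) (hcY : IsPullback iY g g' iS)
    (w : iX ≫ f' = f ≫ iY) : IsPullback iX f f' iY :=
  IsPullback.of_bot hcX w hcY

end Groth.Agent.Flat2D.DeformFib
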