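import Groth.Agent.Flat2D.DimMap
import Groth.Agent.Flat2D.PbStalk
import Groth.Agent.Ega4B.DimFT
import Mathlib.AlgebraicGeometry.AffineSpace
import Mathlib.AlgebraicGeometry.Noetherian
import Mathlib.AlgebraicGeometry.Fiber
import Mathlib.AlgebraicGeometry.Morphisms.Smooth
import Mathlib.RingTheory.Ideal.KrullsHeightTheorem
import Mathlib.RingTheory.KrullDimension.Field
import Mathlib.RingTheory.KrullDimension.Polynomial

/-!
# Dimension formula for flat morphisms of locally Noetherian schemes; affine space
-/

set_option autoImplicit false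
universe u

open AlgebraicGeometry CategoryTheory Limits TopologicalSpace Order IsLocalRing

namespace Groth.Agent.Flat2D.DimFlat

/-- Dimension formula for flat local homomorphisms of Noetherian local rings. -/
theorem ringKrullDim_eq_add_of_flat (R S : Type*) [CommRing R] [CommRing S] [IsLocalRing R]
    [IsNoetherianRing R] [IsLocalRing S] [IsNoetherianRing S] [Algebra R S]
    [IsLocalHom (algebraMap R S)] [Module.Flat R S] :
    ringKrullDim S = ringKrullDim R +
      ringKrullDim (S ⧸ (maximalIdeal R).map (algebraMap R S)) := by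
  have hlo : (maximalIdeal S).LiesOver (maximalIdeal R) := ⟨by
    rw [Ideal.under_def, IsLocalRing.maximalIdeal_comap]⟩
  have h := Ideal.height_eq_height_add_of_liesOver_of_hasGoingDown (maximalIdeal R) (maximalIdeal S)
  have hne : (maximalIdeal R).map (algebraMap R S) ≤ maximalIdeal S :=
    IsLocalRing.map_maximalIdeal_le (algebraMap R S)
  have hnt : Nontrivial (S ⧸ (maximalIdeal R).map (algebraMap R S)) :=
    Ideal.Quotient.nontrivial_iff.2 (fun h =>
      (maximalIdeal.isMaximal S).ne_top (top_le_iff.1 (h ▸ hne)))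
  have hloc : IsLocalRing (S ⧸ (maximalIdeal R).map (algebraMap R S)) :=
    IsLocalRing.of_surjective' (Ideal.Quotient.mk _) Ideal.Quotient.mk_surjective
  have hm : (maximalIdeal S).map (Ideal.Quotient.mk ((maximalIdeal R).map (algebraMap R S))) =
      maximalIdeal (S ⧸ (maximalIdeal R).map (algebraMap R S)) := by
    apply IsLocalRing.eq_maximalIdeal
    exact Ideal.IsMaximal.map_of_surjective_of_ker_le Ideal.Quotient.mk_surjective (by simpa using hne)
  rw [hm] at h
  rw [← maximalIdeal_height_eq_ringKrullDim, ← maximalIdeal_height_eq_ringKrullDim,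
    ← maximalIdeal_height_eq_ringKrullDim, h]
  rfl

/-- For a morphism of locally Noetherian schemes flat at `x`, the coheight of `x` is the coheight
of its image plus the coheight of `x` in its fibre. -/
theorem coheight_eq_add_fiber {X Y : Scheme.{u}} (f : X ⟶ Y) [IsLocallyNoetherian X]
    [IsLocallyNoetherian Y] (x : X) (hf : (f.stalkMap x).hom.Flat) :
    Order.coheight x = Order.coheight (f x) + Order.coheight (f.asFiber x) := by
  algebraize [(f.stalkMap x).hom]
  have : IsLocalHom (algebraMap (Y.presheaf.stalk (f x)) (X.presheaf.stalk x)) :=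
    inferInstanceAs <| IsLocalHom (f.stalkMap x).hom
  have h := ringKrullDim_eq_add_of_flat (Y.presheaf.stalk (f x)) (X.presheaf.stalk x)
  have e : ringKrullDim (X.presheaf.stalk x ⧸ (maximalIdeal (Y.presheaf.stalk (f x))).map
      (algebraMap (Y.presheaf.stalk (f x)) (X.presheaf.stalk x))) =
      ringKrullDim ((f.fiber (f x)).presheaf.stalk (f.asFiber x)) :=
    ringKrullDim_eq_of_ringEquiv (PbStalk.fiberStalkEquiv f x)
  rw [e, ringKrullDim_stalk_eq_coheight, ringKrullDim_stalk_eq_coheight,
    ringKrullDim_stalk_eq_coheight] at h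
  exact_mod_cast h

/-- Version of `coheight_eq_add_fiber` for a point of a fibre. -/
theorem coheight_fiberι {X Y : Scheme.{u}} (f : X ⟶ Y) [IsLocallyNoetherian X]
    [IsLocallyNoetherian Y] [Flat f] (y : Y) (z : f.fiber y) :
    Order.coheight (f.fiberι y z) = Order.coheight y + Order.coheight z := by
  obtain ⟨x, hx⟩ : ∃ x, f.fiberι y z = x := ⟨_, rfl⟩
  have hy : f x = y := by
    have : f.fiberι y z ∈ f ⁻¹' {y} := by
      rw [← f.range_fiberι y]
      exact ⟨z, rfl⟩
    rw [hx] at this
    exact this
  subst hy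
  have hz : z = f.asFiber x := by
    apply (f.fiberι (f x)).isEmbedding.injective
    rw [hx, f.fiberι_asFiber]
  rw [hz, f.fiberι_asFiber]
  exact coheight_eq_add_fiber f x (Flat.stalkMap f x)

/-- Affine space is flat over its base. -/
theorem flat_affineSpace (n : Type u) (S : Scheme.{u}) : Flat (𝔸(n; S) ↘ S) := by
  wlog hS : ∃ R, S = Spec R
  · refine (IsZariskiLocalAtTarget.iff_of_openCover (P := @Flat) S.affineCover).mpr ?_
    intro i
    have := this (n := n) (S.affineCover.X i) ⟨_, rfl⟩
    rwa [← (AffineSpace.isPullback_map (n := n) (S.affineCover.f i)).isoPullback_hom_snd,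
      MorphismProperty.cancel_left_of_respectsIso (P := @Flat)] at this
  obtain ⟨R, rfl⟩ := hS
  rw [← MorphismProperty.cancel_left_of_respectsIso (P := @Flat)
    (AffineSpace.SpecIso n R).inv, AffineSpace.SpecIso_inv_over]
  rw [HasRingHomProperty.Spec_iff (P := @Flat)]
  change (MvPolynomial.C : R →+* MvPolynomial n R).Flat
  have : (algebraMap R (MvPolynomial n R)).Flat := by
    rw [RingHom.flat_algebraMap_iff]
    infer_instance
  exact this

/-- Heights of primes in a polynomial ring in finitely many variables over a field. -/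
theorem height_le_card {n : Type u} [Finite n] {k : Type u} [Field k]
    (P : Ideal (MvPolynomial n k)) [P.IsPrime] : P.height ≤ Nat.card n := by
  have h1 : (P.height : WithBot ℕ∞) ≤ ringKrullDim (MvPolynomial n k) :=
    Ideal.height_le_ringKrullDim_of_isPrime
  rw [MvPolynomial.ringKrullDim_of_isNoetherianRing, ringKrullDim_eq_zero_of_field, zero_add] at h1
  exact_mod_cast h1

theorem height_eq_card_of_isMaximal {n : Type u} [Finite n] {k : Type u} [Field k]
    (P : Ideal (MvPolynomial n k)) [P.IsMaximal] : P.height = Nat.card n := by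
  let e := (MvPolynomial.renameEquiv k (Finite.equivFin n)).toRingEquiv
  have hP' : (P.map e).IsMaximal := Ideal.map_isMaximal_of_equiv e
  have h1 : (P.map e).height = P.height := RingEquiv.height_map e P
  rw [← h1]
  exact Ega4B.DimFT.height_eq_of_isMaximal_mvPolynomial_fin k _ _

/-- The fibre of affine space. -/
theorem exists_iso_fiber_affineSpace (n : Type u) (S : Scheme.{u}) (s : S) :
    Nonempty ((𝔸(n; S) ↘ S).fiber s ≅ Spec (.of (MvPolynomial n (S.residueField s)))) := by
  have h := AffineSpace.isPullback_map (n := n) (S.fromSpecResidueField s)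
  exact ⟨h.isoPullback.symm ≪≫ AffineSpace.SpecIso n (S.residueField s)⟩

theorem coheight_iso {X Y : Scheme.{u}} (e : X ≅ Y) (x : X) :
    Order.coheight (e.hom x) = Order.coheight x :=
  coheight_eq_of_isOpenImmersion e.hom

theorem coheight_fiber_le (n : Type u) [Finite n] (S : Scheme.{u}) (s : S)
    (z : (𝔸(n; S) ↘ S).fiber s) : Order.coheight z ≤ Nat.card n := by
  obtain ⟨e⟩ := exists_iso_fiber_affineSpace n S s
  rw [← coheight_iso e z, ← idealHeight_eq_coheight]
  exact height_le_card _

theorem coheight_fiber_eq (n : Type u) [Finite n] (S : Scheme.{u}) (s : S)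
    (z : (𝔸(n; S) ↘ S).fiber s) (hz : IsClosed {z}) : Order.coheight z = Nat.card n := by
  obtain ⟨e⟩ := exists_iso_fiber_affineSpace n S s
  rw [← coheight_iso e z, ← idealHeight_eq_coheight]
  have h1 : IsClosed {e.hom z} := by
    have := e.hom.homeomorph.isClosedMap _ hz
    simpa using this
  have : (e.hom z).asIdeal.IsMaximal := (PrimeSpectrum.isClosed_singleton_iff_isMaximal _).mp h1
  exact height_eq_card_of_isMaximal _

/-- Upper bound for coheights in affine space. -/
theorem coheight_affineSpace_le (n : Type u) [Finite n] (S : Scheme.{u}) [IsLocallyNoetherian S]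
    (z : 𝔸(n; S)) : Order.coheight z ≤ Order.coheight ((𝔸(n; S) ↘ S) z) + Nat.card n := by
  have : IsLocallyNoetherian 𝔸(n; S) := LocallyOfFiniteType.isLocallyNoetherian (𝔸(n; S) ↘ S)
  have := flat_affineSpace n S
  rw [coheight_eq_add_fiber (𝔸(n; S) ↘ S) z (Flat.stalkMap _ z)]
  exact add_le_add le_rfl (coheight_fiber_le n S _ _)

/-- In every nonempty open subset of a fibre of affine space there are points of maximal
coheight. -/
theorem exists_coheight_affineSpace_eq (n : Type u) [Finite n] (S : Scheme.{u})
    [IsLocallyNoetherian S] (V : (𝔸(n; S)).Opens) (z : 𝔸(n; S)) (hz : z ∈ V) :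
    ∃ w ∈ V, (𝔸(n; S) ↘ S) w = (𝔸(n; S) ↘ S) z ∧
      Order.coheight w = Order.coheight ((𝔸(n; S) ↘ S) z) + Nat.card n := by
  have : IsLocallyNoetherian 𝔸(n; S) := LocallyOfFiniteType.isLocallyNoetherian (𝔸(n; S) ↘ S)
  have := flat_affineSpace n S
  set π := 𝔸(n; S) ↘ S with hπ
  set s := π z with hs
  have hopen : IsOpen ((π.fiberι s) ⁻¹' (V : Set 𝔸(n; S))) := V.isOpen.preimage (π.fiberι s).continuous
  have hne : ((π.fiberι s) ⁻¹' (V : Set 𝔸(n; S))).Nonempty :=
    ⟨π.asFiber z, by rw [Set.mem_preimage, π.fiberι_asFiber]; exact hz⟩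
  obtain ⟨w, hw, hwc⟩ := nonempty_inter_closedPoints hne hopen.isLocallyClosed
  refine ⟨π.fiberι s w, hw, ?_, ?_⟩
  · have : π.fiberι s w ∈ π ⁻¹' {s} := by
      rw [← π.range_fiberι s]
      exact ⟨w, rfl⟩
    exact this
  · rw [coheight_fiberι, coheight_fiber_eq n S s w hwc]

end Groth.Agent.Flat2D.DimFlat
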