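import Groth.Agent.Flat2D.DimFlat
import Mathlib.Data.ENat.Lattice

/-!
# Local dimension of affine space over a locally Noetherian scheme; finiteness of the fibre
dimension
-/

set_option autoImplicit false
universe u

open AlgebraicGeometry CategoryTheory Limits TopologicalSpace Order IsLocalRing

namespace Groth.Agent.Flat2D.DimLoc

open DimMap DimFlat

/-- `dim_z A^n_S = dim_{π z} S + n` for `S` locally Noetherian. -/
theorem localDim_affineSpace (n : Type u) [Finite n] (S : Scheme.{u}) [IsLocallyNoetherian S]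
    (z : 𝔸(n; S)) :
    FlatMor.localDim 𝔸(n; S) z = FlatMor.localDim S ((𝔸(n; S) ↘ S) z) + (Nat.card n : ℕ) := by
  set π := 𝔸(n; S) ↘ S with hπ
  apply le_antisymm
  · have hne : Nonempty {U : Opens S // π z ∈ U} := ⟨⟨⊤, trivial⟩⟩
    obtain ⟨V, hV⟩ := ciInf_mem (fun U : {U : Opens S // π z ∈ U} =>
      topologicalKrullDim (U.1 : Set S))
    have h1 : FlatMor.localDim S (π z) = topologicalKrullDim (V.1 : Set S) := hV.symm
    rw [h1]
    refine (iInf_le _ (⟨π ⁻¹ᵁ V.1, V.2⟩ : {U : Opens 𝔸(n; S) // z ∈ U})).trans ?_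
    refine krullDim_opens_le _ fun y hy => ?_
    refine (WithBot.coe_le_coe.mpr (coheight_affineSpace_le n S y)).trans ?_
    push_cast
    exact add_le_add (le_krullDim_opens V.1 hy) le_rfl
  · refine le_iInf fun V => ?_
    have hopen : IsOpen (π '' (V.1 : Set 𝔸(n; S))) := AffineSpace.isOpenMap_over S _ V.1.isOpen
    let W : Opens S := ⟨π '' (V.1 : Set 𝔸(n; S)), hopen⟩
    have hzW : π z ∈ W := ⟨z, V.2, rfl⟩
    have h1 : FlatMor.localDim S (π z) ≤ topologicalKrullDim (W : Set S) :=
      iInf_le (fun U : {U : Opens S // π z ∈ U} => topologicalKrullDim (U.1 : Set S)) ⟨W, hzW⟩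
    refine (add_le_add h1 le_rfl).trans ?_
    have hW := krullDim_opens (X := S) W ⟨_, hzW⟩
    rw [hW]
    have hVd := krullDim_opens (X := 𝔸(n; S)) V.1 ⟨z, V.2⟩
    rw [hVd]
    have key : (⨆ x : W, Order.coheight (x : S)) + (Nat.card n : ℕ∞) ≤
        ⨆ x : V.1, Order.coheight (x : 𝔸(n; S)) := by
      have : Nonempty (↥W) := ⟨⟨π z, hzW⟩⟩
      rw [ENat.iSup_add]
      refine iSup_le ?_
      rintro ⟨_, v, hv, rfl⟩
      obtain ⟨w, hw, -, hw3⟩ := exists_coheight_affineSpace_eq n S V.1 v hv
      dsimp only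
      rw [← hw3]
      exact le_iSup (fun x : V.1 => Order.coheight (x : 𝔸(n; S))) ⟨w, hw⟩
    exact_mod_cast key

/-- The dimension of an affine scheme of finite type over a field is finite. -/
theorem ringKrullDim_le_of_finiteType {K B : Type u} [Field K] [CommRing B] (φ : K →+* B)
    (hφ : φ.FiniteType) : ∃ n : ℕ, ringKrullDim B ≤ n := by
  algebraize [φ]
  obtain ⟨n, f, hf⟩ := Algebra.FiniteType.iff_quotient_mvPolynomial''.mp
    (inferInstance : Algebra.FiniteType K B)
  refine ⟨n, ?_⟩
  have h1 := ringKrullDim_le_of_surjective f.toRingHom hf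
  rw [MvPolynomial.ringKrullDim_of_isNoetherianRing, ringKrullDim_eq_zero_of_field, zero_add] at h1
  simpa using h1

/-- A scheme locally of finite type over a field has finite local dimension at every point. -/
theorem exists_localDim_eq {X : Scheme.{u}} {K : Type u} [Field K]
    (f : X ⟶ Spec (.of K)) [LocallyOfFiniteType f] (x : X) :
    ∃ d : ℕ, FlatMor.localDim X x = d := by
  obtain ⟨_, ⟨U, hU, rfl⟩, hxU, -⟩ :=
    X.isBasis_affineOpens.exists_subset_of_mem_open (Set.mem_univ x) isOpen_univ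
  have hle : FlatMor.localDim X x ≤ topologicalKrullDim (U : Set X) :=
    iInf_le (fun U : {U : Opens X // x ∈ U} => topologicalKrullDim (U.1 : Set X)) ⟨U, hxU⟩
  have hge : 0 ≤ FlatMor.localDim X x := by
    refine le_iInf fun V => ?_
    refine le_trans ?_ (le_krullDim_opens V.1 V.2)
    exact_mod_cast zero_le
  have hfin : (f.appLE ⊤ U le_top).hom.FiniteType :=
    f.finiteType_appLE (isAffineOpen_top _) hU _
  let e : K ≃+* Γ(Spec (.of K), ⊤) := (Scheme.ΓSpecIso (.of K)).symm.commRingCatIsoToRingEquiv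
  obtain ⟨n, hn⟩ := ringKrullDim_le_of_finiteType ((f.appLE ⊤ U le_top).hom.comp e.toRingHom)
    (hfin.comp (RingHom.FiniteType.of_surjective _ e.surjective))
  have hdim : topologicalKrullDim (U : Set X) = ringKrullDim Γ(X, U) := by
    change topologicalKrullDim (Scheme.Opens.toScheme U) = _
    rw [IsHomeomorph.topologicalKrullDim_eq _ (hU.isoSpec.hom.homeomorph.isHomeomorph)]
    exact PrimeSpectrum.topologicalKrullDim_eq_ringKrullDim _
  rw [hdim] at hle
  have hle' := hle.trans hn
  generalize FlatMor.localDim X x = d at hge hle'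
  induction d with
  | bot => simp at hge
  | coe d =>
    have h2 : d ≤ (n : ℕ∞) := by exact_mod_cast hle'
    have h3 : d ≠ ⊤ := ne_top_of_le_ne_top (ENat.natCast_ne_top n) h2
    obtain ⟨m, rfl⟩ := ENat.ne_top_iff_exists.mp h3
    exact ⟨m, rfl⟩

end Groth.Agent.Flat2D.DimLoc
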