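import Groth.Agent.Flat2D.EtNbhd4

set_option autoImplicit false
universe u

open AlgebraicGeometry CategoryTheory Limits

namespace Groth.Agent.Flat2D.EtNbhd

lemma isEtaleNbhd_id (S : Scheme.{u}) (s : S) : Hens2.IsEtaleNbhd (𝟙 S) s s :=
  ⟨inferInstance, rfl, by rw [Scheme.residueFieldMap_id]; exact Function.bijective_id⟩

theorem exists_forall_split {X S : Scheme.{u}} (f : X ⟶ S) [LocallyOfFiniteType f] (s : S) {ι : Type*}
    [Finite ι] (x : ι → ↑X) (hs : ∀ i, f (x i) = s) (hx : ∀ i, f.QuasiFiniteAt (x i)) :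
    ∃ (U : Scheme.{u}) (g : U ⟶ S) (u : U), Hens2.IsEtaleNbhd g u s ∧ ∀ i, Split f (x i) g u := by
  classical
  have := Fintype.ofFinite ι
  suffices H : ∀ T : Finset ι, ∃ (U : Scheme.{u}) (g : U ⟶ S) (u : U), Hens2.IsEtaleNbhd g u s ∧
      ∀ i ∈ T, Split f (x i) g u by
    obtain ⟨U, g, u, h1, h2⟩ := H Finset.univ
    exact ⟨U, g, u, h1, fun i => h2 i (Finset.mem_univ i)⟩
  intro T
  induction T using Finset.induction_on with
  | empty => exact ⟨S, 𝟙 S, s, isEtaleNbhd_id S s, by simp⟩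
  | insert i T hi ih =>
    obtain ⟨U, g, u, h1, h2⟩ := ih
    obtain ⟨U', g', u', h1', h2'⟩ := exists_split f (x i) (hx i)
    rw [hs i] at h1'
    obtain ⟨W, a, b, w, hw, ha, hb⟩ := exists_common_refinement h1 h1'
    refine ⟨W, a ≫ g, w, isEtaleNbhd_comp h1 ha, ?_⟩
    intro j hj
    rw [Finset.mem_insert] at hj
    rcases hj with rfl | hj
    · rw [hw]
      exact h2'.refine b w hb.base_eq hb.residue_bijective
    · exact (h2 j hj).refine a w ha.base_eq ha.residue_bijective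

end Groth.Agent.Flat2D.EtNbhd
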