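import Groth.Agent.Flat2D.EtNbhd3
import Groth.Agent.Flat2E.EtaleResField
import Mathlib.AlgebraicGeometry.Morphisms.Etale

set_option autoImplicit false
universe u

open AlgebraicGeometry CategoryTheory Limits

namespace Groth.Agent.Flat2D.EtaleResSch

open Groth.Agent.Flat2D.EtNbhd

/-- Étale neighbourhoods with prescribed finite separable residue field extension. -/
theorem exists_etale_residueField {S : Scheme.{u}} (s : S) (L : Type u) [Field L]
    [Algebra (S.residueField s) L] [FiniteDimensional (S.residueField s) L] [Algebra.IsSeparable (S.residueField s) L] :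
    ∃ (U : Scheme.{u}) (g : U ⟶ S) (u : U) (h : g u = s) (ρ : L →+* U.residueField u), Etale g ∧
      CommRingCat.ofHom (ρ.comp (algebraMap (S.residueField s) L)) =
        (S.residueFieldCongr h.symm).hom ≫ g.residueFieldMap u := by
  obtain ⟨R, ι, hι, p, rfl⟩ : ∃ (R : CommRingCat.{u}) (ι : Spec R ⟶ S) (_ : IsOpenImmersion ι) (p : Spec R), ι p = s := by
    obtain ⟨W, hW, hsW, -⟩ := TopologicalSpace.Opens.isBasis_iff_nbhd.mp S.isBasis_affineOpens
      (show s ∈ (⊤ : S.Opens) from trivial)
    have hW' : IsAffineOpen W := hW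
    exact ⟨_, hW'.fromSpec, inferInstance, hW'.primeIdealOf ⟨s, hsW⟩, hW'.fromSpec_primeIdealOf ⟨s, hsW⟩⟩
  have hpp : p.asIdeal.IsPrime := p.isPrime
  let a : S.residueField (ι p) ⟶ CommRingCat.of p.asIdeal.ResidueField :=
    ι.residueFieldMap p ≫ (Scheme.Spec.residueFieldIso R p).hom
  have ha : IsIso a := inferInstance
  let ψ : p.asIdeal.ResidueField ≃+* S.residueField (ι p) := (asIso a).symm.commRingCatIsoToRingEquiv
  have hψ : ∀ x, ψ (a.hom x) = x := fun x => (asIso a).commRingCatIsoToRingEquiv.symm_apply_apply x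
  let _ : Algebra p.asIdeal.ResidueField L := ((algebraMap (S.residueField (ι p)) L).comp ψ.toRingHom).toAlgebra
  have halg : ∀ x, algebraMap p.asIdeal.ResidueField L x = algebraMap (S.residueField (ι p)) L (ψ x) := fun x => rfl
  have _ : FiniteDimensional p.asIdeal.ResidueField L := by
    have h1 : (algebraMap (S.residueField (ι p)) L).Finite := RingHom.finite_algebraMap.mpr inferInstance
    have h2 : ψ.toRingHom.Finite := RingHom.Finite.of_surjective _ ψ.surjective
    exact h1.comp h2
  have _ : Algebra.IsSeparable p.asIdeal.ResidueField L :=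
    Algebra.IsSeparable.of_equiv_equiv ψ.symm (RingEquiv.refl L) (by
      apply RingHom.ext
      intro x
      change algebraMap p.asIdeal.ResidueField L (ψ.symm x) = algebraMap (S.residueField (ι p)) L x
      rw [halg, RingEquiv.apply_symm_apply])
  obtain ⟨R', _, _, _, P, _, _, e, he⟩ :=
    Groth.Agent.Flat2E.EtaleResField.exists_etale_residueField_equiv (R := R) p.asIdeal L
  let φ : R ⟶ CommRingCat.of R' := CommRingCat.ofHom (algebraMap R R')
  let P' : Spec (CommRingCat.of R') := ⟨P, inferInstance⟩
  have hφP : Spec.map φ P' = p := PrimeSpectrum.ext (P.over_def p.asIdeal).symm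
  have hφP' : p.asIdeal = P'.asIdeal.comap φ.hom := P.over_def p.asIdeal
  have hg : (Spec.map φ ≫ ι) P' = ι p := by rw [Scheme.Hom.comp_apply, hφP]
  let c : CommRingCat.of P.ResidueField ≅ (Spec (.of R')).residueField P' := (Scheme.Spec.residueFieldIso (.of R') P').symm
  refine ⟨Spec (.of R'), Spec.map φ ≫ ι, P', hg, c.hom.hom.comp e.toRingHom, ?_, ?_⟩
  · have : Etale (Spec.map φ) := by
      rw [HasRingHomProperty.Spec_iff (P := @Etale)]
      exact RingHom.etale_algebraMap.mpr inferInstance
    infer_instance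
  · have h1 := residueFieldMap_SpecMap_eq φ p P' hφP hφP'
    have h2 : CommRingCat.ofHom ((c.hom.hom.comp e.toRingHom).comp (algebraMap (S.residueField (ι p)) L)) =
        a ≫ CommRingCat.ofHom (Ideal.ResidueField.map p.asIdeal P'.asIdeal φ.hom hφP') ≫ c.hom := by
      ext x
      have h3 := he (a.hom x)
      rw [halg, hψ] at h3
      exact congr(c.hom.hom $h3)
    rw [h2, ← h1]
    simp only [a, c, Category.assoc, Iso.symm_hom, Iso.hom_inv_id, Category.comp_id, Iso.hom_inv_id_assoc,
      Scheme.residueFieldMap_comp]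
    have h4 : ∀ (q : Spec R) (hq : q = p) (hq' : ι q = ι p),
        ι.residueFieldMap p ≫ ((Spec R).residueFieldCongr hq.symm).hom =
          (S.residueFieldCongr hq'.symm).hom ≫ ι.residueFieldMap q := by
      rintro q rfl _
      simp
    have h5 := h4 (Spec.map φ P') hφP (by rw [hφP])
    rw [← Category.assoc, h5, Category.assoc]
    rfl

end Groth.Agent.Flat2D.EtaleResSch
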