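import Groth.Agent.Ega4B.DimFT
import Mathlib.RingTheory.LocalRing.ResidueField.Fiber
import Mathlib.RingTheory.Spectrum.Prime.Chevalley
import Mathlib.RingTheory.KrullDimension.NonZeroDivisors
import Mathlib.RingTheory.MvPolynomial.Basic

/-!
# Dimension of fibres and generic points of affine spaces

For an `A`-algebra `B` generated by `x : Fin r → B`, the fibre ring `κ(p) ⊗ B` has dimension `≥ d` iff for
some injection `ι : Fin d ↪ Fin r` the prime `p A[X_1..X_d]` is in the range of
`Spec B → Spec A[X_1..X_d]` given by `X_i ↦ x (ι i)`.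
-/

set_option autoImplicit false

namespace Groth.Agent.Flat2D.FibDimAlg

open Ideal MvPolynomial TensorProduct

universe u v

/-- chain criterion via a quotient by a prime. -/
theorem exists_prime_le_ringKrullDim_quotient {C : Type*} [CommRing C] {d : ℕ}
    (hd : (d : WithBot ℕ∞) ≤ ringKrullDim C) :
    ∃ Q : PrimeSpectrum C, (d : WithBot ℕ∞) ≤ ringKrullDim (C ⧸ Q.asIdeal) := by
  obtain ⟨l, hl⟩ := Order.le_krullDim_iff.mp hd
  refine ⟨l.head, ?_⟩
  rw [ringKrullDim_quotient]
  refine Order.le_krullDim_iff.mpr ⟨LTSeries.mk l.length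
    (fun i => ⟨l i, (PrimeSpectrum.mem_zeroLocus _ _).mpr ?_⟩) ?_, hl⟩
  · exact (l.strictMono.monotone (Fin.zero_le i) : l 0 ≤ l i)
  · intro i j hij
    exact l.strictMono hij

/-- If a finite type algebra over a field generated by `x` has dimension at least `d`, then `d` of
the generators are algebraically independent modulo some prime. -/
theorem exists_algebraicIndependent_of_le_ringKrullDim {k : Type u} {C : Type v} [Field k]
    [CommRing C] [Algebra k C] {r : ℕ} (x : Fin r → C)
    (hx : Algebra.adjoin k (Set.range x) = ⊤) {d : ℕ}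
    (hd : (d : WithBot ℕ∞) ≤ ringKrullDim C) :
    ∃ (Q : PrimeSpectrum C) (ι : Fin d ↪ Fin r), ∀ g : MvPolynomial (Fin d) k,
      MvPolynomial.aeval (fun i => x (ι i)) g ∈ Q.asIdeal → g = 0 := by
  obtain ⟨Q, hQ⟩ := exists_prime_le_ringKrullDim_quotient hd
  have : Algebra.FiniteType k C := ⟨⟨(Set.finite_range x).toFinset, by simpa using hx⟩⟩
  have : Algebra.FiniteType k (C ⧸ Q.asIdeal) :=
    Algebra.FiniteType.of_surjective (Ideal.Quotient.mkₐ k Q.asIdeal)
      (Ideal.Quotient.mkₐ_surjective _ _)
  obtain ⟨n, hn, hn'⟩ := Groth.Agent.Ega4B.DimFT.exists_dim k (C ⧸ Q.asIdeal)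
  have hdn : d ≤ n := by
    rw [hn'] at hQ
    exact_mod_cast hQ
  let y : Fin r → C ⧸ Q.asIdeal := fun i => Ideal.Quotient.mk Q.asIdeal (x i)
  have hy : Algebra.adjoin k (Set.range y) = ⊤ := by
    have h1 : Set.range y = (Ideal.Quotient.mkₐ k Q.asIdeal) '' Set.range x := by
      rw [← Set.range_comp]; rfl
    rw [h1, ← AlgHom.map_adjoin, hx, Algebra.map_top, AlgHom.range_eq_top]
    exact Ideal.Quotient.mkₐ_surjective _ _
  have halg : Algebra.IsAlgebraic (Algebra.adjoin k (Set.range y)) (C ⧸ Q.asIdeal) := by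
    constructor
    intro z
    have hz : z ∈ Algebra.adjoin k (Set.range y) := hy ▸ Algebra.mem_top
    exact isAlgebraic_algebraMap (⟨z, hz⟩ : Algebra.adjoin k (Set.range y))
  obtain ⟨t, hts, ht⟩ := exists_isTranscendenceBasis_subset (R := k) (A := C ⧸ Q.asIdeal)
    (Set.range y)
  have hcard := ht.cardinalMk_eq_trdeg
  rw [hn] at hcard
  have htfin : t.Finite := (Set.finite_range y).subset hts
  have hcard' : Nat.card t = n := by
    rw [Nat.card, hcard]; simp
  have : Finite t := htfin
  obtain ⟨e⟩ : Nonempty (Fin d ↪ t) := by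
    refine ⟨(Fin.castLEEmb (hdn.trans hcard'.ge)).trans (Finite.equivFin t).symm.toEmbedding⟩
  choose g hg using fun z : t => hts z.2
  refine ⟨Q, ⟨fun i => g (e i), fun i j hij => ?_⟩, ?_⟩
  · have : y (g (e i)) = y (g (e j)) := by simp only at hij; rw [hij]
    rw [hg, hg] at this
    exact e.injective (Subtype.ext this)
  · have h3 : AlgebraicIndependent k (fun i => y (g (e i))) := by
      have := ht.1.comp e e.injective
      convert this using 1
      funext i
      exact hg (e i)
    rw [algebraicIndependent_iff] at h3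
    intro h hh
    apply h3
    rw [← Ideal.Quotient.eq_zero_iff_mem] at hh
    have h4 := MvPolynomial.comp_aeval_apply (f := fun i => x (g (e i)))
      (Ideal.Quotient.mkₐ k Q.asIdeal) h
    exact h4.symm.trans hh

/-- Conversely. -/
theorem le_ringKrullDim_of_algebraicIndependent {k : Type u} {C : Type v} [Field k]
    [CommRing C] [Algebra k C] [Algebra.FiniteType k C] {d : ℕ} (Q : PrimeSpectrum C)
    (y : Fin d → C) (hy : ∀ g : MvPolynomial (Fin d) k,
      MvPolynomial.aeval y g ∈ Q.asIdeal → g = 0) :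
    (d : WithBot ℕ∞) ≤ ringKrullDim C := by
  have : Algebra.FiniteType k (C ⧸ Q.asIdeal) :=
    Algebra.FiniteType.of_surjective (Ideal.Quotient.mkₐ k Q.asIdeal)
      (Ideal.Quotient.mkₐ_surjective _ _)
  obtain ⟨n, hn, hn'⟩ := Groth.Agent.Ega4B.DimFT.exists_dim k (C ⧸ Q.asIdeal)
  refine le_trans ?_ (ringKrullDim_quotient_le Q.asIdeal)
  rw [hn']
  have hy' : AlgebraicIndependent k (fun i => Ideal.Quotient.mkₐ k Q.asIdeal (y i)) := by
    rw [algebraicIndependent_iff]
    intro g hg
    apply hy
    rw [← MvPolynomial.comp_aeval_apply] at hg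
    rw [← Ideal.Quotient.eq_zero_iff_mem]
    exact hg
  have h := hy'.lift_cardinalMk_le_trdeg
  rw [hn] at h
  simp at h
  exact_mod_cast h

theorem exists_smul_eq_map {A : Type u} [CommRing A] (p : Ideal A) [p.IsPrime] {σ : Type v}
    (g : MvPolynomial σ p.ResidueField) :
    ∃ a ∉ p, ∃ f : MvPolynomial σ A, a • g = MvPolynomial.map (algebraMap A p.ResidueField) f := by
  classical
  obtain ⟨a, ha, f, hf⟩ := Ideal.Fiber.exists_smul_eq_one_tmul (S := MvPolynomial σ A) (p := p)
    ((MvPolynomial.algebraTensorAlgEquiv A p.ResidueField (σ := σ)).symm g)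
  refine ⟨a, ha, f, ?_⟩
  have := congrArg (MvPolynomial.algebraTensorAlgEquiv A p.ResidueField (σ := σ)) hf
  rw [MvPolynomial.algebraTensorAlgEquiv_tmul, one_smul] at this
  rw [← this, algebra_compatible_smul p.ResidueField a, algebra_compatible_smul p.ResidueField a,
    map_smul, AlgEquiv.apply_symm_apply]

theorem map_eq_zero_iff_mem {A : Type u} [CommRing A] (p : Ideal A) [p.IsPrime] {σ : Type v}
    (f : MvPolynomial σ A) :
    MvPolynomial.map (algebraMap A p.ResidueField) f = 0 ↔ f ∈ Ideal.map MvPolynomial.C p := by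
  classical
  rw [MvPolynomial.mem_map_C_iff, MvPolynomial.ext_iff]
  simp [MvPolynomial.coeff_map]

/-- abstract form: algebraic independence over the residue field vs. contraction. -/
theorem algebraicIndependent_iff_comap_comap {A : Type u} {B : Type v} {D : Type*} [CommRing A]
    [CommRing B] [CommRing D] [Algebra A B] (p : Ideal A) [p.IsPrime] [Algebra p.ResidueField D]
    (φ : B →+* D) (hφ : (algebraMap p.ResidueField D).comp (algebraMap A p.ResidueField) =
      φ.comp (algebraMap A B)) {d : ℕ} (y : Fin d → B) (Q : Ideal D) :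
    (∀ g : MvPolynomial (Fin d) p.ResidueField,
      MvPolynomial.aeval (fun i => φ (y i)) g ∈ Q → g = 0) ↔
      Ideal.comap (MvPolynomial.aeval y : MvPolynomial (Fin d) A →ₐ[A] B) (Ideal.comap φ Q) =
          Ideal.map MvPolynomial.C p := by
  have key : ∀ (f : MvPolynomial (Fin d) A),
      MvPolynomial.aeval (fun i => φ (y i))
        (MvPolynomial.map (algebraMap A p.ResidueField) f) = φ (MvPolynomial.aeval y f) := by
    intro f
    rw [MvPolynomial.aeval_def, MvPolynomial.aeval_def, MvPolynomial.eval₂_comp_left,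
      MvPolynomial.eval₂_map, hφ]
    rfl
  constructor
  · intro h
    ext f
    rw [← map_eq_zero_iff_mem, Ideal.mem_comap, Ideal.mem_comap]
    change φ (MvPolynomial.aeval y f) ∈ Q ↔ _
    rw [← key]
    constructor
    · exact h _
    · intro h0
      rw [h0, map_zero]
      exact Q.zero_mem
  · intro h g hg
    obtain ⟨a, ha, f, hf⟩ := exists_smul_eq_map p g
    have h1 : MvPolynomial.aeval (fun i => φ (y i))
        (MvPolynomial.map (algebraMap A p.ResidueField) f) ∈ Q := by
      rw [← hf, algebra_compatible_smul p.ResidueField a, map_smul, Algebra.smul_def]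
      exact Q.mul_mem_left _ hg
    rw [key] at h1
    have h2 : f ∈ Ideal.map MvPolynomial.C p := by
      rw [← h, Ideal.mem_comap, Ideal.mem_comap]
      exact h1
    rw [← map_eq_zero_iff_mem] at h2
    rw [h2, algebra_compatible_smul p.ResidueField a] at hf
    have ha' : algebraMap A p.ResidueField a ≠ 0 := by
      rwa [Ne, Ideal.algebraMap_residueField_eq_zero]
    exact (smul_eq_zero_iff_right ha').mp hf

theorem includeRight_comp (A : Type u) (B : Type v) [CommRing A] [CommRing B]
    [Algebra A B] (p : Ideal A) [p.IsPrime] :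
    (algebraMap p.ResidueField (p.Fiber B)).comp (algebraMap A p.ResidueField) =
      (Algebra.TensorProduct.includeRight : B →ₐ[A] p.Fiber B).toRingHom.comp (algebraMap A B) := by
  ext a
  change (algebraMap A p.ResidueField a) ⊗ₜ[A] (1 : B) =
        (1 : p.ResidueField) ⊗ₜ[A] (algebraMap A B a)
  rw [Algebra.algebraMap_eq_smul_one, Algebra.algebraMap_eq_smul_one, TensorProduct.smul_tmul]

/-- For an `A`-algebra `B` generated by `x : Fin r → B`, the fibre ring over `p` has dimension `≥ d` iff for
some injection `ι : Fin d ↪ Fin r` the prime `p A[X_1..X_d]` is in the range of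
`Spec B → Spec A[X_1..X_d]`. -/
theorem le_ringKrullDim_fiber_iff {A : Type u} {B : Type v} [CommRing A] [CommRing B] [Algebra A B]
    {r : ℕ} (x : Fin r → B) (hx : Algebra.adjoin A (Set.range x) = ⊤) (p : PrimeSpectrum A) (d : ℕ) :
    (d : WithBot ℕ∞) ≤ ringKrullDim (p.asIdeal.Fiber B) ↔
      ∃ ι : Fin d ↪ Fin r, ∃ q : PrimeSpectrum B,
        Ideal.comap (MvPolynomial.aeval (fun i => x (ι i)) : MvPolynomial (Fin d) A →ₐ[A] B)
          q.asIdeal = Ideal.map MvPolynomial.C p.asIdeal := by
  have : Algebra.FiniteType A B := ⟨⟨(Set.finite_range x).toFinset, by simpa using hx⟩⟩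
  let x' : Fin r → p.asIdeal.Fiber B := fun i => 1 ⊗ₜ x i
  have hx' : Algebra.adjoin p.asIdeal.ResidueField (Set.range x') = ⊤ := by
    have := Algebra.TensorProduct.adjoin_one_tmul_image_eq_top (R := A)
      (A := p.asIdeal.ResidueField) (B := B) _ hx
    rw [← Set.range_comp] at this
    exact this
  have key := fun (ι : Fin d ↪ Fin r) (Q : Ideal (p.asIdeal.Fiber B)) =>
    algebraicIndependent_iff_comap_comap p.asIdeal
      (Algebra.TensorProduct.includeRight : B →ₐ[A] p.asIdeal.Fiber B).toRingHom
      (includeRight_comp A B p.asIdeal) (fun i => x (ι i)) Q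
  constructor
  · intro h
    obtain ⟨Q, ι, hι⟩ := exists_algebraicIndependent_of_le_ringKrullDim x' hx' h
    refine ⟨ι, PrimeSpectrum.comap (Algebra.TensorProduct.includeRight :
      B →ₐ[A] p.asIdeal.Fiber B).toRingHom Q, ?_⟩
    exact (key ι Q.asIdeal).mp hι
  · rintro ⟨ι, q, hq⟩
    have hqp : PrimeSpectrum.comap (algebraMap A B) q = p := by
      ext a
      have : (MvPolynomial.C a : MvPolynomial (Fin d) A) ∈
        Ideal.comap (MvPolynomial.aeval (fun i => x (ι i)) : MvPolynomial (Fin d) A →ₐ[A] B)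
          q.asIdeal ↔ a ∈ p.asIdeal := by
        classical
        rw [hq, MvPolynomial.mem_map_C_iff]
        constructor
        · intro h
          simpa using h 0
        · intro h m
          rw [MvPolynomial.coeff_C]
          split_ifs
          · exact h
          · exact p.asIdeal.zero_mem
      rw [← this, Ideal.mem_comap]
      simp
    obtain ⟨Q, hQ⟩ := (PrimeSpectrum.preimageOrderIsoFiber A B p).symm.surjective ⟨q, hqp⟩
    have hQ' : Ideal.comap (Algebra.TensorProduct.includeRight : B →ₐ[A] p.asIdeal.Fiber B).toRingHom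
      Q.asIdeal = q.asIdeal := by
      have := congrArg (fun z => (z.1 : PrimeSpectrum B).asIdeal) hQ
      exact this
    rw [← hQ'] at hq
    exact le_ringKrullDim_of_algebraicIndependent Q _ ((key ι Q.asIdeal).mpr hq)

end Groth.Agent.Flat2D.FibDimAlg
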