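import Groth.Agent.Ega3B.AcyclicBC
import Groth.Agent.CohqA.HOpen

/-!
# Vanishing of cohomology of quasi-coherent modules is local on the base

`iX : X ⟶ S` quasi-compact and separated, `S` affine, `F` quasi-coherent, `n` fixed.
* `HH_of_flat`: `H^{n+1}(X, F) = 0` is preserved by flat affine base change `T ⟶ S`;
* `HH_of_flat_cover`: it descends along a jointly surjective family of flat `T k ⟶ S`;
* `HU_preimage_of_affine`, `HH_of_affine_cover`: the same for affine opens of `S`;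
* `HU_of_local`: for `f : X ⟶ Y` quasi-compact separated, if each point of `V` has an affine open
  neighbourhood `W` with `H^{n+1}(f⁻¹ W, F) = 0`, then this holds for all affine opens `U ≤ V`.
-/

set_option autoImplicit false
universe u
open CategoryTheory CategoryTheory.Limits AlgebraicGeometry Opposite TopologicalSpace TensorProduct

namespace Groth.Agent.Flat2D.LocalGlobalH

open Ega3B Ega3B.CubeData Ega3B.CombRes Ega3B.CechBC Ega3B.AcyclicBC VarietyB.FlatH0 VarietyB.BCAlg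

section Algebra

/-- Exactness can be checked after a jointly surjective family of flat base changes. -/
theorem exact_of_flat_cover {R : Type*} [CommRing R] {M N P : Type*} [AddCommGroup M]
    [AddCommGroup N] [AddCommGroup P] [Module R M] [Module R N] [Module R P] (d : M →ₗ[R] N)
    (d' : N →ₗ[R] P) (h0 : ∀ x, d' (d x) = 0) {κ : Type*} (B : κ → Type*) [∀ k, CommRing (B k)]
    [∀ k, Algebra R (B k)] [∀ k, Module.Flat R (B k)]
    (hs : ∀ p : PrimeSpectrum R, ∃ (k : κ) (q : PrimeSpectrum (B k)),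
      PrimeSpectrum.comap (algebraMap R (B k)) q = p)
    (hex : ∀ k, Function.Exact (d.lTensor (B k)) (d'.lTensor (B k))) : Function.Exact d d' := by
  intro x
  refine ⟨fun hx => ?_, fun ⟨y, hy⟩ => hy ▸ h0 y⟩
  -- the class of `x` in `N / range d`
  let N' := N ⧸ LinearMap.range d
  let π : N →ₗ[R] N' := (LinearMap.range d).mkQ
  let t : R →ₗ[R] N' := LinearMap.toSpanSingleton R N' (π x)
  let I : Ideal R := LinearMap.ker t
  by_contra hne
  have hI : I ≠ ⊤ := by
    intro h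
    apply hne
    have h1 : (1 : R) ∈ I := h ▸ Submodule.mem_top
    have h2 : π x = 0 := by
      have := LinearMap.mem_ker.1 h1
      rwa [LinearMap.toSpanSingleton_apply, one_smul] at this
    exact (Submodule.Quotient.mk_eq_zero _).1 h2
  obtain ⟨m, hm, hIm⟩ := Ideal.exists_le_maximal I hI
  obtain ⟨k, q, hq⟩ := hs ⟨m, hm.isPrime⟩
  have h1 : (d'.lTensor (B k)) (1 ⊗ₜ x) = 0 := by
    rw [LinearMap.lTensor_tmul, hx, TensorProduct.tmul_zero]
  obtain ⟨y, hy⟩ := (hex k _).1 h1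
  have h2 : (π.lTensor (B k)) (1 ⊗ₜ x) = 0 := by
    rw [← hy, ← LinearMap.lTensor_comp_apply]
    have : π ∘ₗ d = 0 := by
      ext z
      exact (Submodule.Quotient.mk_eq_zero _).2 ⟨z, rfl⟩
    rw [this, LinearMap.lTensor_zero, LinearMap.zero_apply]
  -- `t` factors through the injection `R / I → N'`
  let t' : (R ⧸ I) →ₗ[R] N' := I.liftQ t le_rfl
  have ht' : Function.Injective t' := LinearMap.ker_eq_bot.1 (Submodule.ker_liftQ_eq_bot _ _ _ le_rfl)
  have h3 : Function.Injective (t'.lTensor (B k)) :=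
    Module.Flat.lTensor_preserves_injective_linearMap t' ht'
  have h4 : (1 : B k) ⊗ₜ[R] (I.mkQ 1) = (0 : B k ⊗[R] (R ⧸ I)) := by
    apply h3
    rw [map_zero, LinearMap.lTensor_tmul]
    have : t' (I.mkQ 1) = π x := by
      change t 1 = π x
      rw [LinearMap.toSpanSingleton_apply, one_smul]
    rw [this]
    exact h2
  -- hence `1 ∈ I B`
  have h5 : (1 : B k) ∈ I.map (algebraMap R (B k)) := by
    have h6 := (TensorProduct.tensorQuotEquivQuotSMul (B k) I).symm.injective.eq_iff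
      (a := Submodule.Quotient.mk (1 : B k)) (b := 0)
    have h7 : (TensorProduct.tensorQuotEquivQuotSMul (B k) I).symm (Submodule.Quotient.mk (1 : B k)) =
        (1 : B k) ⊗ₜ[R] (I.mkQ 1) := TensorProduct.tensorQuotEquivQuotSMul_symm_mk I _
    rw [h7, map_zero] at h6
    have h8 := (Submodule.Quotient.mk_eq_zero _).1 (h6.1 h4)
    rw [Ideal.smul_top_eq_map] at h8
    exact h8
  have h6 : I.map (algebraMap R (B k)) ≤ q.asIdeal := by
    rw [Ideal.map_le_iff_le_comap]
    have : q.asIdeal.comap (algebraMap R (B k)) = m := congrArg PrimeSpectrum.asIdeal hq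
    rw [this]
    exact hIm
  exact q.2.ne_top ((Ideal.eq_top_iff_one _).2 (h6 h5))

end Algebra

section BaseChange

variable {X Y S T : Scheme.{u}} {f : T ⟶ S} {g : Y ⟶ X} {iX : X ⟶ S} {iY : Y ⟶ T}

/-- `Γ(S, ⊤) → Γ(T, ⊤)` is flat. -/
theorem flat_algOver (f : T ⟶ S) [IsAffine S] [IsAffine T] [Flat f] :
    letI := algOver f (US := ⊤) (UT := ⊤) le_top
    Module.Flat Γ(S, ⊤) Γ(T, ⊤) := by
  have h : (f.appLE ⊤ ⊤ le_top).hom.Flat := HasRingHomProperty.appLE (P := @Flat) f ‹_›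
    ⟨⊤, isAffineOpen_top S⟩ ⟨⊤, isAffineOpen_top T⟩ le_top
  exact h

theorem isSeparated_of (iX : X ⟶ S) [IsAffine S] [IsSeparated iX] : X.IsSeparated := by
  have : IsSeparated (terminal.from X) := by
    have : terminal.from X = iX ≫ terminal.from S := terminal.hom_ext _ _
    rw [this]
    infer_instance
  exact ⟨this⟩

variable {ι : Type} [LinearOrder ι] [Fintype ι]

/-- exactness of the Čech complex of the base change -/
theorem exact_iff (H : IsPullback g iY iX f) [IsAffine S] [IsAffine T] (F : X.Modules)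
    (hF : Coh.IsQCoh F) (U : ι → X.Opens)
    (hU : ∀ s : Finset ι, s.Nonempty → IsAffineOpen (s.inf U)) (n : ℕ) :
    letI := algOver f (US := ⊤) (UT := ⊤) le_top
    letI := fun n => modC iX F U n
    Function.Exact ((d iX F U n).lTensor Γ(T, ⊤)) ((d iX F U (n + 1)).lTensor Γ(T, ⊤)) ↔
      ∀ x : C ((Scheme.Modules.pullback g).obj F) (pre g U) (n + 1),
        (cech (X := Y.toPresheafedSpace.carrier) (pre g U)).δ (n + 1)
          (Coh.toAb ((Scheme.Modules.pullback g).obj F)).obj x = 0 →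
      ∃ y : C ((Scheme.Modules.pullback g).obj F) (pre g U) n,
        (cech (X := Y.toPresheafedSpace.carrier) (pre g U)).δ n
          (Coh.toAb ((Scheme.Modules.pullback g).obj F)).obj y = x := by
  let i0 := algOver f (US := ⊤) (UT := ⊤) le_top
  let i1 := fun n => modC iX F U n
  let i2 := fun n => modC iY ((Scheme.Modules.pullback g).obj F) (pre g U) n
  have hbc : ∀ n, Function.Bijective (bc (sC U H.w F n)) := fun n => bijective_bc_sC U H F hF hU n
  have hcomm : ∀ n x, d iY ((Scheme.Modules.pullback g).obj F) (pre g U) n (bc (sC U H.w F n) x) =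
      bc (sC U H.w F (n + 1)) ((d iX F U n).lTensor Γ(T, ⊤) x) := fun n x =>
    bc_comm (sC U H.w F n) (sC U H.w F (n + 1)) (d iX F U n)
      (d iY ((Scheme.Modules.pullback g).obj F) (pre g U) n) (fun x => d_sC U H.w F n x) x
  constructor
  · intro hex x hx
    obtain ⟨x, rfl⟩ := (hbc (n + 1)).2 x
    have h1 : (d iX F U (n + 1)).lTensor Γ(T, ⊤) x = 0 := by
      apply (hbc (n + 2)).1
      rw [map_zero, ← hcomm]
      exact hx
    obtain ⟨y, rfl⟩ := (hex x).1 h1
    exact ⟨bc (sC U H.w F n) y, hcomm n y⟩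
  · intro hex x
    constructor
    · intro hx
      obtain ⟨y, hy⟩ := hex (bc (sC U H.w F (n + 1)) x) (by
        refine (hcomm (n + 1) x).trans ?_
        rw [hx, map_zero])
      obtain ⟨y, rfl⟩ := (hbc n).2 y
      refine ⟨y, (hbc (n + 1)).1 ?_⟩
      exact (hcomm n y).symm.trans hy
    · rintro ⟨y, rfl⟩
      rw [← LinearMap.lTensor_comp_apply]
      have : d iX F U (n + 1) ∘ₗ d iX F U n = 0 := by
        ext x
        exact congrFun ((cech (X := X.toPresheafedSpace.carrier) U).δ_δ n x) _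
      rw [this, LinearMap.lTensor_zero, LinearMap.zero_apply]

/-- exactness of the Čech complex and vanishing of cohomology -/
theorem exact_d_iff (iX : X ⟶ S) (F : X.Modules) (hF : Coh.IsQCoh F) (U : ι → X.Opens)
    (hcov : ⨆ i, U i = ⊤) (hU : ∀ s : Finset ι, s.Nonempty → IsAffineOpen (s.inf U)) (n : ℕ) :
    letI := fun n => modC iX F U n
    Function.Exact (d iX F U n) (d iX F U (n + 1)) ↔ Subsingleton (Coh.HH X F (n + 1)) := by
  let i1 := fun n => modC iX F U n
  constructor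
  · intro hex
    exact subsingleton_of_exact F U hF hcov hU n fun x hx => (hex x).1 hx
  · intro hv x
    constructor
    · intro hx
      exact exists_of_vanish F U hF hcov hU n hv x hx
    · rintro ⟨y, rfl⟩
      exact (cech (X := X.toPresheafedSpace.carrier) U).δ_δ n y

/-- Vanishing of `H^{n+1}` is preserved by flat base change. -/
theorem HH_of_flat (H : IsPullback g iY iX f) [IsAffine S] [IsAffine T] [Flat f] [QuasiCompact iX]
    [IsSeparated iX] (F : X.Modules) (hF : Coh.IsQCoh F) (n : ℕ)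
    (hv : Subsingleton (Coh.HH X F (n + 1))) :
    Subsingleton (Coh.HH Y ((Scheme.Modules.pullback g).obj F) (n + 1)) := by
  have h1 : CompactSpace X := QuasiCompact.compactSpace_of_compactSpace iX
  have h2 : X.IsSeparated := isSeparated_of iX
  obtain ⟨m, U, hcov, hU⟩ := exists_cover X
  have hF' : Coh.IsQCoh ((Scheme.Modules.pullback g).obj F) :=
    VarietyB.PullSec.isQCoh_pullback g F hF
  let i0 := algOver f (US := ⊤) (UT := ⊤) le_top
  let i1 := fun n => modC iX F U n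
  have hfl := flat_algOver f
  have hex := (exact_d_iff iX F hF U hcov hU n).2 hv
  have hex' := Module.Flat.lTensor_exact Γ(T, ⊤) hex
  exact subsingleton_of_exact _ (pre g U) hF' (pre_cover g U hcov) (pre_affine H U hU) n
    ((exact_iff H F hF U hU n).1 hex')

theorem exists_point {κ : Type*} {S : Scheme.{u}} {T : κ → Scheme.{u}} (f : ∀ k, T k ⟶ S)
    [IsAffine S] [∀ k, IsAffine (T k)] (hs : ∀ s : S, ∃ (k : κ) (t : T k), f k t = s)
    (p : Spec Γ(S, ⊤)) : ∃ (k : κ) (t : T k),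
      Spec.map ((f k).appLE ⊤ ⊤ le_top) ((T k).isoSpec.hom t) = p := by
  obtain ⟨k, t, ht⟩ := hs (S.isoSpec.inv p)
  refine ⟨k, t, ?_⟩
  have h4 : (f k).appLE ⊤ ⊤ le_top = (f k).appTop := by
    rw [Scheme.Hom.appLE, Scheme.Hom.appTop]
    simp
  rw [h4]
  have h3 : (Spec.map (f k).appTop) ((T k).isoSpec.hom t) = S.isoSpec.hom (f k t) := by
    rw [← Scheme.Hom.comp_apply, ← Scheme.Hom.comp_apply, ← Scheme.isoSpec_hom_naturality]
  rw [h3, ht, ← Scheme.Hom.comp_apply, Iso.inv_hom_id]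
  rfl

/-- Vanishing of `H^{n+1}` descends along jointly surjective families of flat base changes. -/
theorem HH_of_flat_cover {κ : Type*} {X S : Scheme.{u}} {T Y : κ → Scheme.{u}}
    (f : ∀ k, T k ⟶ S) (g : ∀ k, Y k ⟶ X) (iX : X ⟶ S) (iY : ∀ k, Y k ⟶ T k)
    (H : ∀ k, IsPullback (g k) (iY k) iX (f k)) [IsAffine S] [∀ k, IsAffine (T k)]
    [∀ k, Flat (f k)] (hs : ∀ s : S, ∃ (k : κ) (t : T k), f k t = s) [QuasiCompact iX]
    [IsSeparated iX] (F : X.Modules) (hF : Coh.IsQCoh F) (n : ℕ)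
    (hv : ∀ k, Subsingleton (Coh.HH (Y k) ((Scheme.Modules.pullback (g k)).obj F) (n + 1))) :
    Subsingleton (Coh.HH X F (n + 1)) := by
  have h1 : CompactSpace X := QuasiCompact.compactSpace_of_compactSpace iX
  have h2 : X.IsSeparated := isSeparated_of iX
  obtain ⟨m, U, hcov, hU⟩ := exists_cover X
  let i0 := fun k => algOver (f k) (US := ⊤) (UT := ⊤) le_top
  let i1 := fun n => modC iX F U n
  have hfl := fun k => flat_algOver (f k)
  refine (exact_d_iff iX F hF U hcov hU n).1 ?_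
  refine exact_of_flat_cover (d iX F U n) (d iX F U (n + 1))
    (fun x => (cech (X := X.toPresheafedSpace.carrier) U).δ_δ n x) (fun k => Γ(T k, ⊤)) ?_ ?_
  · intro p
    obtain ⟨k, t, hkt⟩ := exists_point f hs p
    exact ⟨k, (T k).isoSpec.hom t, hkt⟩
  · intro k
    have hF' : Coh.IsQCoh ((Scheme.Modules.pullback (g k)).obj F) :=
      VarietyB.PullSec.isQCoh_pullback (g k) F hF
    refine (exact_iff (H k) F hF U hU n).2 fun x hx => ?_
    exact exists_of_vanish _ (pre (g k) U) hF' (pre_cover (g k) U hcov)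
      (pre_affine (H k) U hU) n (hv k) x hx

end BaseChange

section Opens

open CohqA.HOpen

/-- Vanishing of cohomology is invariant under isomorphisms of modules. -/
theorem subsingleton_HH_of_iso {X : Scheme.{u}} {M N : X.Modules} (e : M ≅ N) (n : ℕ)
    (h : Subsingleton (Coh.HH X M n)) : Subsingleton (Coh.HH X N n) := by
  refine subsingleton_of_forall_eq 0 fun x => ?_
  let a : Coh.toAb M ⟶ Coh.toAb N := (SheafOfModules.toSheaf X.ringCatSheaf).map e.hom
  let b : Coh.toAb N ⟶ Coh.toAb M := (SheafOfModules.toSheaf X.ringCatSheaf).map e.inv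
  have hab : b ≫ a = 𝟙 _ := by
    have h1 := (SheafOfModules.toSheaf X.ringCatSheaf).map_comp e.inv e.hom
    refine h1.symm.trans ?_
    have h2 : e.inv ≫ e.hom = 𝟙 N := e.inv_hom_id
    exact (congrArg _ h2).trans ((SheafOfModules.toSheaf X.ringCatSheaf).map_id N)
  have h3 : x = Sheaf.H.map a n (Sheaf.H.map b n x) := by
    rw [← Sheaf.H.map_comp_apply, hab]
    exact (Sheaf.H.map_id_apply x).symm
  rw [h3, @Subsingleton.elim _ h (Sheaf.H.map b n x) 0, map_zero]

/-- Cohomology over the range of an open immersion. -/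
theorem HU_iff_restrict {X' X : Scheme.{u}} (j : X' ⟶ X) [IsOpenImmersion j] (F : X.Modules)
    (W : X.Opens) (hW : W = j ''ᵁ ⊤) (n : ℕ) :
    Subsingleton (CohTop.HU (X := X.toTopCat) (Coh.toAb F) n W) ↔
      Subsingleton (Coh.HH X' (F.restrict j) n) :=
  (HHEquiv j F W hW n).toEquiv.subsingleton_congr

/-- Cohomology over the range of an open immersion. -/
theorem HU_iff_pullback {X' X : Scheme.{u}} (j : X' ⟶ X) [IsOpenImmersion j] (F : X.Modules)
    (W : X.Opens) (hW : W = j ''ᵁ ⊤) (n : ℕ) :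
    Subsingleton (CohTop.HU (X := X.toTopCat) (Coh.toAb F) n W) ↔
      Subsingleton (Coh.HH X' ((Scheme.Modules.pullback j).obj F) n) :=
  (HU_iff_restrict j F W hW n).trans
    ⟨subsingleton_HH_of_iso ((Scheme.Modules.restrictFunctorIsoPullback j).app F) n,
     subsingleton_HH_of_iso ((Scheme.Modules.restrictFunctorIsoPullback j).app F).symm n⟩

theorem HU_top_iff {X : Scheme.{u}} (F : X.Modules) (n : ℕ) :
    Subsingleton (CohTop.HU (X := X.toTopCat) (Coh.toAb F) n (⊤ : X.Opens)) ↔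
      Subsingleton (Coh.HH X F n) :=
  (HHTopEquiv F n).toEquiv.subsingleton_congr.symm

theorem HU_iff_HHon {X : Scheme.{u}} (F : X.Modules) (W : X.Opens) (n : ℕ) :
    Subsingleton (CohTop.HU (X := X.toTopCat) (Coh.toAb F) n W) ↔
      Subsingleton (Coh.HHon X F W n) :=
  (HHonEquiv F W n).toEquiv.subsingleton_congr

section Affine

variable {X S : Scheme.{u}} (iX : X ⟶ S) [IsAffine S] [QuasiCompact iX] [IsSeparated iX]
  (F : X.Modules) (hF : Coh.IsQCoh F) (n : ℕ)

include hF in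
/-- Vanishing over an affine base passes to preimages of affine opens. -/
theorem HU_preimage (hv : Subsingleton (Coh.HH X F (n + 1))) (W : S.Opens) (hW : IsAffineOpen W) :
    Subsingleton (CohTop.HU (X := X.toTopCat) (Coh.toAb F) (n + 1) (iX ⁻¹ᵁ W)) := by
  have : IsAffine W := hW
  have := HH_of_flat (isPullback_morphismRestrict iX W).flip F hF n hv
  exact (HU_iff_pullback (iX ⁻¹ᵁ W).ι F _ (by simp) _).2 this

include hF in
/-- Vanishing over an affine base can be checked on an affine open covering. -/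
theorem HH_of_affine_cover {κ : Type*} (W : κ → S.Opens) (hW : ∀ k, IsAffineOpen (W k))
    (hs : ∀ s : S, ∃ k, s ∈ W k)
    (hv : ∀ k, Subsingleton (CohTop.HU (X := X.toTopCat) (Coh.toAb F) (n + 1) (iX ⁻¹ᵁ W k))) :
    Subsingleton (Coh.HH X F (n + 1)) := by
  have : ∀ k, IsAffine (W k) := hW
  refine HH_of_flat_cover (fun k => (W k).ι) (fun k => (iX ⁻¹ᵁ W k).ι) iX (fun k => iX ∣_ W k)
    (fun k => (isPullback_morphismRestrict iX (W k)).flip) ?_ F hF n ?_
  · intro s
    obtain ⟨k, hk⟩ := hs s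
    exact ⟨k, ⟨s, hk⟩, rfl⟩
  · intro k
    exact (HU_iff_pullback (iX ⁻¹ᵁ W k).ι F _ (by simp) _).1 (hv k)

end Affine

section General

variable {X Y : Scheme.{u}} (f : X ⟶ Y) [QuasiCompact f] [IsSeparated f]
  (F : X.Modules) (hF : Coh.IsQCoh F) (n : ℕ)

include hF in
theorem HU_of_le {W W' : Y.Opens} (hW : IsAffineOpen W) (hW' : IsAffineOpen W') (h : W ≤ W')
    (hv : Subsingleton (CohTop.HU (X := X.toTopCat) (Coh.toAb F) (n + 1) (f ⁻¹ᵁ W'))) :
    Subsingleton (CohTop.HU (X := X.toTopCat) (Coh.toAb F) (n + 1) (f ⁻¹ᵁ W)) := by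
  have : IsAffine W' := hW'
  have h1 := (HU_iff_restrict (f ⁻¹ᵁ W').ι F _ (by simp) _).1 hv
  have hF' : Coh.IsQCoh (F.restrict (f ⁻¹ᵁ W').ι) :=
    inferInstanceAs (((Scheme.Modules.restrictFunctor (f ⁻¹ᵁ W').ι).obj F).IsQuasicoherent)
  have hW2 : IsAffineOpen (W'.ι ⁻¹ᵁ W) := hW.preimage_of_isOpenImmersion W'.ι (by simpa using h)
  have h2 := HU_preimage (f ∣_ W') _ hF' n h1 _ hW2
  have h3 : f ⁻¹ᵁ W = (f ⁻¹ᵁ W').ι ''ᵁ ((f ∣_ W') ⁻¹ᵁ (W'.ι ⁻¹ᵁ W)) := by
    rw [← Scheme.Hom.comp_preimage, morphismRestrict_ι, Scheme.Hom.comp_preimage,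
      Scheme.Hom.image_preimage_eq_opensRange_inf, Scheme.Opens.opensRange_ι]
    exact (inf_eq_right.2 (f.preimage_mono h)).symm
  rw [h3]
  exact (HUEquiv (f ⁻¹ᵁ W').ι F _ (n + 1)).toEquiv.subsingleton_congr.2 h2

include hF in
theorem HU_of_cover {W' : Y.Opens} (hW' : IsAffineOpen W') {κ : Type*} (W : κ → Y.Opens)
    (hW : ∀ k, IsAffineOpen (W k)) (hle : ∀ k, W k ≤ W') (hs : ∀ y ∈ W', ∃ k, y ∈ W k)
    (hv : ∀ k, Subsingleton (CohTop.HU (X := X.toTopCat) (Coh.toAb F) (n + 1) (f ⁻¹ᵁ W k))) :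
    Subsingleton (CohTop.HU (X := X.toTopCat) (Coh.toAb F) (n + 1) (f ⁻¹ᵁ W')) := by
  have : IsAffine W' := hW'
  have hF' : Coh.IsQCoh (F.restrict (f ⁻¹ᵁ W').ι) :=
    inferInstanceAs (((Scheme.Modules.restrictFunctor (f ⁻¹ᵁ W').ι).obj F).IsQuasicoherent)
  refine (HU_iff_restrict (f ⁻¹ᵁ W').ι F _ (by simp) _).2 ?_
  refine HH_of_affine_cover (f ∣_ W') _ hF' n (fun k => W'.ι ⁻¹ᵁ W k)
    (fun k => (hW k).preimage_of_isOpenImmersion W'.ι (by simpa using hle k)) ?_ ?_
  · rintro ⟨y, hy⟩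
    exact hs y hy
  · intro k
    have h3 : f ⁻¹ᵁ W k = (f ⁻¹ᵁ W').ι ''ᵁ ((f ∣_ W') ⁻¹ᵁ (W'.ι ⁻¹ᵁ W k)) := by
      rw [← Scheme.Hom.comp_preimage, morphismRestrict_ι, Scheme.Hom.comp_preimage,
        Scheme.Hom.image_preimage_eq_opensRange_inf, Scheme.Opens.opensRange_ι]
      exact (inf_eq_right.2 (f.preimage_mono (hle k))).symm
    have h4 := hv k
    rw [h3] at h4
    exact (HUEquiv (f ⁻¹ᵁ W').ι F _ (n + 1)).toEquiv.subsingleton_congr.1 h4

include hF in
/-- Vanishing of `H^{n+1}(f⁻¹ U, F)` for affine `U ≤ V` follows from vanishing near each point. -/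
theorem HU_of_local (V : Y.Opens)
    (hV : ∀ y ∈ V, ∃ W : Y.Opens, IsAffineOpen W ∧ y ∈ W ∧
      Subsingleton (CohTop.HU (X := X.toTopCat) (Coh.toAb F) (n + 1) (f ⁻¹ᵁ W)))
    (U : Y.Opens) (hU : IsAffineOpen U) (hUV : U ≤ V) :
    Subsingleton (CohTop.HU (X := X.toTopCat) (Coh.toAb F) (n + 1) (f ⁻¹ᵁ U)) := by
  choose W hW hyW hvW using hV
  have h1 : ∀ y : U, ∃ W' : Y.Opens, IsAffineOpen W' ∧ y.1 ∈ W' ∧ W' ≤ U ⊓ W y.1 (hUV y.2) := by
    intro y
    obtain ⟨_, ⟨W', hW', rfl⟩, hy, hle⟩ := Y.isBasis_affineOpens.exists_subset_of_mem_open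
      (show y.1 ∈ (U ⊓ W y.1 (hUV y.2) : Y.Opens) from ⟨y.2, hyW _ _⟩)
      (U ⊓ W y.1 (hUV y.2) : Y.Opens).2
    exact ⟨W', hW', hy, hle⟩
  choose W' hW' hyW' hle using h1
  exact HU_of_cover f F hF n hU W' hW' (fun y => (hle y).trans inf_le_left)
    (fun y hy => ⟨⟨y, hy⟩, hyW' ⟨y, hy⟩⟩)
    (fun y => HU_of_le f F hF n (hW' y) (hW y.1 (hUV y.2)) ((hle y).trans inf_le_right)
      (hvW y.1 (hUV y.2)))

include hF in
/-- The same for `HHon`. -/
theorem HHon_of_local (V : Y.Opens)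
    (hV : ∀ y ∈ V, ∃ W : Y.Opens, IsAffineOpen W ∧ y ∈ W ∧
      Subsingleton (Coh.HHon X F (f ⁻¹ᵁ W) (n + 1)))
    (U : Y.Opens) (hU : IsAffineOpen U) (hUV : U ≤ V) :
    Subsingleton (Coh.HHon X F (f ⁻¹ᵁ U) (n + 1)) := by
  refine (HU_iff_HHon F _ _).1 (HU_of_local f F hF n V (fun y hy => ?_) U hU hUV)
  obtain ⟨W, h1, h2, h3⟩ := hV y hy
  exact ⟨W, h1, h2, (HU_iff_HHon F _ _).2 h3⟩

end General

end Opens

end Groth.Agent.Flat2D.LocalGlobalH
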