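import Groth.Prelude.Def_MoreMor
import Groth.Agent.Fga.FibFlat
import Groth.Agent.Flat2G.ProperDim
import Groth.Agent.Flat2D.LocalGlobalH

/-!
# Restricting a morphism of fibres `X_s ⟶ Y_s` to opens

`f : X ⟶ Y`, `g : Y ⟶ S`, `s : S`; open immersions `jX, jY, jS` with `X' = X ×_Y Y'`,
`g' : Y' ⟶ S'`, `s' : S'` over `s`.  Then `MoreMor.fiberMap f' g' s'` is the restriction of
`MoreMor.fiberMap f g s` to an open subscheme.
-/

set_option autoImplicit false
universe u
open CategoryTheory CategoryTheory.Limits AlgebraicGeometry Opposite TopologicalSpace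

namespace Groth.Agent.Flat2D.FiberRestrict

open Fga.FibFlat Flat2D.LocalGlobalH

variable {X Y S X' Y' S' : Scheme.{u}}

theorem isPullback_fiber (f : X ⟶ Y) (y : Y) :
    IsPullback (f.fiberι y) (f.fiberToSpecResidueField y) f (Y.fromSpecResidueField y) :=
  IsPullback.of_hasPullback f (Y.fromSpecResidueField y)

theorem isPullback_fiberMap (f : X ⟶ Y) (g : Y ⟶ S) (s : S) :
    IsPullback ((f ≫ g).fiberι s) (MoreMor.fiberMap f g s) f (g.fiberι s) := by
  have h1 := isPullback_fiber (f ≫ g) s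
  have h2 := isPullback_fiber g s
  rw [← Fga.FibFlat.fiberMap_toSpec f g s] at h1
  exact IsPullback.of_bot h1 (Fga.FibFlat.fiberMap_fiberι f g s).symm h2

theorem isPullback_fromSpecResidueField (j : S' ⟶ S) [IsOpenImmersion j] (s : S') :
    IsPullback (Spec.map (j.residueFieldMap s)) (S'.fromSpecResidueField s)
      (S.fromSpecResidueField (j s)) j :=
  IsPullback.of_horiz_isIso_mono ⟨j.SpecMap_residueFieldMap_fromSpecResidueField s⟩

/-- The fibre of the restriction `g'` of `g` is an open subscheme of the fibre of `g`. -/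
theorem exists_isPullback_fiber (g : Y ⟶ S) (g' : Y' ⟶ S') (jY : Y' ⟶ Y) (jS : S' ⟶ S)
    [IsOpenImmersion jS] (w : jY ≫ g = g' ≫ jS) (s : S') :
    ∃ k : g'.fiber s ⟶ g.fiber (jS s), IsPullback k (g'.fiberι s) (g.fiberι (jS s)) jY := by
  have h1 : IsPullback (g'.fiberToSpecResidueField s ≫ Spec.map (jS.residueFieldMap s))
      (g'.fiberι s) (S.fromSpecResidueField (jS s)) (g' ≫ jS) :=
    (isPullback_fiber g' s).flip.paste_horiz (isPullback_fromSpecResidueField jS s)
  rw [← w] at h1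
  have h2 := (isPullback_fiber g (jS s)).flip
  let k : g'.fiber s ⟶ g.fiber (jS s) :=
    h2.lift (g'.fiberToSpecResidueField s ≫ Spec.map (jS.residueFieldMap s)) (g'.fiberι s ≫ jY)
      (by rw [h1.w, Category.assoc])
  refine ⟨k, ?_⟩
  have h3 : k ≫ g.fiberToSpecResidueField (jS s) =
      g'.fiberToSpecResidueField s ≫ Spec.map (jS.residueFieldMap s) := h2.lift_fst _ _ _
  have h4 : k ≫ g.fiberι (jS s) = g'.fiberι s ≫ jY := h2.lift_snd _ _ _
  refine IsPullback.of_right (h₁₂ := g.fiberToSpecResidueField (jS s))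
    (h₂₂ := g) (v₁₃ := S.fromSpecResidueField (jS s)) ?_ h4 h2
  rw [h3]
  exact h1

/-- The restriction of the map of fibres. -/
theorem exists_isPullback_fiberMap (f : X ⟶ Y) (g : Y ⟶ S) (f' : X' ⟶ Y') (g' : Y' ⟶ S')
    (jX : X' ⟶ X) (jY : Y' ⟶ Y) (jS : S' ⟶ S) [IsOpenImmersion jS]
    (hX : IsPullback jX f' f jY) (w : jY ≫ g = g' ≫ jS) (s : S') :
    ∃ (k : g'.fiber s ⟶ g.fiber (jS s)) (l : (f' ≫ g').fiber s ⟶ (f ≫ g).fiber (jS s)),
      IsPullback k (g'.fiberι s) (g.fiberι (jS s)) jY ∧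
      IsPullback l (MoreMor.fiberMap f' g' s) (MoreMor.fiberMap f g (jS s)) k := by
  obtain ⟨k, hk⟩ := exists_isPullback_fiber g g' jY jS w s
  have h1 := isPullback_fiberMap f g (jS s)
  have h2 := isPullback_fiberMap f' g' s
  have h3 : IsPullback ((f' ≫ g').fiberι s ≫ jX) (MoreMor.fiberMap f' g' s) f (g'.fiberι s ≫ jY) :=
    h2.paste_horiz hX
  rw [← hk.w] at h3
  let l : (f' ≫ g').fiber s ⟶ (f ≫ g).fiber (jS s) :=
    h1.lift ((f' ≫ g').fiberι s ≫ jX) (MoreMor.fiberMap f' g' s ≫ k) (by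
      rw [h3.w, Category.assoc])
  refine ⟨k, l, hk, ?_⟩
  have h4 : l ≫ (f ≫ g).fiberι (jS s) = (f' ≫ g').fiberι s ≫ jX := h1.lift_fst _ _ _
  have h5 : l ≫ MoreMor.fiberMap f g (jS s) = MoreMor.fiberMap f' g' s ≫ k := h1.lift_snd _ _ _
  refine IsPullback.of_right (h₁₂ := (f ≫ g).fiberι (jS s)) (h₂₂ := g.fiberι (jS s)) (v₁₃ := f)
    ?_ h5 h1
  rw [h4]
  exact h3

section App

variable {f : X ⟶ Y} {f' : X' ⟶ Y'} {l : X' ⟶ X} {k : Y' ⟶ Y} [IsOpenImmersion k]

theorem image_preimage_eq (h : IsPullback l f' f k) [IsOpenImmersion l] (V : Y'.Opens) :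
    l ''ᵁ (f' ⁻¹ᵁ V) = f ⁻¹ᵁ (k ''ᵁ V) := by
  ext x
  constructor
  · rintro ⟨x', hx', rfl⟩
    refine ⟨f' x', hx', ?_⟩
    change k (f' x') = f (l x')
    rw [← Scheme.Hom.comp_apply, ← Scheme.Hom.comp_apply, h.w]
  · rintro ⟨y', hy', hxy⟩
    obtain ⟨x', hx1, hx2⟩ := Scheme.exists_preimage_of_isPullback h x y' hxy.symm
    refine ⟨x', ?_, hx1⟩
    change f' x' ∈ V
    rwa [hx2]

/-- `f'.app V` is isomorphic to `f.app (k ''ᵁ V)`. -/
theorem app_comm (h : IsPullback l f' f k) [IsOpenImmersion l] (V : Y'.Opens) :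
    (k.appIso V).hom ≫ f'.app V = f.app (k ''ᵁ V) ≫
      X.presheaf.map (eqToHom (image_preimage_eq h V)).op ≫ (l.appIso (f' ⁻¹ᵁ V)).hom := by
  have h1 : f.app (k ''ᵁ V) ≫ X.presheaf.map (eqToHom (image_preimage_eq h V)).op =
      f.appLE (k ''ᵁ V) (l ''ᵁ (f' ⁻¹ᵁ V)) (image_preimage_eq h V).le := by
    rw [Scheme.Hom.appLE]
    rfl
  rw [← Category.assoc, h1, Scheme.Hom.appIso_hom', Scheme.Hom.appIso_hom']
  rw [Scheme.Hom.appLE_comp_appLE, Scheme.Hom.app_eq_appLE, Scheme.Hom.appLE_comp_appLE]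
  simp only [h.w]

theorem surjective_app_iff (h : IsPullback l f' f k) (V : Y'.Opens) :
    Function.Surjective (f'.app V) ↔ Function.Surjective (f.app (k ''ᵁ V)) := by
  have hl : IsOpenImmersion l := MorphismProperty.of_isPullback (P := @IsOpenImmersion) h.flip ‹_›
  have h1 := app_comm h V
  have h2 : Function.Bijective (k.appIso V).hom :=
    ConcreteCategory.bijective_of_isIso (k.appIso V).hom
  have h3 : Function.Bijective (X.presheaf.map (eqToHom (image_preimage_eq h V)).op ≫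
      (l.appIso (f' ⁻¹ᵁ V)).hom) := ConcreteCategory.bijective_of_isIso _
  have h4 : (f'.app V : _ → _) ∘ (k.appIso V).hom =
      (X.presheaf.map (eqToHom (image_preimage_eq h V)).op ≫
      (l.appIso (f' ⁻¹ᵁ V)).hom : _ → _) ∘ (f.app (k ''ᵁ V)) := by
    funext x
    exact congr(($h1).hom x)
  rw [← Function.Surjective.of_comp_iff _ h2.2, h4, Function.Surjective.of_comp_iff' h3]

theorem injective_app_iff (h : IsPullback l f' f k) (V : Y'.Opens) :
    Function.Injective (f'.app V) ↔ Function.Injective (f.app (k ''ᵁ V)) := by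
  have hl : IsOpenImmersion l := MorphismProperty.of_isPullback (P := @IsOpenImmersion) h.flip ‹_›
  have h1 := app_comm h V
  have h2 : Function.Bijective (k.appIso V).hom :=
    ConcreteCategory.bijective_of_isIso (k.appIso V).hom
  have h3 : Function.Bijective (X.presheaf.map (eqToHom (image_preimage_eq h V)).op ≫
      (l.appIso (f' ⁻¹ᵁ V)).hom) := ConcreteCategory.bijective_of_isIso _
  have h4 : (f'.app V : _ → _) ∘ (k.appIso V).hom =
      (X.presheaf.map (eqToHom (image_preimage_eq h V)).op ≫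
      (l.appIso (f' ⁻¹ᵁ V)).hom : _ → _) ∘ (f.app (k ''ᵁ V)) := by
    funext x
    exact congr(($h1).hom x)
  rw [← Function.Injective.of_comp_iff' _ h2, h4, Function.Injective.of_comp_iff h3.1]

theorem bijective_app_iff (h : IsPullback l f' f k) (V : Y'.Opens) :
    Function.Bijective (f'.app V) ↔ Function.Bijective (f.app (k ''ᵁ V)) :=
  and_congr (injective_app_iff h V) (surjective_app_iff h V)

end App

end Groth.Agent.Flat2D.FiberRestrict
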