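import Groth.Agent.Pi1A.TowerSys
import Groth.Agent.Pi1C.IdemCrit
import Groth.Agent.CohqB.LimQAff
import Groth.Agent.PerfB.PushFLF

/-!
# Full faithfulness of restriction of finite étale covers to a closed subscheme, from completeness of sections
-/

set_option autoImplicit false
universe u

open CategoryTheory CategoryTheory.Limits AlgebraicGeometry Opposite TopologicalSpace

namespace Groth.Agent.Flat2D.FormalFF

open Groth.Agent.Pi1A.SheafAlg Groth.Agent.Pi1A.LimAlg Groth.Agent.FormalB.ModPow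
  Groth.Agent.Pi1A.FEtTower Groth.Agent.Pi1A.PushAlg Groth.Agent.Pi1A.TowerSys
  Groth.Agent.Pi1C.IdemCrit Groth.Agent.CohqB.LimZero

/-- Idempotents lift along homeomorphisms. -/
theorem exists_idem_lift {Z₀ Z : Scheme.{u}} (r : Z₀ ⟶ Z) [IsClosedImmersion r] [Surjective r]
    (e₀ : Γ(Z₀, ⊤)) (he : e₀ * e₀ = e₀) : ∃ e : Γ(Z, ⊤), e * e = e ∧ r.appTop e = e₀ := by
  have hinj := r.isClosedEmbedding.injective
  have hcl : IsClopen (r '' (Z₀.basicOpen e₀ : Set Z₀)) := by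
    have h1 := isClopen_basicOpen he
    refine ⟨r.isClosedEmbedding.isClosedMap _ h1.1, ?_⟩
    have h2 : (r '' (Z₀.basicOpen e₀ : Set Z₀)) = (r '' ((Z₀.basicOpen e₀ : Set Z₀)ᶜ))ᶜ := by
      rw [Set.image_compl_eq ⟨hinj, r.surjective⟩, compl_compl]
    rw [h2]
    exact (r.isClosedEmbedding.isClosedMap _ h1.compl.1).isOpen_compl
  obtain ⟨e, he1, he2⟩ := exists_idem_of_isClopen hcl
  refine ⟨e, he1, ?_⟩
  apply idem_ext
  · rw [← map_mul, he1]
  · exact he
  · rw [← Scheme.preimage_basicOpen_top]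
    change r ⁻¹' (Z.basicOpen e : Set Z) = _
    rw [he2, Set.preimage_image_eq _ hinj]

theorem idem_eq_of_surjective {Z₀ Z : Scheme.{u}} (r : Z₀ ⟶ Z) [Surjective r]
    {e e' : Γ(Z, ⊤)} (he : e * e = e) (he' : e' * e' = e') (h : r.appTop e = r.appTop e') : e = e' := by
  apply idem_ext he he'
  have h1 : r ⁻¹' (Z.basicOpen e : Set Z) = r ⁻¹' (Z.basicOpen e' : Set Z) := by
    have h2 : r ⁻¹ᵁ (Z.basicOpen e) = r ⁻¹ᵁ (Z.basicOpen e') := by
      rw [Scheme.preimage_basicOpen_top, Scheme.preimage_basicOpen_top, h]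
    exact congrArg (fun U : Z₀.Opens => (U : Set Z₀)) h2
  exact r.surjective.preimage_injective h1

variable {A : Type u} [CommRing A] (I : Ideal A) {X : Scheme.{u}} [X.Over (Spec (CommRingCat.of A))]

/-- The map from the `n`-th thickening of `T` to `X`. -/
noncomputable abbrev qn {T : Scheme.{u}} (p : T ⟶ X) (n : ℕ) :
    CohB1.thick (p ≫ X ↘ Spec (CommRingCat.of A)) I n ⟶ X :=
  CohB1.thickι (p ≫ X ↘ Spec (CommRingCat.of A)) I n ≫ p

theorem qn_over {T : Scheme.{u}} (p : T ⟶ X) (n : ℕ) : qn I p n ≫ X ↘ Spec (CommRingCat.of A) =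
      CohB1.thickToBase (p ≫ X ↘ Spec (CommRingCat.of A)) I n ≫ CohB1.specQuot I n := by
  rw [Category.assoc]
  exact pullback.condition

theorem trans_qn {T : Scheme.{u}} (p : T ⟶ X) (n : ℕ) :
    CohB1.thickTrans (p ≫ X ↘ Spec (CommRingCat.of A)) I n ≫ qn I p (n + 1) = qn I p n := by
  rw [thickTrans_thickι_assoc]

theorem killedBy_push {T : Scheme.{u}} (p : T ⟶ X) (n : ℕ) :
    Formal.KilledBy (I ^ (n + 1)) (pushO (qn I p n)) := by
  intro a ha
  apply Scheme.Modules.hom_ext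
  intro U
  ext m
  change fn (qn I p n) U ((Formal.smulMod A (pushO (qn I p n)) a).app U m) = 0
  rw [fn_smulMod, qn_over, str_specQuot I n _ _ ha, zero_mul]

theorem isModPow_qn {T : Scheme.{u}} (p : T ⟶ X) [IsAffineHom p] (n : ℕ) :
    IsModPow (I ^ (n + 1)) (Groth.Agent.Pi1A.PushAlg.map (q' := p) (q := qn I p n)
      (CohB1.thickι (p ≫ X ↘ Spec (CommRingCat.of A)) I n) rfl) :=
  isModPow_map (I ^ (n + 1)) _ rfl (IsPullback.of_hasPullback _ _) (killedBy_push I p n)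

/-- Functoriality of `PushAlg.map`. -/
theorem pushMap_comp {Y Y' Y'' : Scheme.{u}} {q : Y ⟶ X} {q' : Y' ⟶ X} {q'' : Y'' ⟶ X}
    (t : Y ⟶ Y') (h : t ≫ q' = q) (t' : Y' ⟶ Y'') (h' : t' ≫ q'' = q') (s : Y ⟶ Y'') (hs : s = t ≫ t')
    (h'' : s ≫ q'' = q) :
    Groth.Agent.Pi1A.PushAlg.map t' h' ≫ Groth.Agent.Pi1A.PushAlg.map t h =
      Groth.Agent.Pi1A.PushAlg.map s h'' := by
  subst h h' hs
  apply Scheme.Modules.hom_ext
  intro U
  ext m
  change ringMap t rfl U (ringMap t' rfl U (fn q'' U m)) = ringMap (t ≫ t') h'' U (fn q'' U m)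
  unfold ringMap
  have := Scheme.Hom.appLE_comp_appLE t t' (q'' ⁻¹ᵁ U) (t' ⁻¹ᵁ (q'' ⁻¹ᵁ U)) ((t ≫ t') ⁻¹ᵁ (q'' ⁻¹ᵁ U)) le_rfl le_rfl
  exact congr($(this) (fn q'' U m))

theorem ringMap_top {Y Y' : Scheme.{u}} {q : Y ⟶ X} {q' : Y' ⟶ X} (t : Y ⟶ Y') (h : t ≫ q' = q) (a : Γ(Y', ⊤)) :
    ringMap t h ⊤ a = t.appTop a := by
  unfold ringMap
  have : t.appLE (q' ⁻¹ᵁ ⊤) (q ⁻¹ᵁ ⊤) (le_preimage t h ⊤) = t.appTop := by
    subst h
    exact Scheme.Hom.appLE_eq_app t
  exact congr($(this) a)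

/-- Compatible families of functions on the thickenings of `T`. -/
theorem existsUnique_fn [X.IsQuasiAffine] (h : SecComplete I (Coh.structureModule X))
    {T : Scheme.{u}} (p : T ⟶ X) [IsFinite p] [Flat p] [LocallyOfFinitePresentation p]
    (y : ∀ n : ℕ, Γ(CohB1.thick (p ≫ X ↘ Spec (CommRingCat.of A)) I n, ⊤))
    (hy : ∀ n, (CohB1.thickTrans (p ≫ X ↘ Spec (CommRingCat.of A)) I n).appTop (y (n + 1)) = y n) :
    ∃! s : Γ(T, ⊤), ∀ n, (CohB1.thickι (p ≫ X ↘ Spec (CommRingCat.of A)) I n).appTop s = y n := by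
  have hE : FlatMod.IsFinLocFree (pushO p) :=
    Groth.Agent.PerfB.PushFLF.isFinLocFree_pushforward p
      (Groth.Agent.Sga2.LefBasic.isFinLocFree_structureModule T)
  have hSec := Groth.Agent.CohqB.LimQAff.secComplete_of_isFinLocFree h hE
  have key := (secComplete_iff_of_isModPow (I := I) (M := pushO p) (fun n => pushO (qn I p n))
    (fun n => Groth.Agent.Pi1A.PushAlg.map (q' := p) (q := qn I p n)
      (CohB1.thickι (p ≫ X ↘ Spec (CommRingCat.of A)) I n) rfl)
    (fun n => isModPow_qn I p n)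
    (fun n => Groth.Agent.Pi1A.PushAlg.map (q' := qn I p (n + 1)) (q := qn I p n)
      (CohB1.thickTrans (p ≫ X ↘ Spec (CommRingCat.of A)) I n) (trans_qn I p n))
    (fun n => by
      apply pushMap_comp
      rw [thickTrans_thickι])).1 hSec
  obtain ⟨s, hs, hs'⟩ := key (fun n => sec (qn I p n) ⊤ (y n)) (fun n => by
    change ringMap _ (trans_qn I p n) ⊤ (y (n + 1)) = y n
    rw [← hy n]
    exact ringMap_top _ _ _)
  refine ⟨fn p ⊤ s, fun n => ?_, fun t ht => ?_⟩
  · rw [← ringMap_top (q' := p) (q := qn I p n) _ rfl]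
    exact hs n
  · refine (congrArg (fn p ⊤) (hs' (sec p ⊤ t) fun n => ?_) :)
    change ringMap _ rfl ⊤ t = y n
    rw [← ht n]
    exact ringMap_top _ _ _

/-- **Main criterion.** -/
theorem restrict_fullyFaithful [X.IsQuasiAffine] (h : SecComplete I (Coh.structureModule X))
    {X₀ : Scheme.{u}} (i : X₀ ⟶ X) [IsClosedImmersion i]
    (hrange : (X ↘ Spec (CommRingCat.of A)) ⁻¹' (PrimeSpectrum.zeroLocus (I : Set A)) ⊆ Set.range i)
    (g : ∀ n : ℕ, X₀ ⟶ Spec (CommRingCat.of (A ⧸ I ^ (n + 1))))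
    (hg : ∀ n, i ≫ X ↘ Spec (CommRingCat.of A) = g n ≫ CohB1.specQuot I n) :
    (FEt.restrict i).Full ∧ (FEt.restrict i).Faithful := by
  -- the comparison maps
  let ρ : ∀ (T : FEt.Cat X) (n : ℕ), pullback T.hom i ⟶ CohB1.thick (T.hom ≫ X ↘ Spec (CommRingCat.of A)) I n :=
    fun T n => pullback.lift (pullback.fst T.hom i) (pullback.snd T.hom i ≫ g n) (by
      rw [pullback.condition_assoc, hg, Category.assoc])
  have hρ1 : ∀ (T : FEt.Cat X) (n : ℕ), ρ T n ≫ CohB1.thickι (T.hom ≫ X ↘ Spec (CommRingCat.of A)) I n =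
      pullback.fst T.hom i := fun T n => pullback.lift_fst _ _ _
  have hρ2 : ∀ (T : FEt.Cat X) (n : ℕ), ρ T n ≫ CohB1.thickTrans (T.hom ≫ X ↘ Spec (CommRingCat.of A)) I n =
      ρ T (n + 1) := by
    intro T n
    rw [← cancel_mono (CohB1.thickι (T.hom ≫ X ↘ Spec (CommRingCat.of A)) I (n + 1)), Category.assoc,
      thickTrans_thickι, hρ1, hρ1]
  have hρc : ∀ (T : FEt.Cat X) (n : ℕ), IsClosedImmersion (ρ T n) := by
    intro T n
    have : IsClosedImmersion (ρ T n ≫ CohB1.thickι (T.hom ≫ X ↘ Spec (CommRingCat.of A)) I n) := by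
      rw [hρ1]; infer_instance
    exact IsClosedImmersion.of_comp _ (CohB1.thickι (T.hom ≫ X ↘ Spec (CommRingCat.of A)) I n)
  have hρs : ∀ (T : FEt.Cat X) (n : ℕ), Surjective (ρ T n) := by
    intro T n
    constructor
    intro x
    have h1 : (CohB1.thickι (T.hom ≫ X ↘ Spec (CommRingCat.of A)) I n) x ∈ Set.range (pullback.fst T.hom i) := by
      rw [Scheme.Pullback.range_fst]
      apply hrange
      have h2 : (CohB1.thickι (T.hom ≫ X ↘ Spec (CommRingCat.of A)) I n) x ∈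
          Set.range (CohB1.thickι (T.hom ≫ X ↘ Spec (CommRingCat.of A)) I n) := ⟨x, rfl⟩
      rw [range_thickι] at h2
      exact h2
    obtain ⟨z, hz⟩ := h1
    refine ⟨z, (CohB1.thickι (T.hom ≫ X ↘ Spec (CommRingCat.of A)) I n).isClosedEmbedding.injective ?_⟩
    rw [← hz, ← Scheme.Hom.comp_apply, hρ1]
  have hfin : ∀ T : FEt.Cat X, IsFinite T.hom := fun T => T.prop.1
  have het : ∀ T : FEt.Cat X, Etale T.hom := fun T => T.prop.2
  refine restrict_fullyFaithful_of_idem i (fun T e he he0 => ?_) (fun T e he => ?_)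
  · have := hfin T
    have := het T
    obtain ⟨s, hs, hs'⟩ := existsUnique_fn I h T.hom
      (fun n => (CohB1.thickι (T.hom ≫ X ↘ Spec (CommRingCat.of A)) I n).appTop 0)
      (fun n => by rw [map_zero, map_zero, map_zero])
    rw [hs' e fun n => ?_, hs' 0 fun n => rfl]
    have := hρs T n
    apply idem_eq_of_surjective (ρ T n)
    · rw [← map_mul, he]
    · rw [← map_mul, mul_zero]
    · rw [map_zero, map_zero, ← hρ1 T n, Scheme.Hom.comp_appTop] at *
      exact he0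
  · have := hfin T
    have := het T
    have hl := fun n => by
      have := hρs T n
      have := hρc T n
      exact exists_idem_lift (ρ T n) e he
    choose y hy1 hy2 using hl
    obtain ⟨s, hs, hs'⟩ := existsUnique_fn I h T.hom y (fun n => by
      have := hρs T n
      apply idem_eq_of_surjective (ρ T n)
      · rw [← map_mul, hy1]
      · exact hy1 n
      · rw [hy2, ← hy2 (n + 1), ← hρ2 T n, Scheme.Hom.comp_appTop]
        rfl)
    refine ⟨s, ?_, ?_⟩
    · rw [hs' (s * s) fun n => by rw [map_mul, hs, hy1], hs' s hs]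
    · rw [← hρ1 T 0, Scheme.Hom.comp_appTop]
      change (ρ T 0).appTop ((CohB1.thickι (T.hom ≫ X ↘ Spec (CommRingCat.of A)) I 0).appTop s) = e
      rw [hs, hy2]

end Groth.Agent.Flat2D.FormalFF
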