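import Groth.Agent.Flat2D.GenFibTop
import Mathlib.Topology.Connected.Clopen
import Mathlib.Topology.Connected.TotallyDisconnected
import Mathlib.Topology.Irreducible
import Mathlib.SetTheory.Cardinal.Finite
import Mathlib.Data.Set.Card
import Mathlib.Topology.Separation.Connected

/-!
# Number of irreducible / connected components of fibres near the generic point

* `exists_opens_of_disjoint_family`: a finite disjoint family of nonempty opens of the generic
  fibre spreads out to the fibres over a nonempty open.
-/

set_option autoImplicit false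
universe u

open AlgebraicGeometry CategoryTheory Limits

namespace Groth.Agent.Flat2D.GenFibComp

section Topology

variable {T : Type*} [TopologicalSpace T]

/-- If there are `n` pairwise disjoint nonempty opens then there are at least `n` irreducible
components. -/
lemma le_encard_irreducibleComponents {n : ℕ} (U : Fin n → Set T) (hU : ∀ i, IsOpen (U i))
    (hne : ∀ i, (U i).Nonempty) (hd : Pairwise fun i j => Disjoint (U i) (U j)) :
    (n : ℕ∞) ≤ (irreducibleComponents T).encard := by
  choose x hx using hne
  let C : Fin n → irreducibleComponents T := fun i =>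
    ⟨irreducibleComponent (x i), irreducibleComponent_mem_irreducibleComponents (x i)⟩
  have hC : Function.Injective C := by
    intro i j hij
    by_contra hne
    have h1 : irreducibleComponent (x i) = irreducibleComponent (x j) := congrArg Subtype.val hij
    have h2 := isIrreducible_irreducibleComponent (x := x i)
    obtain ⟨z, -, hz1, hz2⟩ := h2.isPreirreducible (U i) (U j) (hU i) (hU j)
      ⟨x i, mem_irreducibleComponent, hx i⟩ ⟨x j, by rw [h1]; exact mem_irreducibleComponent, hx j⟩
    exact Set.disjoint_left.mp (hd hne) hz1 hz2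
  have := ENat.card_le_card_of_injective hC
  simpa using this

/-- If there are exactly `n` irreducible components then there are `n` pairwise disjoint nonempty
opens. -/
lemma exists_disjoint_opens_of_encard_eq {n : ℕ} (h : (irreducibleComponents T).encard = n) :
    ∃ U : Fin n → Set T, (∀ i, IsOpen (U i)) ∧ (∀ i, (U i).Nonempty) ∧
      Pairwise fun i j => Disjoint (U i) (U j) := by
  have hfin : (irreducibleComponents T).Finite := Set.finite_of_encard_eq_coe h
  have : Finite (irreducibleComponents T) := hfin
  have hcard : Nat.card (irreducibleComponents T) = n := by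
    have : ((irreducibleComponents T).ncard : ℕ∞) = n := by rw [hfin.cast_ncard_eq, h]
    exact_mod_cast this
  let e : irreducibleComponents T ≃ Fin n := Finite.equivFinOfCardEq hcard
  have hclosed : ∀ i : Fin n, IsClosed (e.symm i : Set T) := fun i =>
    isClosed_of_mem_irreducibleComponents _ (e.symm i).2
  refine ⟨fun i => (⋃ j ∈ ({i}ᶜ : Set (Fin n)), (e.symm j : Set T))ᶜ, fun i => ?_, fun i => ?_, ?_⟩
  · exact ((Set.toFinite _).isClosed_biUnion fun j _ => hclosed j).isOpen_compl
  · rw [Set.nonempty_compl]
    intro hU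
    have h1 := mem_of_subset_sUnion_irreducibleComponents (e.symm i : Set T) (e.symm i).2
      ((fun j => (e.symm j : Set T)) '' ({i}ᶜ : Set (Fin n))) (Set.toFinite _)
      (by rintro _ ⟨j, -, rfl⟩; exact (e.symm j).2)
      (by rw [Set.sUnion_image, hU]; exact Set.subset_univ _)
    obtain ⟨j, hj, hj2⟩ := h1
    exact hj (e.symm.injective (Subtype.ext hj2))
  · intro i j hij
    rw [Set.disjoint_left]
    intro x hxi hxj
    simp only [Set.mem_compl_iff, Set.mem_iUnion, not_exists, Set.mem_singleton_iff] at hxi hxj
    let k : Fin n := e ⟨irreducibleComponent x, irreducibleComponent_mem_irreducibleComponents x⟩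
    have hk : x ∈ (e.symm k : Set T) := by
      simp only [k, Equiv.symm_apply_apply]
      exact mem_irreducibleComponent
    by_cases hki : k = i
    · exact hxj k (fun h => hij (hki.symm.trans h)) hk
    · exact hxi k hki hk

/-- If there are `n` pairwise disjoint nonempty opens covering the space then there are at least `n`
connected components. -/
lemma le_card_connectedComponents {n : ℕ} (U : Fin n → Set T) (hU : ∀ i, IsOpen (U i))
    (hne : ∀ i, (U i).Nonempty) (hd : Pairwise fun i j => Disjoint (U i) (U j))
    (hc : ⋃ i, U i = Set.univ) :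
    (n : ℕ∞) ≤ ENat.card (_root_.ConnectedComponents T) := by
  choose x hx using hne
  let C : Fin n → ConnectedComponents T := fun i => (x i : ConnectedComponents T)
  have hcl : ∀ i, IsClopen (U i) := by
    intro i
    refine ⟨?_, hU i⟩
    have : U i = (⋃ j ∈ ({i}ᶜ : Set (Fin n)), U j)ᶜ := by
      ext z
      simp only [Set.mem_compl_iff, Set.mem_iUnion, not_exists, Set.mem_singleton_iff]
      constructor
      · intro hz j hj hzj
        exact Set.disjoint_left.mp (hd hj) hzj hz
      · intro hz
        obtain ⟨j, hj⟩ := Set.mem_iUnion.mp (hc.symm ▸ Set.mem_univ z : z ∈ ⋃ i, U i)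
        by_cases hji : j = i
        · exact hji ▸ hj
        · exact absurd hj (hz j hji)
    rw [this]
    exact (isOpen_biUnion fun j _ => hU j).isClosed_compl
  have hC : Function.Injective C := by
    intro i j hij
    by_contra hne
    have h1 : x i ∈ connectedComponent (x j) := ConnectedComponents.coe_eq_coe'.mp hij
    have h2 := (hcl j).connectedComponent_subset (hx j) h1
    exact Set.disjoint_left.mp (hd hne) (hx i) h2
  have := ENat.card_le_card_of_injective hC
  simpa using this

/-- If there are exactly `n` connected components then the space is the disjoint union of `n`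
nonempty opens. -/
lemma exists_disjoint_opens_of_card_eq {n : ℕ}
    (h : ENat.card (_root_.ConnectedComponents T) = n) :
    ∃ U : Fin n → Set T, (∀ i, IsOpen (U i)) ∧ (∀ i, (U i).Nonempty) ∧
      (Pairwise fun i j => Disjoint (U i) (U j)) ∧ ⋃ i, U i = Set.univ := by
  have : Finite (ConnectedComponents T) := by
    rw [← ENat.card_lt_top, h]
    exact ENat.natCast_lt_top n
  have hcard : Nat.card (ConnectedComponents T) = n := by
    rw [ENat.card_eq_coe_natCard] at h
    exact_mod_cast h
  let e : ConnectedComponents T ≃ Fin n := Finite.equivFinOfCardEq hcard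
  refine ⟨fun i => (ConnectedComponents.mk : T → ConnectedComponents T) ⁻¹' {e.symm i},
    fun i => ?_, fun i => ?_, ?_, ?_⟩
  · exact (isOpen_discrete _).preimage ConnectedComponents.continuous_coe
  · obtain ⟨x, hx⟩ := ConnectedComponents.surjective_coe (e.symm i)
    exact ⟨x, hx⟩
  · intro i j hij
    rw [Set.disjoint_left]
    intro x hxi hxj
    exact hij (e.symm.injective ((Eq.symm hxi).trans hxj))
  · ext x
    simp only [Set.mem_iUnion, Set.mem_preimage, Set.mem_singleton_iff, Set.mem_univ, iff_true]
    exact ⟨e x, by simp⟩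

end Topology

/-- A finite disjoint family of nonempty opens of the generic fibre spreads out to the fibres over a
nonempty open. -/
theorem exists_opens_of_disjoint_family {X Y : Scheme.{u}} (f : X ⟶ Y) [IrreducibleSpace Y]
    [LocallyOfFiniteType f] [QuasiCompact f] {n : ℕ}
    (U : Fin n → Set ↑(f.fiber (genericPoint Y))) (hU : ∀ i, IsOpen (U i))
    (hne : ∀ i, (U i).Nonempty) (hd : Pairwise fun i j => Disjoint (U i) (U j)) :
    ∃ V : Y.Opens, (V : Set Y).Nonempty ∧ ∀ y ∈ V, ∃ U' : Fin n → Set ↑(f.fiber y),
      (∀ i, IsOpen (U' i)) ∧ (∀ i, (U' i).Nonempty) ∧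
      (Pairwise fun i j => Disjoint (U' i) (U' j)) ∧
      (⋃ i, U i = Set.univ → ⋃ i, U' i = Set.univ) := by
  have hη : ∀ z : ↑(f.fiber (genericPoint Y)), f (f.fiberι (genericPoint Y) z) = genericPoint Y := by
    intro z
    have : f.fiberι (genericPoint Y) z ∈ f ⁻¹' {genericPoint Y} := by
      rw [← f.range_fiberι]; exact ⟨z, rfl⟩
    exact this
  have hη' : ∀ x : X, f x = genericPoint Y → ∃ z, f.fiberι (genericPoint Y) z = x := by
    intro x hx
    have : x ∈ Set.range (f.fiberι (genericPoint Y)) := by rw [f.range_fiberι]; exact hx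
    exact this
  have hy : ∀ (y : Y) (z : ↑(f.fiber y)), f (f.fiberι y z) = y := by
    intro y z
    have : f.fiberι y z ∈ f ⁻¹' {y} := by
      rw [← f.range_fiberι]; exact ⟨z, rfl⟩
    exact this
  have h1 : ∀ i, ∃ W : Set X, IsOpen W ∧ f.fiberι (genericPoint Y) ⁻¹' W = U i := fun i =>
    (f.fiberι (genericPoint Y)).isEmbedding.isOpen_iff.mp (hU i)
  choose W hW hWU using h1
  choose x hx using hne
  have h2 : ∀ i, ∃ V : Y.Opens, (V : Set Y).Nonempty ∧ (V : Set Y) ⊆ f '' (W i) := by
    intro i
    refine GenFibTop.exists_opens_subset_image f (W i) (hW i) (f.fiberι _ (x i)) ?_ (hη _)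
    have := hx i
    rw [← hWU i] at this
    exact this
  choose V hV hVW using h2
  obtain ⟨V₁, hV₁, H₁⟩ := GenFibTop.exists_opens_disjoint_of_isOpen f
  -- the covering condition
  obtain ⟨V₂, hV₂, H₂⟩ : ∃ V₂ : Y.Opens, (V₂ : Set Y).Nonempty ∧
      (⋃ i, U i = Set.univ → ∀ x, f x ∈ V₂ → x ∈ ⋃ i, W i) := by
    by_cases hc : ⋃ i, U i = Set.univ
    · obtain ⟨V₂, hV₂, H₂⟩ := GenFibTop.exists_opens_disjoint_of_isClosed f (⋃ i, W i)ᶜ
        (isOpen_iUnion hW).isClosed_compl (by
          intro z hz hfz
          apply hz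
          obtain ⟨t, rfl⟩ := hη' z hfz
          obtain ⟨i, hi⟩ := Set.mem_iUnion.mp (hc.symm ▸ Set.mem_univ t : t ∈ ⋃ i, U i)
          rw [← hWU i] at hi
          exact Set.mem_iUnion.mpr ⟨i, hi⟩)
      exact ⟨V₂, hV₂, fun _ x hx => by simpa using H₂ x hx⟩
    · exact ⟨⊤, ⟨genericPoint Y, trivial⟩, fun h => absurd h hc⟩
  refine ⟨⟨(V₁ : Set Y) ∩ V₂ ∩ ⋂ i, (V i : Set Y), (V₁.isOpen.inter V₂.isOpen).inter
    (isOpen_iInter_of_finite fun i => (V i).isOpen)⟩, ?_, ?_⟩
  · refine ⟨genericPoint Y, ⟨GenFibTop.genericPoint_mem _ hV₁, GenFibTop.genericPoint_mem _ hV₂⟩, ?_⟩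
    exact Set.mem_iInter.mpr fun i => GenFibTop.genericPoint_mem _ (hV i)
  · rintro y ⟨⟨hy1, hy2⟩, hy3⟩
    refine ⟨fun i => f.fiberι y ⁻¹' (W i), fun i => (hW i).preimage (f.fiberι y).continuous,
      fun i => ?_, ?_, ?_⟩
    · obtain ⟨z, hz, hzy⟩ := hVW i (Set.mem_iInter.mp hy3 i)
      have : z ∈ Set.range (f.fiberι y) := by rw [f.range_fiberι]; exact hzy
      obtain ⟨t, rfl⟩ := this
      exact ⟨t, hz⟩
    · intro i j hij
      rw [Set.disjoint_left]
      intro z hz1 hz2
      refine H₁ (W i ∩ W j) ((hW i).inter (hW j)) ?_ (f.fiberι y z) ⟨hz1, hz2⟩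
        (by rw [hy]; exact hy1)
      rintro t ⟨ht1, ht2⟩ hft
      obtain ⟨s, rfl⟩ := hη' t hft
      have hsi : s ∈ U i := by rw [← hWU i]; exact ht1
      have hsj : s ∈ U j := by rw [← hWU j]; exact ht2
      exact Set.disjoint_left.mp (hd hij) hsi hsj
    · intro hc
      ext z
      simp only [Set.mem_iUnion, Set.mem_preimage, Set.mem_univ, iff_true]
      exact Set.mem_iUnion.mp (H₂ hc (f.fiberι y z) (by rw [hy]; exact hy2))

end Groth.Agent.Flat2D.GenFibComp
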