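import Groth.Agent.Flat2D.GenFibSpec
import Groth.Agent.Flat2D.IrredBase
import Groth.Agent.Flat2D.GenFibTop

/-!
# Non-reduced fibres near the generic point
-/

set_option autoImplicit false
universe u

open AlgebraicGeometry CategoryTheory Limits

namespace Groth.Agent.Flat2D.GenFibRed

section Algebra

open TensorProduct

variable {A : Type u} [CommRing A] [IsDomain A] {B : Type u} [CommRing B] [Algebra A B]
  [Algebra.FiniteType A B]

/-- If the generic fibre is not reduced then no fibre over some nonempty open is reduced. -/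
theorem exists_forall_not_isReduced (h : ¬ _root_.IsReduced (FractionRing A ⊗[A] B)) :
    ∃ f : A, f ≠ 0 ∧ ∀ (k : Type u) [Field k] [Algebra A k], algebraMap A k f ≠ 0 →
      ¬ _root_.IsReduced (k ⊗[A] B) := by
  obtain ⟨z, hz0, hz⟩ := exists_isNilpotent_of_not_isReduced h
  obtain ⟨n, hn⟩ := hz
  -- clear denominators
  obtain ⟨⟨g, s⟩, hgs⟩ := IsLocalizedModule.surj (nonZeroDivisors A)
    (TensorProduct.mk A (FractionRing A) B 1) z
  dsimp only at hgs
  replace hgs : (s : A) • z = (1 : FractionRing A) ⊗ₜ[A] g := hgs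
  have hs0 : (s : A) ≠ 0 := nonZeroDivisors.ne_zero s.2
  have hsu : IsUnit (algebraMap A (FractionRing A) s) := IsLocalization.map_units _ s
  have hg : (1 : FractionRing A) ⊗ₜ[A] g ≠ 0 := by
    rw [← hgs]
    intro h0
    apply hz0
    rw [← algebraMap_smul (FractionRing A) (s : A) z] at h0
    exact (hsu.smul_eq_zero).mp h0
  have hgn : (1 : FractionRing A) ⊗ₜ[A] (g ^ n) = 0 := by
    rw [GenFibSpec.one_tmul_pow, ← hgs, smul_pow, hn, smul_zero]
  obtain ⟨f₁, hf₁, H⟩ := GenFibAlg.exists_forall_tmul_ne_zero g hg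
  obtain ⟨⟨t, ht⟩, htg⟩ := (IsLocalizedModule.eq_zero_iff (nonZeroDivisors A)
    (TensorProduct.mk A (FractionRing A) B 1) (m := g ^ n)).mp hgn
  replace htg : t • g ^ n = 0 := htg
  refine ⟨f₁ * t, mul_ne_zero hf₁ (nonZeroDivisors.ne_zero ht), fun k _ _ hk hred => ?_⟩
  have hk1 : algebraMap A k f₁ ≠ 0 := fun h => hk (by simp [h])
  have hk2 : algebraMap A k t ≠ 0 := fun h => hk (by simp [h])
  apply H k hk1
  apply IsNilpotent.eq_zero
  refine ⟨n, ?_⟩
  rw [← GenFibSpec.one_tmul_pow]
  have h1 : algebraMap A k t • ((1 : k) ⊗ₜ[A] (g ^ n)) = 0 := by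
    rw [algebraMap_smul, ← TensorProduct.tmul_smul, htg, TensorProduct.tmul_zero]
  exact ((IsUnit.mk0 _ hk2).smul_eq_zero).mp h1

end Algebra

/-- The open immersion on fibres induced by an open immersion. -/
lemma exists_fiber_isOpenImmersion {U X Y : Scheme.{u}} (j : U ⟶ X) [IsOpenImmersion j]
    (f : X ⟶ Y) (y : Y) : ∃ j' : (j ≫ f).fiber y ⟶ f.fiber y, IsOpenImmersion j' ∧
      j' ≫ f.fiberι y = (j ≫ f).fiberι y ≫ j ∧
      j' ≫ f.fiberToSpecResidueField y = (j ≫ f).fiberToSpecResidueField y ∧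
      ∀ (x : f.fiber y) (z : U), f.fiberι y x = j z → x ∈ Set.range j' := by
  let j' : (j ≫ f).fiber y ⟶ f.fiber y :=
    pullback.map (j ≫ f) (Y.fromSpecResidueField y) f (Y.fromSpecResidueField y) j (𝟙 _) (𝟙 _)
      (by simp) (by simp)
  have h1 : j' ≫ f.fiberι y = (j ≫ f).fiberι y ≫ j := pullback.lift_fst _ _ _
  refine ⟨j', ?_, h1, (pullback.lift_snd _ _ _).trans (Category.comp_id _), ?_⟩
  · exact Scheme.pullback_map_isOpenImmersion (j ≫ f) (Y.fromSpecResidueField y) f
      (Y.fromSpecResidueField y) j (𝟙 _) (𝟙 _) (by simp) (by simp)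
  intro x z hxz
  have hz : (j ≫ f) z = y := by
    have : f.fiberι y x ∈ f ⁻¹' {y} := by rw [← f.range_fiberι]; exact ⟨x, rfl⟩
    rw [Scheme.Hom.comp_apply, ← hxz]
    exact this
  have : z ∈ Set.range ((j ≫ f).fiberι y) := by rw [(j ≫ f).range_fiberι]; exact hz
  obtain ⟨w, hw⟩ := this
  refine ⟨w, (f.fiberι y).isEmbedding.injective ?_⟩
  rw [← Scheme.Hom.comp_apply, h1, Scheme.Hom.comp_apply, hxz, hw]

lemma isReduced_iff_of_iso {X Y : Scheme.{u}} (e : X ≅ Y) : IsReduced X ↔ IsReduced Y :=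
  ⟨fun _ => isReduced_of_isOpenImmersion e.inv, fun _ => isReduced_of_isOpenImmersion e.hom⟩

/-- The affine case over a domain. -/
lemma exists_opens_spec {A B : CommRingCat.{u}} [IsDomain A] (f : Spec B ⟶ Spec A)
    [LocallyOfFiniteType f] (h : ¬ IsReduced (f.fiber (genericPoint (Spec A)))) :
    ∃ V : (Spec A).Opens, (V : Set (Spec A)).Nonempty ∧ ∀ y ∈ V, ¬ IsReduced (f.fiber y) := by
  obtain ⟨φ, rfl⟩ := Spec.map_surjective f
  have hφ : φ.hom.FiniteType := (HasRingHomProperty.Spec_iff (P := @LocallyOfFiniteType)).mp ‹_›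
  algebraize [φ.hom]
  have key : ∀ p : Spec A, IsReduced ((Spec.map φ).fiber p) ↔
      _root_.IsReduced ((p : PrimeSpectrum A).asIdeal.Fiber B) := by
    intro p
    let e := Spec.fiberToSpecResidueFieldIso A B p
    let e' : (Spec.map φ).fiber p ≅ Spec (.of ((p : PrimeSpectrum A).asIdeal.Fiber B)) :=
      Arrow.leftFunc.mapIso e
    rw [isReduced_iff_of_iso e', affine_isReduced_iff]
  have h1 : ¬ _root_.IsReduced (TensorProduct A (FractionRing A) B) := by
    intro hred
    apply h
    rw [genericPoint_eq_bot_of_affine, key]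
    let e := FractionRing.algEquiv A (⊥ : Ideal A).ResidueField
    let e' := Algebra.TensorProduct.congr e (AlgEquiv.refl (R := A) (A₁ := B))
    exact isReduced_of_injective e'.symm e'.symm.injective
  obtain ⟨a, ha, H⟩ := exists_forall_not_isReduced h1
  refine ⟨PrimeSpectrum.basicOpen a, ⟨(⊥ : PrimeSpectrum A), ?_⟩, fun p hp hr => ?_⟩
  · change a ∉ (⊥ : PrimeSpectrum A).asIdeal
    simpa [PrimeSpectrum.asIdeal_bot] using ha
  · rw [key] at hr
    refine H (p : PrimeSpectrum A).asIdeal.ResidueField (fun h0 => ?_) hr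
    exact hp ((Ideal.algebraMap_residueField_eq_zero).mp h0)

/-- Stacks 0575: if the generic fibre of a finite type morphism to an irreducible scheme is not
reduced, then the fibres over a nonempty open are not reduced. -/
theorem exists_opens_not_isReduced {X Y : Scheme.{u}} (f : X ⟶ Y) [IrreducibleSpace Y]
    [LocallyOfFiniteType f] [QuasiCompact f] (h : ¬ IsReduced (f.fiber (genericPoint Y))) :
    ∃ V : Y.Opens, (V : Set Y).Nonempty ∧ ∀ y ∈ V, ¬ IsReduced (f.fiber y) := by
  let P : MorphismProperty Scheme.{u} := fun S T _ => ¬ IsReduced S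
  have hP : P.RespectsIso := by
    apply MorphismProperty.RespectsIso.of_respects_arrow_iso
    intro a b e ha hb
    exact ha ((isReduced_iff_of_iso (Arrow.leftFunc.mapIso e)).mpr hb)
  refine IrredBase.exists_opens_of_spec_domain P P ?_ f h
  intro A _ X f _ _ h
  by_contra hcon
  apply h
  -- it suffices to show that all stalks are reduced
  apply +allowSynthFailures isReduced_of_isReduced_stalk
  intro x
  obtain ⟨_, ⟨W, hW, rfl⟩, hxW, -⟩ := X.isBasis_affineOpens.exists_subset_of_mem_open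
    (Set.mem_univ (f.fiberι _ x)) isOpen_univ
  have hW : IsAffineOpen W := hW
  obtain ⟨j', hj', h1, h2, h3⟩ :=
    exists_fiber_isOpenImmersion hW.fromSpec f (genericPoint (Spec A))
  have : f.fiberι (genericPoint (Spec A)) x ∈ Set.range hW.fromSpec := by
    rw [hW.range_fromSpec]; exact hxW
  obtain ⟨z, hz⟩ := this
  obtain ⟨w, rfl⟩ := h3 x z hz.symm
  have hred : IsReduced ((hW.fromSpec ≫ f).fiber (genericPoint (Spec A))) := by
    by_contra hn
    obtain ⟨V, hV, HV⟩ := exists_opens_spec (hW.fromSpec ≫ f) hn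
    refine hcon ⟨V, hV, fun y hy hr => HV y hy ?_⟩
    obtain ⟨i', hi', -⟩ := exists_fiber_isOpenImmersion hW.fromSpec f y
    have : IsReduced (f.fiber y) := hr
    exact isReduced_of_isOpenImmersion i'
  exact isReduced_of_injective _ (asIso <| j'.stalkMap w).commRingCatIsoToRingEquiv.injective

end Groth.Agent.Flat2D.GenFibRed
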