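import Groth.Agent.Flat2D.GenFibRed

/-!
# Non-geometrically-reduced generic fibre: algebra
-/

set_option autoImplicit false
universe u

open AlgebraicGeometry CategoryTheory Limits TensorProduct

namespace Groth.Agent.Flat2D.GeomRedAlg

/-- A field extension `L ⊆ K` induces an injection `L ⊗[A] B → K ⊗[A] B`. -/
theorem map_injective {A L K B : Type*} [CommRing A] [Field L] [Field K] [CommRing B]
    [Algebra A L] [Algebra A K] [Algebra L K] [IsScalarTower A L K] [Algebra A B] :
    Function.Injective (Algebra.TensorProduct.map (IsScalarTower.toAlgHom A L K)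
      (AlgHom.id A B)) := by
  obtain ⟨s, hs⟩ := LinearMap.exists_leftInverse_of_injective (Algebra.linearMap L K)
    (LinearMap.ker_eq_bot.mpr (algebraMap L K).injective)
  have h : Function.LeftInverse ((s.restrictScalars A).rTensor B)
      (Algebra.TensorProduct.map (IsScalarTower.toAlgHom A L K) (AlgHom.id A B)) := by
    intro z
    induction z with
    | zero => simp
    | add x y hx hy => rw [map_add, map_add, hx, hy]
    | tmul l b =>
      have : s (algebraMap L K l) = l := LinearMap.congr_fun hs l
      simp [this]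
  exact h.injective

variable {A : Type u} [CommRing A] {B : Type u} [CommRing B] [Algebra A B]
  [Algebra.FiniteType A B]

/-- If `K ⊗[A] B` is not reduced for some field `K` over `A`, then there is a finite type `A`-subalgebra
`R` of `K` and `0 ≠ r : R` such that `k ⊗[A] B` is not reduced for all fields `k` over `R` with `r ≠ 0` in
`k`. -/
theorem exists_subalgebra_forall_not_isReduced (K : Type u) [Field K] [Algebra A K]
    (h : ¬ _root_.IsReduced (K ⊗[A] B)) :
    ∃ (R : Subalgebra A K) (_ : Algebra.FiniteType A R) (r : R), r ≠ 0 ∧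
      ∀ (k : Type u) [Field k] [Algebra A k] [Algebra R k] [IsScalarTower A R k],
        algebraMap R k r ≠ 0 → ¬ _root_.IsReduced (k ⊗[A] B) := by
  classical
  obtain ⟨z, hz0, n, hn⟩ := exists_isNilpotent_of_not_isReduced h
  obtain ⟨s, rfl⟩ := TensorProduct.exists_finset z
  let R : Subalgebra A K := Algebra.adjoin A (s.image Prod.fst : Set K)
  have hR : Algebra.FiniteType A R :=
    (Subalgebra.fg_iff_finiteType _).mp ⟨s.image Prod.fst, rfl⟩
  have hmem : ∀ i : s, i.1.1 ∈ R := fun i =>
    Algebra.subset_adjoin (by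
      simp only [Finset.coe_image, Set.mem_image, Finset.mem_coe]
      exact ⟨i.1, i.2, rfl⟩)
  let L := FractionRing R
  let _ : Algebra L K := FractionRing.liftAlgebra R K
  have : IsScalarTower R L K := FractionRing.isScalarTower_liftAlgebra R K
  have : IsScalarTower A L K := IsScalarTower.of_algebraMap_eq fun a => by
    rw [IsScalarTower.algebraMap_apply A R L, ← IsScalarTower.algebraMap_apply R L K]
    rfl
  let zR : R ⊗[A] B := ∑ i : s, (⟨i.1.1, hmem i⟩ : R) ⊗ₜ[A] i.1.2
  have h1 : Algebra.TensorProduct.map (IsScalarTower.toAlgHom A R K) (AlgHom.id A B) zR =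
      ∑ i ∈ s, i.1 ⊗ₜ[A] i.2 := by
    rw [map_sum, ← Finset.sum_coe_sort s (fun i => i.1 ⊗ₜ[A] i.2)]
    rfl
  let e : L ⊗[R] (R ⊗[A] B) ≃ₐ[L] L ⊗[A] B := Algebra.TensorProduct.cancelBaseChange A R L L B
  have h2 : ¬ _root_.IsReduced (L ⊗[R] (R ⊗[A] B)) := by
    intro hred
    have hred' : _root_.IsReduced (L ⊗[A] B) := isReduced_of_injective e.symm e.symm.injective
    let zL : L ⊗[A] B := Algebra.TensorProduct.map (IsScalarTower.toAlgHom A R L) (AlgHom.id A B) zR
    have h3 : Algebra.TensorProduct.map (IsScalarTower.toAlgHom A L K) (AlgHom.id A B) zL =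
      ∑ i ∈ s, i.1 ⊗ₜ[A] i.2 := by
      rw [← h1]
      simp only [zL, ← AlgHom.comp_apply]
      congr 1
      ext
      · simp [← IsScalarTower.algebraMap_apply R L K]
      · simp
    have h4 : zL ^ n = 0 := by
      apply map_injective (A := A) (L := L) (K := K) (B := B)
      rw [map_pow, h3, hn, map_zero]
    have h5 : zL = 0 := IsNilpotent.eq_zero ⟨n, h4⟩
    apply hz0
    rw [← h3, h5, map_zero]
  obtain ⟨r, hr0, H⟩ := GenFibRed.exists_forall_not_isReduced (A := R) (B := R ⊗[A] B) h2
  refine ⟨R, hR, r, hr0, fun k _ _ _ _ hk hred => H k hk ?_⟩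
  let e : k ⊗[R] (R ⊗[A] B) ≃ₐ[k] k ⊗[A] B := Algebra.TensorProduct.cancelBaseChange A R k k B
  exact isReduced_of_injective e e.injective

end Groth.Agent.Flat2D.GeomRedAlg
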