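import Groth.Agent.Flat2D.GeomRedAlg
import Mathlib.AlgebraicGeometry.Geometrically.Reduced

/-!
# Non-geometrically-reduced generic fibre: schemes
-/

set_option autoImplicit false
universe u

open AlgebraicGeometry CategoryTheory Limits TensorProduct

namespace Groth.Agent.Flat2D.GeomRedSch

/-- If the fibre over the image of `t : Spec K ⟶ Y` is geometrically reduced then the base change along
`t` is reduced. -/
theorem isReduced_of_fiber {X Y : Scheme.{u}} (f : X ⟶ Y) (K : Type u) [Field K]
    (t : Spec (.of K) ⟶ Y) (y : Y) (p : Spec (.of K)) (hy : t p = y)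
    (hred : GeometricallyReduced (f.fiberToSpecResidueField y)) {Z : Scheme.{u}} (fst : Z ⟶ X)
    (snd : Z ⟶ Spec (.of K)) (h : IsPullback fst snd f t) : IsReduced Z := by
  obtain ⟨⟨y', φ⟩, rfl⟩ := (Scheme.SpecToEquivOfField _ _).symm.surjective t
  obtain rfl : y' = y := by
    rw [← hy]
    simp [Scheme.SpecToEquivOfField]
  let q : Z ⟶ f.fiber y' :=
    pullback.lift fst (snd ≫ Spec.map φ) (by simp [h.w, Scheme.SpecToEquivOfField])
  apply hred.geometrically_isReduced (Spec.map φ) q snd
  simp only [Scheme.SpecToEquivOfField, Equiv.coe_fn_symm_mk] at h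
  refine .flip (.of_bot (.flip ?_) ?_ (IsPullback.of_hasPullback f (Y.fromSpecResidueField y')).flip)
  · convert! h
    exact pullback.lift_fst _ _ _
  · exact (pullback.lift_snd _ _ _).symm

theorem isReduced_tensor {A B : CommRingCat.{u}} {X : Scheme.{u}} (f : X ⟶ Spec A) (j : Spec B ⟶ X)
    [IsOpenImmersion j] [Algebra A B]
    (hφ : Spec.map (CommRingCat.ofHom (algebraMap A B)) = j ≫ f) (k : Type u) [Field k]
    [Algebra A k] (h : IsReduced (pullback f (Spec.map (CommRingCat.ofHom (algebraMap A k))))) :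
    _root_.IsReduced (k ⊗[A] B) := by
  let t := Spec.map (CommRingCat.ofHom (algebraMap A k))
  let m : pullback (j ≫ f) t ⟶ pullback f t :=
    pullback.map (j ≫ f) t f t j (𝟙 _) (𝟙 _) (by simp) (by simp)
  have hm : IsOpenImmersion m :=
    Scheme.pullback_map_isOpenImmersion (j ≫ f) t f t j (𝟙 _) (𝟙 _) (by simp) (by simp)
  have h1 : IsReduced (pullback (j ≫ f) t) := isReduced_of_isOpenImmersion m
  rw [← hφ] at h1
  have h2 : IsReduced (Spec (.of (B ⊗[A] k))) :=
    isReduced_of_isOpenImmersion (pullbackSpecIso A B k).inv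
  have h3 : _root_.IsReduced (B ⊗[A] k) := (affine_isReduced_iff _).mp h2
  let e := Algebra.TensorProduct.comm A k B
  exact isReduced_of_injective e e.injective

theorem isReduced_of_tensor {A B : CommRingCat.{u}} [Algebra A B] (k : Type u) [Field k]
    [Algebra A k] (h : _root_.IsReduced (k ⊗[A] B)) {Z : Scheme.{u}} {fst : Z ⟶ Spec B}
    {snd : Z ⟶ Spec (.of k)} (hpb : IsPullback fst snd
      (Spec.map (CommRingCat.ofHom (algebraMap A B)))
      (Spec.map (CommRingCat.ofHom (algebraMap A k)))) : IsReduced Z := by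
  let e := Algebra.TensorProduct.comm A B k
  have h1 : _root_.IsReduced (B ⊗[A] k) := isReduced_of_injective e e.injective
  have h2 : IsReduced (Spec (.of (B ⊗[A] k))) := (affine_isReduced_iff _).mpr h1
  exact isReduced_of_isOpenImmersion (hpb.isoPullback ≪≫ pullbackSpecIso A B k).hom

/-- The case of the spectrum of a domain. -/
theorem exists_opens_spec {A : CommRingCat.{u}} [IsDomain A] {X : Scheme.{u}} (f : X ⟶ Spec A)
    [LocallyOfFiniteType f]
    (h : ¬ GeometricallyReduced (f.fiberToSpecResidueField (genericPoint (Spec A)))) :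
    ∃ V : (Spec A).Opens, (V : Set (Spec A)).Nonempty ∧
      ∀ y ∈ V, ¬ GeometricallyReduced (f.fiberToSpecResidueField y) := by
  by_contra hcon
  apply h
  refine ⟨fun K _ y Z fst snd hpb => ?_⟩
  have hpb' : IsPullback (fst ≫ f.fiberι (genericPoint (Spec A))) snd f
      (y ≫ (Spec A).fromSpecResidueField (genericPoint (Spec A))) := by
    have := hpb.flip.paste_vert (IsPullback.of_hasPullback f
      ((Spec A).fromSpecResidueField (genericPoint (Spec A)))).flip
    exact this.flip
  have htgen : ∀ p, (y ≫ (Spec A).fromSpecResidueField (genericPoint (Spec A))) p =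
      genericPoint (Spec A) := by
    intro p
    rw [Scheme.Hom.comp_apply]
    simp
  generalize y ≫ (Spec A).fromSpecResidueField (genericPoint (Spec A)) = t at hpb' htgen
  generalize fst ≫ f.fiberι (genericPoint (Spec A)) = fst' at hpb'
  obtain ⟨ψ, rfl⟩ := Spec.map_surjective t
  algebraize [ψ.hom]
  have hψ : ψ = CommRingCat.ofHom (algebraMap A K) := rfl
  have hinj : Function.Injective (algebraMap A K) := by
    rw [injective_iff_map_eq_zero]
    intro a ha
    have h1 := htgen (⊥ : PrimeSpectrum K)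
    rw [genericPoint_eq_bot_of_affine] at h1
    have h2 : (PrimeSpectrum.comap ψ.hom ⊥ : PrimeSpectrum A) = ⊥ := h1
    have h3 : a ∈ (PrimeSpectrum.comap ψ.hom (⊥ : PrimeSpectrum K)).asIdeal := by
      rw [PrimeSpectrum.comap_asIdeal, Ideal.mem_comap]
      have : ψ.hom a = 0 := ha
      rw [this]
      exact Ideal.zero_mem _
    rw [h2] at h3
    simpa [PrimeSpectrum.asIdeal_bot] using h3
  apply +allowSynthFailures @IsReduced.of_openCover (𝒰 := X.affineCover.pullback₁ fst')
  intro i
  by_contra hnr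
  have h0 : IsOpenImmersion (X.affineCover.f i) := inferInstance
  have hpb2 : IsPullback (pullback.snd fst' (X.affineCover.f i))
      (pullback.fst fst' (X.affineCover.f i) ≫ snd) (X.affineCover.f i ≫ f) (Spec.map ψ) :=
    (IsPullback.of_hasPullback fst' (X.affineCover.f i)).flip.paste_vert hpb'
  obtain ⟨B, j, hj, Z', a, b, hpb3, hnr'⟩ : ∃ (B : CommRingCat.{u}) (j : Spec B ⟶ X)
      (_ : IsOpenImmersion j) (Z' : Scheme.{u}) (a : Z' ⟶ Spec B) (b : Z' ⟶ Spec (.of K)),
      IsPullback a b (j ≫ f) (Spec.map ψ) ∧ ¬ IsReduced Z' := ⟨_, _, h0, _, _, _, hpb2, hnr⟩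
  obtain ⟨φ, hφ⟩ := Spec.map_surjective (j ≫ f)
  have hft : φ.hom.FiniteType := by
    have : LocallyOfFiniteType (Spec.map φ) := by rw [hφ]; infer_instance
    exact (HasRingHomProperty.Spec_iff (P := @LocallyOfFiniteType)).mp this
  algebraize [φ.hom]
  have hφ' : φ = CommRingCat.ofHom (algebraMap A B) := rfl
  rw [hφ'] at hφ
  rw [← hφ, hψ] at hpb3
  have hT : ¬ _root_.IsReduced (K ⊗[A] B) := fun hT => hnr' (isReduced_of_tensor K hT hpb3)
  obtain ⟨R, hR, r, hr0, H⟩ := GeomRedAlg.exists_subalgebra_forall_not_isReduced K hT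
  have hRinj : Function.Injective (algebraMap A R) := by
    intro a b hab
    apply hinj
    rw [IsScalarTower.algebraMap_apply A R K, IsScalarTower.algebraMap_apply A R K, hab]
  have hRft : LocallyOfFiniteType (Spec.map (CommRingCat.ofHom (algebraMap A R))) :=
    (HasRingHomProperty.Spec_iff (P := @LocallyOfFiniteType)).mpr
      (RingHom.finiteType_algebraMap.mpr hR)
  obtain ⟨V, hV, HV⟩ := GenFibTop.exists_opens_subset_image_domain
    (Spec.map (CommRingCat.ofHom (algebraMap A R)))
    (PrimeSpectrum.basicOpen r : Set (PrimeSpectrum R)) (PrimeSpectrum.basicOpen r).isOpen (⊥ : PrimeSpectrum R) (by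
      change r ∉ (⊥ : PrimeSpectrum R).asIdeal
      simpa [PrimeSpectrum.asIdeal_bot] using hr0) (by
      rw [genericPoint_eq_bot_of_affine]
      apply PrimeSpectrum.ext
      change Ideal.comap (algebraMap A R) (⊥ : PrimeSpectrum R).asIdeal = (⊥ : PrimeSpectrum A).asIdeal
      rw [PrimeSpectrum.asIdeal_bot, PrimeSpectrum.asIdeal_bot]
      exact Ideal.comap_bot_of_injective _ hRinj)
  apply hcon
  refine ⟨V, hV, fun y hy hgr => ?_⟩
  obtain ⟨q, hq, hqy⟩ := HV hy
  have hq' : r ∉ (q : PrimeSpectrum R).asIdeal := hq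
  let k := (q : PrimeSpectrum R).asIdeal.ResidueField
  have hk : algebraMap R k r ≠ 0 := by
    rwa [Ne, Ideal.algebraMap_residueField_eq_zero]
  apply H k hk
  apply isReduced_tensor f j hφ k
  refine isReduced_of_fiber f k (Spec.map (CommRingCat.ofHom (algebraMap A k))) y
    (⊥ : PrimeSpectrum k) ?_ hgr _ _ (IsPullback.of_hasPullback f _)
  rw [← hqy]
  apply PrimeSpectrum.ext
  change Ideal.comap (algebraMap A k) (⊥ : PrimeSpectrum k).asIdeal =
    Ideal.comap (algebraMap A R) (q : PrimeSpectrum R).asIdeal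
  rw [PrimeSpectrum.asIdeal_bot]
  ext a
  rw [Ideal.mem_comap, Ideal.mem_comap, IsScalarTower.algebraMap_apply A R k, Ideal.mem_bot,
    Ideal.algebraMap_residueField_eq_zero]

end Groth.Agent.Flat2D.GeomRedSch
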