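import Mathlib.RingTheory.Flat.Equalizer
import Mathlib.RingTheory.FinitePresentation
import Mathlib.RingTheory.RingHom.Flat
import Mathlib.LinearAlgebra.TensorProduct.RightExactness

/-!
Algebra over a nilpotent ideal: Nakayama for nilpotent ideals, lifting bijectivity and finite presentation
along a nilpotent ideal of the base under a flatness assumption.
-/

set_option autoImplicit false
universe u

namespace Groth.Agent.Flat2D.NilpAlg

/-- Nakayama for a nilpotent ideal, without finiteness. -/
lemma le_of_le_sup_smul {R M : Type*} [CommRing R] [AddCommGroup M] [Module R M] (I : Ideal R)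
    (hI : IsNilpotent I) (N P : Submodule R M) (h : P ≤ N ⊔ I • P) : P ≤ N := by
  have key : ∀ n : ℕ, P ≤ N ⊔ I ^ n • P := by
    intro n
    induction n with
    | zero => simp
    | succ n ih =>
      refine h.trans (sup_le le_sup_left ?_)
      calc I • P ≤ I • (N ⊔ I ^ n • P) := Submodule.smul_mono le_rfl ih
        _ = I • N ⊔ I ^ (n + 1) • P := by
            rw [Submodule.smul_sup, ← Submodule.mul_smul, ← pow_succ']
        _ ≤ N ⊔ I ^ (n + 1) • P := sup_le_sup Submodule.smul_le_right le_rfl
  obtain ⟨n, hn⟩ := hI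
  have := key n
  rw [hn] at this
  simpa using this

/-- If `N` is flat then intersecting with `I • ⊤` in `M` the kernel of a surjection `M → N` gives `I • ker`. -/
lemma ker_inf_smul_top {R M N : Type*} [CommRing R] [AddCommGroup M] [Module R M]
    [AddCommGroup N] [Module R N] [Module.Flat R N] (I : Ideal R) (f : M →ₗ[R] N)
    (hf : Function.Surjective f) : LinearMap.ker f ⊓ I • ⊤ ≤ I • LinearMap.ker f := by
  intro x hx
  obtain ⟨hx1, hx2⟩ := hx
  have hinj := LinearMap.lTensor_injective_of_exact_of_flat f hf (LinearMap.ker f).subtype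
    Subtype.val_injective (LinearMap.exact_subtype_ker_map f) (R ⧸ I)
  have h1 : (⟨x, hx1⟩ : LinearMap.ker f) ∈
      LinearMap.ker (TensorProduct.mk R (R ⧸ I) (LinearMap.ker f) 1) := by
    rw [LinearMap.mem_ker]
    apply hinj
    rw [map_zero]
    have h2 : x ∈ LinearMap.ker (TensorProduct.mk R (R ⧸ I) M 1) := by
      rw [LinearMap.ker_tensorProductMk]
      exact hx2
    simpa using h2
  rw [LinearMap.ker_tensorProductMk] at h1
  have h3 := Submodule.mem_map_of_mem (f := (LinearMap.ker f).subtype) h1
  rw [Submodule.map_smul''] at h3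
  simpa using h3

/-- A ring map to a flat algebra which is bijective modulo a nilpotent ideal of the base is bijective. -/
theorem bijective_of_nilpotent {A A0 B B0 C C0 : Type u} [CommRing A] [CommRing A0] [CommRing B]
    [CommRing B0] [CommRing C] [CommRing C0] (a : A →+* A0) (b : B →+* B0) (c : C →+* C0)
    (φ : A →+* B) (ψ : B →+* C) (ψ0 : B0 →+* C0)
    (hb : Function.Surjective b)
    (ha' : IsNilpotent (RingHom.ker a)) (hb' : RingHom.ker b = (RingHom.ker a).map φ)
    (hc' : RingHom.ker c = (RingHom.ker a).map (ψ.comp φ)) (hcomp : c.comp ψ = ψ0.comp b)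
    (hflat : (ψ.comp φ).Flat) (h0 : Function.Bijective ψ0) : Function.Bijective ψ := by
  algebraize [φ, ψ, ψ.comp φ]
  set I := RingHom.ker a with hI
  let l : B →ₗ[A] C := (IsScalarTower.toAlgHom A B C).toLinearMap
  have hl : ∀ x, l x = ψ x := fun x => rfl
  have hcψ : ∀ x, c (ψ x) = ψ0 (b x) := fun x => congr($hcomp x)
  have hsurj : Function.Surjective l := by
    rw [← LinearMap.range_eq_top, eq_top_iff]
    refine le_of_le_sup_smul I ha' _ _ ?_
    intro x _
    obtain ⟨y0, hy0⟩ := h0.2 (c x)
    obtain ⟨y, rfl⟩ := hb y0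
    have hk : x - ψ y ∈ RingHom.ker c := by
      rw [RingHom.mem_ker, map_sub, hcψ, hy0, sub_self]
    rw [hc'] at hk
    have hk2 : x - ψ y ∈ I • (⊤ : Submodule A C) := by
      rw [Ideal.smul_top_eq_map]
      exact hk
    rw [← sub_add_cancel x (ψ y), add_comm]
    exact Submodule.add_mem_sup ⟨y, rfl⟩ hk2
  refine ⟨?_, hsurj⟩
  have hker : LinearMap.ker l ≤ ⊥ := by
    refine le_of_le_sup_smul I ha' _ _ ?_
    refine le_trans ?_ le_sup_right
    refine le_trans ?_ (ker_inf_smul_top I l hsurj)
    refine le_inf le_rfl ?_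
    intro x hx
    rw [LinearMap.mem_ker, hl] at hx
    have : b x = 0 := by
      apply h0.1
      rw [← hcψ, hx, map_zero, map_zero]
    rw [← RingHom.mem_ker, hb'] at this
    rw [Ideal.smul_top_eq_map]
    exact this
  intro x y hxy
  rw [← sub_eq_zero]
  have := hker (show x - y ∈ LinearMap.ker l by
    rw [LinearMap.mem_ker, map_sub, hl, hl, hxy, sub_self])
  simpa using this

/-- Lifting finite type along a nilpotent ideal. -/
theorem finiteType_of_nilpotent {B B0 C C0 : Type u} [CommRing B]
    [CommRing B0] [CommRing C] [CommRing C0] (b : B →+* B0) (c : C →+* C0)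
    (ψ : B →+* C) (ψ0 : B0 →+* C0) (hb : Function.Surjective b) (hc : Function.Surjective c)
    (hb' : IsNilpotent (RingHom.ker b)) 
    (hc' : RingHom.ker c = (RingHom.ker b).map ψ) (hcomp : c.comp ψ = ψ0.comp b)
    (h0 : ψ0.FiniteType) : ψ.FiniteType := by
  have h1 : (c.comp ψ).FiniteType := by
    rw [hcomp]
    exact h0.comp (RingHom.FiniteType.of_surjective b hb)
  algebraize [ψ, c, c.comp ψ]
  have h1' : Algebra.FiniteType B C0 := h1
  obtain ⟨s, hs⟩ := h1'.1
  choose t ht using hc
  classical
  refine ⟨⟨s.image t, ?_⟩⟩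
  rw [← Algebra.toSubmodule_eq_top, eq_top_iff]
  refine le_of_le_sup_smul (RingHom.ker b) hb' _ _ ?_
  intro x _
  have hx : c x ∈ Algebra.adjoin B (s : Set C0) := by rw [hs]; trivial
  have hmap : (Algebra.adjoin B ((s.image t : Finset C) : Set C)).map (IsScalarTower.toAlgHom B C C0) =
      Algebra.adjoin B (s : Set C0) := by
    rw [AlgHom.map_adjoin]
    congr 1
    ext y
    simp only [Finset.coe_image, Set.mem_image, exists_exists_and_eq_and]
    constructor
    · rintro ⟨z, hz, rfl⟩
      have : (IsScalarTower.toAlgHom B C C0) (t z) = z := ht z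
      rw [this]
      exact hz
    · intro hy
      exact ⟨y, hy, ht y⟩
  rw [← hmap] at hx
  obtain ⟨y, hy, hyx⟩ := hx
  have hk : x - y ∈ RingHom.ker c := by
    rw [RingHom.mem_ker, map_sub, sub_eq_zero]
    exact hyx.symm
  rw [hc'] at hk
  have hk2 : x - y ∈ (RingHom.ker b) • (⊤ : Submodule B C) := by
    rw [Ideal.smul_top_eq_map]
    exact hk
  rw [← sub_add_cancel x y, add_comm]
  exact Submodule.add_mem_sup hy hk2

/-- Lifting finite presentation along a nilpotent ideal of the base, for flat algebras. -/
theorem finitePresentation_of_nilpotent {A A0 B B0 C C0 : Type u} [CommRing A] [CommRing A0] [CommRing B]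
    [CommRing B0] [CommRing C] [CommRing C0] (a : A →+* A0) (b : B →+* B0) (c : C →+* C0)
    (φ : A →+* B) (ψ : B →+* C) (ψ0 : B0 →+* C0)
    (hb : Function.Surjective b) (hc : Function.Surjective c)
    (ha' : IsNilpotent (RingHom.ker a)) (hb' : RingHom.ker b = (RingHom.ker a).map φ)
    (hc' : RingHom.ker c = (RingHom.ker a).map (ψ.comp φ)) (hcomp : c.comp ψ = ψ0.comp b)
    (hflat : (ψ.comp φ).Flat) (h0 : ψ0.FinitePresentation) : ψ.FinitePresentation := by
  have hcψ : ∀ x, c (ψ x) = ψ0 (b x) := fun x => congr($hcomp x)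
  have hnb : IsNilpotent (RingHom.ker b) := by
    obtain ⟨n, hn⟩ := ha'
    refine ⟨n, ?_⟩
    rw [hb', ← Ideal.map_pow, hn]
    simp
  have hft : ψ.FiniteType := finiteType_of_nilpotent b c ψ ψ0 hb hc hnb
    (by rw [hc', hb', Ideal.map_map]) hcomp (RingHom.FiniteType.of_finitePresentation h0)
  algebraize [φ, ψ, ψ.comp φ, ψ0]
  set I := RingHom.ker a with hI
  obtain ⟨n, π, hπ⟩ := Algebra.FiniteType.iff_quotient_mvPolynomial''.mp
    (show Algebra.FiniteType B C from hft)
  let p : MvPolynomial (Fin n) B →+* MvPolynomial (Fin n) B0 := MvPolynomial.map b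
  have hp : Function.Surjective p := MvPolynomial.map_surjective b hb
  let π0 : MvPolynomial (Fin n) B0 →ₐ[B0] C0 := MvPolynomial.aeval (fun i => c (π (MvPolynomial.X i)))
  have hπ0 : ∀ x, π0 (p x) = c (π x) := by
    intro x
    have : (π0.toRingHom.comp p) = c.comp π.toRingHom := by
      ext i
      · simp only [RingHom.comp_apply, p, MvPolynomial.map_C, AlgHom.toRingHom_eq_coe, RingHom.coe_coe,
          MvPolynomial.algHom_C]
        exact (hcψ i).symm
      · simp [p, π0]
    exact congr($this x)
  have hπ0s : Function.Surjective π0 := by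
    intro y
    obtain ⟨z, rfl⟩ := hc y
    obtain ⟨w, rfl⟩ := hπ z
    exact ⟨p w, hπ0 w⟩
  have hFP0 : Algebra.FinitePresentation B0 C0 := h0
  obtain ⟨s, hs⟩ := Algebra.FinitePresentation.ker_fg_of_mvPolynomial π0 hπ0s
  -- lift the generators
  have hlift : ∀ z ∈ RingHom.ker π0.toRingHom, ∃ w ∈ RingHom.ker π.toRingHom, p w = z := by
    intro z hz
    obtain ⟨w, rfl⟩ := hp z
    have h1 : π w ∈ RingHom.ker c := by
      rw [RingHom.mem_ker, ← hπ0]
      exact hz
    rw [hc'] at h1
    have h2 : (I.map (ψ.comp φ)) = (I.map (MvPolynomial.C.comp φ)).map π.toRingHom := by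
      rw [Ideal.map_map]
      congr 1
      ext x
      simp only [RingHom.comp_apply, AlgHom.toRingHom_eq_coe, RingHom.coe_coe, MvPolynomial.algHom_C]
      rfl
    rw [h2, Ideal.mem_map_iff_of_surjective π.toRingHom hπ] at h1
    obtain ⟨q, hq, hqw⟩ := h1
    have hpq : p q = 0 := by
      rw [← RingHom.mem_ker]
      have : I.map (MvPolynomial.C.comp φ) ≤ RingHom.ker p := by
        rw [← Ideal.map_map, ← hb', MvPolynomial.ker_map]
      exact this hq
    refine ⟨w - q, ?_, by rw [map_sub, hpq, sub_zero]⟩
    rw [RingHom.mem_ker, map_sub, hqw]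
    exact sub_self _
  choose! t ht using hlift
  classical
  have hJ : RingHom.ker π.toRingHom = Ideal.span (t '' s) := by
    refine le_antisymm ?_ ?_
    · refine le_of_le_sup_smul (I.map (MvPolynomial.C.comp φ)) ?_ _ _ ?_
      · obtain ⟨n, hn⟩ := ha'
        refine ⟨n, ?_⟩
        rw [← Ideal.map_pow, hn]
        simp
      · intro x hx
        have hx0 : p x ∈ RingHom.ker π0.toRingHom := by
          rw [RingHom.mem_ker]
          have : π x = 0 := hx
          have h3 := hπ0 x
          rw [this, map_zero] at h3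
          exact h3
        have hspan : p x ∈ (Ideal.span (t '' s)).map p := by
          have h4 : (Ideal.span (t '' s)).map p = RingHom.ker π0.toRingHom := by
            rw [Ideal.map_span, ← hs]
            congr 1
            ext y
            simp only [Set.mem_image, exists_exists_and_eq_and]
            constructor
            · rintro ⟨z, hz, rfl⟩
              rw [(ht z (by rw [← hs]; exact Ideal.subset_span hz)).2]
              exact hz
            · intro hy
              exact ⟨y, hy, (ht y (by rw [← hs]; exact Ideal.subset_span hy)).2⟩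
          rw [h4]
          exact hx0
        rw [Ideal.mem_map_iff_of_surjective _ hp] at hspan
        obtain ⟨y, hy, hyx⟩ := hspan
        have hyJ : y ∈ RingHom.ker π.toRingHom := by
          refine (Ideal.span_le.mpr ?_ : Ideal.span (t '' s) ≤ _) hy
          rintro _ ⟨z, hz, rfl⟩
          exact (ht z (by rw [← hs]; exact Ideal.subset_span hz)).1
        have hd1 : x - y ∈ RingHom.ker π.toRingHom := sub_mem hx hyJ
        have hd2 : x - y ∈ I.map (MvPolynomial.C.comp φ) := by
          rw [← Ideal.map_map, ← hb', ← MvPolynomial.ker_map, RingHom.mem_ker, map_sub, sub_eq_zero]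
          exact hyx.symm
        let l : MvPolynomial (Fin n) B →ₗ[A] C := (π.restrictScalars A).toLinearMap
        have hfl : Module.Flat A C := hflat
        have hd3 : x - y ∈ I • LinearMap.ker l := by
          refine ker_inf_smul_top I l hπ ⟨hd1, ?_⟩
          have hd5 : x - y ∈ (I • ⊤ : Submodule A (MvPolynomial (Fin n) B)) := by
            rw [Ideal.smul_top_eq_map]
            exact hd2
          exact hd5
        have hd4 : x - y ∈ (I.map ((MvPolynomial.C (σ := Fin n)).comp φ)) •
            (RingHom.ker π.toRingHom) := by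
          refine Submodule.smul_induction_on hd3 ?_ ?_
          · intro r hr m hm
            rw [Algebra.smul_def]
            exact Ideal.mul_mem_mul (Ideal.mem_map_of_mem _ hr) hm
          · intro u v hu hv
            exact add_mem hu hv
        rw [← sub_add_cancel x y, add_comm]
        exact Submodule.add_mem_sup hy hd4
    · rw [Ideal.span_le]
      rintro _ ⟨z, hz, rfl⟩
      exact (ht z (by rw [← hs]; exact Ideal.subset_span hz)).1
  refine ⟨n, π, hπ, ?_⟩
  rw [hJ]
  exact ⟨s.image t, by simp⟩

end Groth.Agent.Flat2D.NilpAlg
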