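import Groth.Agent.Flat2D.NilpFlat
import Mathlib.AlgebraicGeometry.Morphisms.Flat
import Mathlib.AlgebraicGeometry.Morphisms.ClosedImmersion
import Mathlib.Algebra.Category.Ring.Constructions
import Mathlib.RingTheory.RingHom.Flat

/-!
# Ring-theoretic and scheme-theoretic forms of the nilpotent criterion of flatness

* `flat_of_surjective_of_isNilpotent`: algebra version of the critere de platitude with `T` in place of `S/IS`.
* `ker_of_isPushout`: kernel of the base change of a surjection in a pushout square of commutative rings.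
* `ringHom_flat_of_isPushout`: the version for two pushout squares in `CommRingCat`.
-/

set_option autoImplicit false
universe u v w

namespace Groth.Agent.Flat2D.NilpFlat2

open TensorProduct Function CategoryTheory CategoryTheory.Limits

/-- Critere de platitude par fibres, nilpotent case, with a ring `T` isomorphic to `S/IS`. -/
theorem flat_of_surjective_of_isNilpotent {R : Type u} [CommRing R] {S : Type w} [CommRing S]
    [Algebra R S] {M : Type v} [AddCommGroup M] [Module R M] [Module S M] [IsScalarTower R S M]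
    (I : Ideal R) (hI : IsNilpotent I) [Module.Flat R M]
    {T : Type w} [CommRing T] [Algebra S T] (hT : Surjective (algebraMap S T))
    (hker : RingHom.ker (algebraMap S T) = I.map (algebraMap R S))
    [Module.Flat T (T ⊗[S] M)] : Module.Flat S M := by
  set J := I.map (algebraMap R S) with hJ
  let e : (S ⧸ RingHom.ker (algebraMap S T)) ≃+* T := RingHom.quotientKerEquivOfSurjective hT
  let e' : T →+* (S ⧸ J) := ((Ideal.quotEquivOfEq hker).toRingHom).comp e.symm.toRingHom
  letI : Algebra T (S ⧸ J) := e'.toAlgebra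
  have : IsScalarTower S T (S ⧸ J) := by
    refine IsScalarTower.of_algebraMap_eq fun s => ?_
    have h1 : e.symm (algebraMap S T s) = Ideal.Quotient.mk _ s := by
      rw [RingEquiv.symm_apply_eq]
      rfl
    change _ = (Ideal.quotEquivOfEq hker) (e.symm (algebraMap S T s))
    rw [h1]
    rfl
  have : Module.Flat (S ⧸ J) ((S ⧸ J) ⊗[S] M) := by
    have : Module.Flat (S ⧸ J) ((S ⧸ J) ⊗[T] (T ⊗[S] M)) := inferInstance
    exact Module.Flat.of_linearEquiv
      (TensorProduct.AlgebraTensorModule.cancelBaseChange S T (S ⧸ J) (S ⧸ J) M).symm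
  exact NilpFlat.flat_of_isNilpotent_of_flat_base I hI

/-- The kernel of the base change of a surjective ring map. -/
theorem ker_of_isPushout {A' A B' B : CommRingCat.{u}} {φ : A' ⟶ A} {a : A' ⟶ B'} {a₀ : A ⟶ B}
    {ψ : B' ⟶ B} (h : IsPushout φ a a₀ ψ) (hφ : Surjective φ.hom) :
    RingHom.ker ψ.hom = (RingHom.ker φ.hom).map a.hom := by
  apply le_antisymm
  · let J := (RingHom.ker φ.hom).map a.hom
    let e : (A' ⧸ RingHom.ker φ.hom) ≃+* A := RingHom.quotientKerEquivOfSurjective hφ
    let q : (A' ⧸ RingHom.ker φ.hom) →+* (B' ⧸ J) :=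
      Ideal.quotientMap J a.hom Ideal.le_comap_map
    let l : A ⟶ CommRingCat.of (B' ⧸ J) := CommRingCat.ofHom (q.comp e.symm.toRingHom)
    let r : B' ⟶ CommRingCat.of (B' ⧸ J) := CommRingCat.ofHom (Ideal.Quotient.mk J)
    have w : φ ≫ l = a ≫ r := by
      ext x
      change q (e.symm (φ.hom x)) = Ideal.Quotient.mk J (a.hom x)
      have h1 : e.symm (φ.hom x) = Ideal.Quotient.mk _ x := by
        rw [RingEquiv.symm_apply_eq]
        rfl
      rw [h1]
      exact Ideal.quotientMap_mk
    intro x hx
    have h2 : h.desc l r w (ψ x) = r x := by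
      rw [← CommRingCat.comp_apply, h.inr_desc]
    have h3 : ψ x = 0 := hx
    rw [h3, map_zero] at h2
    exact Ideal.Quotient.eq_zero_iff_mem.1 h2.symm
  · rw [Ideal.map_le_iff_le_comap]
    intro x hx
    rw [Ideal.mem_comap, RingHom.mem_ker, ← RingHom.comp_apply, ← CommRingCat.hom_comp, ← h.w,
      CommRingCat.hom_comp, RingHom.comp_apply, RingHom.mem_ker.1 hx, map_zero]

/-- surjectivity of the base change of a surjective ring map. -/
theorem surjective_of_isPushout {A' A B' B : CommRingCat.{u}} {φ : A' ⟶ A} {a : A' ⟶ B'}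
    {a₀ : A ⟶ B} {ψ : B' ⟶ B} (h : IsPushout φ a a₀ ψ) (hφ : Surjective φ.hom) :
    Surjective ψ.hom := by
  have h1 := CommRingCat.closure_range_union_range_eq_top_of_isPushout h
  have h2 : Set.range a₀ ∪ Set.range ψ ⊆ (ψ.hom.range : Set B) := by
    rintro x (⟨y, rfl⟩ | ⟨y, rfl⟩)
    · obtain ⟨z, rfl⟩ := hφ y
      refine ⟨a z, ?_⟩
      change (a ≫ ψ) z = (φ ≫ a₀) z
      rw [h.w]
    · exact ⟨y, rfl⟩
  intro x
  have h3 : x ∈ (⊤ : Subring B) := trivial
  rw [← h1] at h3
  exact (Subring.closure_le.2 h2) h3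

/-- Critere de platitude par fibres, nilpotent case, for two pushout squares of commutative rings. -/
theorem ringHom_flat_of_isPushout {A' A B' B C' C : CommRingCat.{u}} {φ : A' ⟶ A} {a : A' ⟶ B'}
    {a₀ : A ⟶ B} {ψ : B' ⟶ B} {c : B' ⟶ C'} {c₀ : B ⟶ C} {χ : C' ⟶ C}
    (hY : IsPushout φ a a₀ ψ) (hX : IsPushout ψ c c₀ χ)
    (hφ : Surjective φ.hom) (hn : IsNilpotent (RingHom.ker φ.hom))
    (hfl : (a ≫ c).hom.Flat) (hc₀ : c₀.hom.Flat) : c.hom.Flat := by
  have hψ := surjective_of_isPushout hY hφ
  have hker := ker_of_isPushout hY hφ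
  algebraize [a.hom, c.hom, (a ≫ c).hom, ψ.hom, c₀.hom, χ.hom, (c ≫ χ).hom]
  have : IsScalarTower A' B' C' := IsScalarTower.of_algebraMap_eq fun _ => rfl
  have : IsScalarTower B' C' C := IsScalarTower.of_algebraMap_eq fun _ => rfl
  have : IsScalarTower B' B C := IsScalarTower.of_algebraMap_eq fun x => by
    change (c ≫ χ) x = (ψ ≫ c₀) x
    rw [hX.w]
  have : Algebra.IsPushout B' B C' C := CommRingCat.isPushout_iff_isPushout.1 hX
  have : Module.Flat B (B ⊗[B'] C') :=
    Module.Flat.of_linearEquiv (Algebra.IsPushout.equiv B' B C' C).toLinearEquiv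
  exact flat_of_surjective_of_isNilpotent (R := A') (S := B') (M := C') (RingHom.ker φ.hom) hn
    (T := B) hψ hker

end Groth.Agent.Flat2D.NilpFlat2
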