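import Groth.Agent.Flat2E.LocalCrit
import Mathlib.RingTheory.Localization.AtPrime.Basic
import Mathlib.RingTheory.Flat.Localization
import Mathlib.RingTheory.Flat.TorsionFree
import Mathlib.Algebra.Module.LocalizedModule.Submodule
import Mathlib.RingTheory.LocalRing.ResidueField.Basic
import Mathlib.RingTheory.MvPolynomial.Basic
import Mathlib.RingTheory.Polynomial.Basic
import Mathlib.RingTheory.TensorProduct.IsBaseChangePi

/-!
A torsion-freeness criterion over Noetherian rings (a consequence of the local criterion of flatness).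
-/

set_option autoImplicit false

open TensorProduct Function

namespace Groth.Agent.Flat2D.PolyCrit

section Tor

variable {R F : Type*} [CommRing R] [AddCommGroup F] [Module R F]

/-- If `N ⊓ I F ≤ I N` then `N ⊗ R/I → F ⊗ R/I` is injective. -/
lemma rTensor_quot_injective (I : Ideal R) (N : Submodule R F)
    (h : ∀ w ∈ N, w ∈ I • (⊤ : Submodule R F) → w ∈ I • N) :
    Injective (N.subtype.rTensor (R ⧸ I)) := by
  rw [injective_iff_map_eq_zero]
  intro z hz
  obtain ⟨n, rfl⟩ : ∃ n : N, n ⊗ₜ[R] (1 : R ⧸ I) = z := by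
    induction z using TensorProduct.induction_on with
    | zero => exact ⟨0, by simp⟩
    | add x y hx hy =>
      have key : ∀ x : N ⊗[R] (R ⧸ I), ∃ n : N, n ⊗ₜ[R] (1 : R ⧸ I) = x := by
        intro x
        induction x using TensorProduct.induction_on with
        | zero => exact ⟨0, by simp⟩
        | tmul n r =>
          obtain ⟨r, rfl⟩ := Ideal.Quotient.mk_surjective r
          refine ⟨r • n, ?_⟩
          rw [TensorProduct.smul_tmul]
          congr 1
          rw [Algebra.smul_def, mul_one]; rfl
        | add x y hx hy =>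
          obtain ⟨a, rfl⟩ := hx
          obtain ⟨b, rfl⟩ := hy
          exact ⟨a + b, by rw [TensorProduct.add_tmul]⟩
      exact key _
    | tmul n r =>
      obtain ⟨r, rfl⟩ := Ideal.Quotient.mk_surjective r
      refine ⟨r • n, ?_⟩
      rw [TensorProduct.smul_tmul]
      congr 1
      rw [Algebra.smul_def, mul_one]; rfl
  rw [LinearMap.rTensor_tmul, Submodule.subtype_apply] at hz
  have h1 : (n : F) ∈ I • (⊤ : Submodule R F) := by
    have := congrArg (TensorProduct.tensorQuotEquivQuotSMul F I) hz
    rw [map_zero] at this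
    have h2 : TensorProduct.tensorQuotEquivQuotSMul F I ((n : F) ⊗ₜ[R] (1 : R ⧸ I)) =
        Submodule.Quotient.mk (n : F) := by
      have := TensorProduct.tensorQuotEquivQuotSMul_tmul_mk (M := F) I (n : F) 1
      simpa using this
    rw [h2, Submodule.Quotient.mk_eq_zero] at this
    exact this
  have h2 := h n n.2 h1
  have h3 : n ∈ I • (⊤ : Submodule R N) := by
    have : (n : F) ∈ (I • (⊤ : Submodule R N)).map N.subtype := by
      rwa [Submodule.map_smul'', Submodule.map_top, Submodule.range_subtype]
    obtain ⟨m, hm, hmn⟩ := this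
    have : m = n := Subtype.ext hmn
    rwa [this] at hm
  apply (TensorProduct.tensorQuotEquivQuotSMul N I).injective
  rw [map_zero]
  have h4 : TensorProduct.tensorQuotEquivQuotSMul N I (n ⊗ₜ[R] (1 : R ⧸ I)) =
      Submodule.Quotient.mk n := by
    have := TensorProduct.tensorQuotEquivQuotSMul_tmul_mk (M := N) I n 1
    simpa using this
  rw [h4, Submodule.Quotient.mk_eq_zero]
  exact h3

end Tor

section Noeth

variable {R P : Type*} [CommRing R] [CommRing P] [Algebra R P]

open IsLocalizedModule in
/-- Noetherian criterion: if `N ∩ I F ⊆ I N` locally at `q ⊇ I P` (with `I` maximal and `P` flat over `R`,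
`F = P^r`), then `F / N` is `R`-torsion-free locally at `q`. -/
theorem exists_smul_mem_of_noetherian [IsNoetherianRing R] [IsNoetherianRing P] [Module.Flat R P]
    (I : Ideal R) [I.IsMaximal] (q : Ideal P) [q.IsPrime] (hIq : I.map (algebraMap R P) ≤ q)
    {r : Type*} [Finite r] (N : Submodule P (r → P))
    (hN : ∀ w ∈ N, w ∈ I.map (algebraMap R P) • (⊤ : Submodule P (r → P)) →
      ∃ t : P, t ∉ q ∧ t • w ∈ I.map (algebraMap R P) • N)
    (b : R) (hb : b ∈ nonZeroDivisors R) (v : r → P) (hv : b • v ∈ N) :
    ∃ t : P, t ∉ q ∧ t • v ∈ N := by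
  classical
  have := Fintype.ofFinite r
  let S := Localization.AtPrime q
  let ι : (r → P) →ₗ[P] (r → S) := .pi fun i ↦ (Algebra.linearMap P S) ∘ₗ .proj i
  have hι : IsLocalizedModule q.primeCompl ι := inferInstance
  let Nq : Submodule S (r → S) := N.localized' S q.primeCompl ι
  have hflatS : Module.Flat R S := Module.Flat.trans R P S
  have hflat : Module.Flat R (r → S) := by
    have : Module.Flat R (DirectSum r fun _ => S) := inferInstance
    exact Module.Flat.of_linearEquiv (DirectSum.linearEquivFunOnFintype R r fun _ => S).symm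
  have key : ∀ z ∈ Nq.restrictScalars R, z ∈ I • (⊤ : Submodule R (r → S)) →
      z ∈ I • Nq.restrictScalars R := by
    intro z hz hz'
    obtain ⟨w, hw, s, rfl⟩ : ∃ w ∈ N, ∃ s : q.primeCompl, mk' ι w s = z := hz
    rw [← Submodule.restrictScalars_top R P, ← Ideal.smul_restrictScalars,
      Submodule.restrictScalars_mem] at hz'
    have htop : (⊤ : Submodule P (r → S)) = (⊤ : Submodule P (r → P)).localized₀ q.primeCompl ι := by
      rw [eq_comm, eq_top_iff]
      rintro x -
      obtain ⟨⟨w, s⟩, rfl⟩ := IsLocalizedModule.mk'_surjective q.primeCompl ι x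
      exact ⟨w, trivial, s, rfl⟩
    rw [htop, ← Submodule.localized₀_smul] at hz'
    obtain ⟨w', hw', s', h⟩ := hz'
    rw [IsLocalizedModule.mk'_eq_mk'_iff] at h
    obtain ⟨c, hc⟩ := h
    have h2 : (c * s' : P) • w ∈ I.map (algebraMap R P) • (⊤ : Submodule P (r → P)) := by
      have : (c * s' : P) • w = (c * s : P) • w' := by
        simpa [mul_smul, Submonoid.smul_def] using hc
      rw [this]
      exact Submodule.smul_mem _ _ hw'
    obtain ⟨t, ht, ht'⟩ := hN _ (N.smul_mem _ hw) h2
    have h3 : mk' ι w s = mk' ι (t • (c * s' : P) • w) (⟨t, ht⟩ * (c * s') * s) := by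
      have := IsLocalizedModule.mk'_cancel_left ι w (⟨t, ht⟩ * (c * s')) s
      rw [← this]
      congr 1
      simp [Submonoid.smul_def, mul_smul]
    have h4 : mk' ι w s ∈ (I.map (algebraMap R P) • N).localized₀ q.primeCompl ι := by
      rw [h3]
      exact ⟨_, ht', _, rfl⟩
    rw [Submodule.localized₀_smul] at h4
    have h5 : Nq.restrictScalars R = (Nq.restrictScalars P).restrictScalars R := rfl
    rw [h5, ← Ideal.smul_restrictScalars, Submodule.restrictScalars_mem]
    exact h4
  -- flatness of the quotient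
  have hinj : Injective (I.subtype.lTensor ((r → S) ⧸ Nq)) := by
    let N' : Submodule R (r → S) := Nq.restrictScalars R
    let p : (r → S) →ₗ[R] ((r → S) ⧸ Nq) := Nq.mkQ.restrictScalars R
    have hex : Exact N'.subtype p := by
      intro x
      simp [p, N']
    have hp : Surjective p := Nq.mkQ_surjective
    have h0 : Injective (N'.subtype.rTensor (R ⧸ I)) := rTensor_quot_injective I N' key
    exact Groth.Agent.Flat2E.LocalCrit.lTensor_injective_of_rTensor_injective
      N'.subtype p I.subtype I.mkQ hex hp I.subtype_injective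
      (LinearMap.exact_subtype_mkQ _) (Submodule.mkQ_surjective _) h0
  have hflatM : Module.Flat R ((r → S) ⧸ Nq) := by
    let := Ideal.Quotient.field I
    have hI : I.map (algebraMap R S) ≤ (⊥ : Ideal S).jacobson := by
      rw [IsLocalRing.jacobson_eq_maximalIdeal _ bot_ne_top, IsScalarTower.algebraMap_eq R P S,
        ← Ideal.map_map]
      have h1 : (I.map (algebraMap R P)).map (algebraMap P S) ≤ q.map (algebraMap P S) :=
        Ideal.map_mono hIq
      exact h1.trans (le_of_eq (Localization.AtPrime.map_eq_maximalIdeal))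
    exact Groth.Agent.Flat2E.LocalCrit.flat_of_lTensor_injective (S := S) I hI hinj
  -- conclusion
  have h1 : ι v ∈ Nq := by
    have h2 : b • (Nq.mkQ (ι v)) = 0 := by
      have : b • Nq.mkQ (ι v) = Nq.mkQ (ι (b • v)) := by
        rw [← algebraMap_smul P b v, map_smul, ← algebraMap_smul S (algebraMap R P b), map_smul,
          ← IsScalarTower.algebraMap_apply, algebraMap_smul]
      rw [this, Submodule.mkQ_apply, Submodule.Quotient.mk_eq_zero]
      exact ⟨b • v, hv, 1, by simp⟩
    have h3 := (Module.Flat.isSMulRegular_of_nonZeroDivisors (M := (r → S) ⧸ Nq) hb)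
    have h4 : Nq.mkQ (ι v) = 0 := h3 (by simpa using h2)
    rwa [Submodule.mkQ_apply, Submodule.Quotient.mk_eq_zero] at h4
  obtain ⟨w, hw, s, h⟩ : ∃ w ∈ N, ∃ s : q.primeCompl, mk' ι w s = ι v := h1
  have h' : ι w = ι ((s : P) • v) := by
    rw [IsLocalizedModule.mk'_eq_iff] at h
    rw [h, map_smul]; rfl
  rw [IsLocalizedModule.eq_iff_exists q.primeCompl ι] at h'
  obtain ⟨c, hc⟩ := h'
  have hcs : (c : P) * (s : P) ∉ q := fun h => ((Ideal.IsPrime.mem_or_mem ‹_› h).elim c.2 s.2)
  refine ⟨(c : P) * (s : P), hcs, ?_⟩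
  have : ((c : P) * (s : P)) • v = c • w := by
    rw [hc]; simp [mul_smul, Submonoid.smul_def]
  rw [this]
  exact N.smul_mem _ hw

end Noeth

end Groth.Agent.Flat2D.PolyCrit
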