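import Groth.Agent.Flat2D.PolyCrit
import Mathlib.RingTheory.MvPolynomial.Ideal
import Mathlib.RingTheory.Localization.Submodule
import Mathlib.RingTheory.Flat.Basic
import Mathlib.LinearAlgebra.Basis.VectorSpace

/-!
Noetherian approximation: torsion-freeness of `A[x]^r / N` at a prime over the maximal ideal of a local
domain `A` (no Noetherian hypothesis).
-/

set_option autoImplicit false
universe u

open Function IsLocalRing MvPolynomial

namespace Groth.Agent.Flat2D.PolyCrit

/-- A finite subset of a local domain lies in (the image of) a Noetherian local ring. -/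
theorem exists_noeth_local {A : Type u} [CommRing A] [IsDomain A] [IsLocalRing A] (T : Finset A) :
    ∃ (A₁ : Type u) (_ : CommRing A₁) (_ : IsNoetherianRing A₁) (_ : IsLocalRing A₁) (φ : A₁ →+* A),
      Function.Injective φ ∧ IsLocalHom φ ∧ ∀ a ∈ T, ∃ a', φ a' = a := by
  let A₀ := Algebra.adjoin ℤ (T : Set A)
  have hN : IsNoetherianRing A₀ := isNoetherianRing_of_fg ⟨T, rfl⟩
  let p₀ : Ideal A₀ := (maximalIdeal A).comap (algebraMap A₀ A)
  have hp₀ : p₀.IsPrime := inferInstance
  have hunit : ∀ y : p₀.primeCompl, IsUnit (algebraMap A₀ A y) := by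
    intro y
    by_contra h
    exact y.2 ((mem_maximalIdeal _).mpr h)
  let φ : Localization.AtPrime p₀ →+* A := IsLocalization.lift (M := p₀.primeCompl) hunit
  have hφ : ∀ x, φ (algebraMap A₀ _ x) = algebraMap A₀ A x := IsLocalization.lift_eq hunit
  refine ⟨Localization.AtPrime p₀, inferInstance,
    IsLocalization.isNoetherianRing p₀.primeCompl _ hN, inferInstance, φ, ?_, ?_, ?_⟩
  · rw [IsLocalization.lift_injective_iff]
    intro x y
    constructor
    · intro h
      have := IsLocalization.exists_of_eq (M := p₀.primeCompl) h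
      obtain ⟨c, hc⟩ := this
      have h2 := congrArg (algebraMap A₀ A) hc
      rw [map_mul, map_mul] at h2
      exact (hunit c).mul_left_cancel h2
    · intro h
      have : x = y := Subtype.ext h
      rw [this]
  · refine ⟨fun x hx => ?_⟩
    obtain ⟨y, s, rfl⟩ := IsLocalization.exists_mk'_eq p₀.primeCompl x
    have h1 : φ (IsLocalization.mk' _ y s) * algebraMap A₀ A s = algebraMap A₀ A y := by
      rw [← hφ, ← map_mul, IsLocalization.mk'_spec, hφ]
    have h2 : IsUnit (algebraMap A₀ A y) := by
      rw [← h1]; exact hx.mul (hunit s)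
    have h3 : y ∈ p₀.primeCompl := by
      intro h
      exact (mem_maximalIdeal _).mp h h2
    have h4 : IsUnit (IsLocalization.mk' (Localization.AtPrime p₀) y s * algebraMap A₀ _ s) := by
      rw [IsLocalization.mk'_spec]
      exact IsLocalization.map_units _ (⟨y, h3⟩ : p₀.primeCompl)
    exact isUnit_of_mul_isUnit_left h4
  · intro a ha
    refine ⟨algebraMap A₀ _ ⟨a, Algebra.subset_adjoin ha⟩, ?_⟩
    rw [hφ]; rfl

section Retraction

variable {σ k₁ k : Type*} [Field k₁] [Field k] (φ : k₁ →+* k)

/-- Coefficientwise retraction of polynomial rings. -/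
lemma exists_poly_retraction : ∃ ρ : MvPolynomial σ k →+ MvPolynomial σ k₁,
    (∀ p, ρ (MvPolynomial.map φ p) = p) ∧
    ∀ p c, ρ (c * MvPolynomial.map φ p) = ρ c * p := by
  classical
  algebraize [φ]
  obtain ⟨g, hg⟩ := LinearMap.exists_leftInverse_of_injective (Algebra.linearMap k₁ k)
    (LinearMap.ker_eq_bot.mpr (algebraMap k₁ k).injective)
  have hg' : ∀ x, g (φ x) = x := fun x => LinearMap.congr_fun hg x
  let ρ₀ : MvPolynomial σ k → MvPolynomial σ k₁ := fun p => ∑ m ∈ p.support, monomial m (g (p.coeff m))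
  have hρ₀ : ∀ p m, (ρ₀ p).coeff m = g (p.coeff m) := by
    intro p m
    simp only [ρ₀, coeff_sum, coeff_monomial, Finset.sum_ite_eq', mem_support_iff, ne_eq, ite_not]
    split_ifs with h
    · rw [h, map_zero]
    · rfl
  let ρ : MvPolynomial σ k →+ MvPolynomial σ k₁ :=
    { toFun := ρ₀
      map_zero' := by ext m; simp [hρ₀]
      map_add' := by intro p q; ext m; simp [hρ₀] }
  have hρ : ∀ p m, (ρ p).coeff m = g (p.coeff m) := hρ₀
  refine ⟨ρ, ?_, ?_⟩
  · intro p
    ext m
    rw [hρ, coeff_map, hg']
  · intro p c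
    ext m
    rw [hρ, coeff_mul, coeff_mul, map_sum]
    refine Finset.sum_congr rfl fun x _ => ?_
    rw [hρ, coeff_map, mul_comm, mul_comm (g _)]
    have : φ (p.coeff x.2) * c.coeff x.1 = p.coeff x.2 • c.coeff x.1 := by
      rw [Algebra.smul_def]; rfl
    rw [this, map_smul, smul_eq_mul]

end Retraction

end Groth.Agent.Flat2D.PolyCrit
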