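import Groth.Agent.Flat2D.PolyCrit2

/-!
Torsion-freeness of `A[x]^r / N` at a prime over the maximal ideal of a local domain `A`
(no Noetherian hypothesis).
-/

set_option autoImplicit false
universe u

open Function IsLocalRing MvPolynomial

namespace Groth.Agent.Flat2D.PolyCrit

lemma map_residue_eq_zero_iff {σ A : Type*} [CommRing A] [IsLocalRing A] (p : MvPolynomial σ A) :
    MvPolynomial.map (residue A) p = 0 ↔ p ∈ (maximalIdeal A).map (C : A →+* MvPolynomial σ A) := by
  rw [mem_map_C_iff, MvPolynomial.ext_iff]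
  refine forall_congr' fun m => ?_
  rw [coeff_map, coeff_zero, residue_eq_zero_iff]

/-- Membership in `I • ⊤` for a finite free module. -/
lemma mem_smul_top_pi_iff {P r : Type*} [CommRing P] [Finite r] (I : Ideal P) (w : r → P) :
    w ∈ I • (⊤ : Submodule P (r → P)) ↔ ∀ k, w k ∈ I := by
  classical
  have := Fintype.ofFinite r
  constructor
  · intro h k
    refine Submodule.smul_induction_on h ?_ ?_
    · intro a ha x _
      exact I.mul_mem_right _ ha
    · intro x y hx hy
      exact I.add_mem hx hy
  · intro h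
    have : w = ∑ k, w k • (Pi.single k 1 : r → P) := by
      ext j
      simp [Finset.sum_apply, Pi.single_apply]
    rw [this]
    exact Submodule.sum_mem _ fun k _ => Submodule.smul_mem_smul (h k) trivial

theorem exists_smul_mem_of_local {A : Type u} [CommRing A] [IsDomain A] [IsLocalRing A]
    {σ r : Type*} [Finite σ] [Finite r] (q : Ideal (MvPolynomial σ A)) [q.IsPrime]
    (hq : (maximalIdeal A).map C ≤ q) (N : Submodule (MvPolynomial σ A) (r → MvPolynomial σ A))
    (hNfg : N.FG)
    (hN : ∀ w ∈ N, (∀ k, w k ∈ (maximalIdeal A).map (C : A →+* MvPolynomial σ A)) →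
      ∃ t : MvPolynomial σ A, t ∉ q ∧ t • w ∈ (maximalIdeal A).map (C : A →+* MvPolynomial σ A) • N)
    (b : A) (hb : b ≠ 0) (v : r → MvPolynomial σ A) (hv : b • v ∈ N) :
    ∃ t : MvPolynomial σ A, t ∉ q ∧ t • v ∈ N := by
  classical
  have := Fintype.ofFinite r
  obtain ⟨s, f, hf⟩ := Submodule.fg_iff_exists_fin_generating_family.mp hNfg
  have hfN : ∀ i, f i ∈ N := fun i => hf ▸ Submodule.subset_span ⟨i, rfl⟩
  let fbar : Fin s → (r → MvPolynomial σ (ResidueField A)) :=
    fun i k => MvPolynomial.map (residue A) (f i k)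
  let L : (Fin s → MvPolynomial σ (ResidueField A)) →ₗ[MvPolynomial σ (ResidueField A)]
    (r → MvPolynomial σ (ResidueField A)) := Fintype.linearCombination _ fbar
  obtain ⟨l, gbar, hg⟩ := Submodule.fg_iff_exists_fin_generating_family.mp
    (IsNoetherian.noetherian (LinearMap.ker L))
  have hgL : ∀ j, L (gbar j) = 0 := fun j => by
    have : gbar j ∈ LinearMap.ker L := hg ▸ Submodule.subset_span ⟨j, rfl⟩
    exact this
  choose g hgg using fun j i => MvPolynomial.map_surjective (residue A) residue_surjective (gbar j i)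
  have hw0 : ∀ j k, (∑ i, g j i • f i) k ∈ (maximalIdeal A).map (C : A →+* MvPolynomial σ A) := by
    intro j k
    rw [← map_residue_eq_zero_iff]
    have := congrFun (hgL j) k
    rw [Fintype.linearCombination_apply] at this
    simpa [fbar, hgg] using this
  choose t ht hte using fun j => hN (∑ i, g j i • f i)
    (Submodule.sum_mem _ fun i _ => N.smul_mem _ (hfN i)) (hw0 j)
  have hte' : ∀ j, ∃ e : Fin s → MvPolynomial σ A,
      (∀ i, e i ∈ (maximalIdeal A).map (C : A →+* MvPolynomial σ A)) ∧
      t j • ∑ i, g j i • f i = ∑ i, e i • f i := by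
    intro j
    have := hte j
    rw [← hf, Submodule.mem_ideal_smul_span_iff_exists_sum] at this
    obtain ⟨a, ha, h⟩ := this
    refine ⟨a, ha, ?_⟩
    rw [← h, Finsupp.sum_fintype _ _ (by intro i; exact zero_smul _ _)]
  choose e he hee using hte'
  rw [← hf, Submodule.mem_span_range_iff_exists_fun] at hv
  obtain ⟨p, hp⟩ := hv
  -- the finite set of coefficients
  let T : Finset A := {b} ∪ (Finset.univ.biUnion fun i => Finset.univ.biUnion fun k => (f i k).coeffs) ∪
    (Finset.univ.biUnion fun j => Finset.univ.biUnion fun i => (g j i).coeffs) ∪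
    (Finset.univ.biUnion fun j => (t j).coeffs) ∪
    (Finset.univ.biUnion fun j => Finset.univ.biUnion fun i => (e j i).coeffs) ∪
    (Finset.univ.biUnion fun k => (v k).coeffs) ∪ (Finset.univ.biUnion fun i => (p i).coeffs)
  obtain ⟨A₁, _, _, _, φ, hφi, hφl, hφT⟩ := exists_noeth_local T
  let Φ : MvPolynomial σ A₁ →+* MvPolynomial σ A := MvPolynomial.map φ
  have hΦi : Function.Injective Φ := MvPolynomial.map_injective φ hφi
  have hlift : ∀ x : MvPolynomial σ A, x.coeffs ⊆ T → ∃ x', Φ x' = x := by
    intro x hx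
    have : x ∈ Set.range (MvPolynomial.map (σ := σ) φ) := by
      rw [mem_range_map_iff_coeffs_subset]
      intro a ha
      exact hφT a (hx ha)
    exact this
  obtain ⟨b', hb'⟩ := hφT b (by simp [T])
  choose f' hf' using fun i k => hlift (f i k) (by
    intro a ha; simp only [T, Finset.mem_union, Finset.mem_biUnion, Finset.mem_univ, true_and]
    left; left; left; left; left; right; exact ⟨i, k, ha⟩)
  choose g' hg' using fun j i => hlift (g j i) (by
    intro a ha; simp only [T, Finset.mem_union, Finset.mem_biUnion, Finset.mem_univ, true_and]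
    left; left; left; left; right; exact ⟨j, i, ha⟩)
  choose t' ht' using fun j => hlift (t j) (by
    intro a ha; simp only [T, Finset.mem_union, Finset.mem_biUnion, Finset.mem_univ, true_and]
    left; left; left; right; exact ⟨j, ha⟩)
  choose e' he' using fun j i => hlift (e j i) (by
    intro a ha; simp only [T, Finset.mem_union, Finset.mem_biUnion, Finset.mem_univ, true_and]
    left; left; right; exact ⟨j, i, ha⟩)
  choose v' hv' using fun k => hlift (v k) (by
    intro a ha; simp only [T, Finset.mem_union, Finset.mem_biUnion, Finset.mem_univ, true_and]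
    left; right; exact ⟨k, ha⟩)
  choose p' hp' using fun i => hlift (p i) (by
    intro a ha; simp only [T, Finset.mem_union, Finset.mem_biUnion, Finset.mem_univ, true_and]
    right; exact ⟨i, ha⟩)
  -- descend to `A₁`
  have hdom : NoZeroDivisors A₁ := hφi.noZeroDivisors φ (map_zero φ) (map_mul φ)
  let q₁ : Ideal (MvPolynomial σ A₁) := q.comap Φ
  have hq₁ : q₁.IsPrime := inferInstance
  have hmm : ∀ x ∈ maximalIdeal A₁, φ x ∈ maximalIdeal A := by
    intro x hx
    rw [mem_maximalIdeal, mem_nonunits_iff] at hx ⊢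
    exact fun h => hx (hφl.map_nonunit x h)
  have hmm' : ∀ x, φ x ∈ maximalIdeal A → x ∈ maximalIdeal A₁ := by
    intro x hx
    rw [mem_maximalIdeal, mem_nonunits_iff] at hx ⊢
    exact fun h => hx (h.map φ)
  have hIq₁ : (maximalIdeal A₁).map (algebraMap A₁ (MvPolynomial σ A₁)) ≤ q₁ := by
    rw [Ideal.map_le_iff_le_comap]
    intro x hx
    rw [Ideal.mem_comap, Ideal.mem_comap, MvPolynomial.algebraMap_eq]
    change MvPolynomial.map φ (C x) ∈ q
    rw [MvPolynomial.map_C]
    exact hq (Ideal.mem_map_of_mem _ (hmm x hx))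
  let N₁ : Submodule (MvPolynomial σ A₁) (r → MvPolynomial σ A₁) := Submodule.span _ (Set.range f')
  -- vector version of `Φ`
  have hΦsum : ∀ (c : Fin s → MvPolynomial σ A₁) (k : r),
      Φ ((∑ i, c i • f' i) k) = (∑ i, Φ (c i) • f i) k := by
    intro c k
    simp [hf']
  have hrel : ∀ j, t' j • ∑ i, g' j i • f' i = ∑ i, e' j i • f' i := by
    intro j
    ext1 k
    apply hΦi
    rw [hΦsum, Pi.smul_apply, smul_eq_mul, map_mul, hΦsum]
    have := congrFun (hee j) k
    simpa [hg', he', ht'] using this
  have he'mem : ∀ j i, e' j i ∈ (maximalIdeal A₁).map (algebraMap A₁ (MvPolynomial σ A₁)) := by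
    intro j i
    rw [MvPolynomial.algebraMap_eq, mem_map_C_iff]
    intro m
    apply hmm'
    have := he j i
    rw [← he', mem_map_C_iff] at this
    have h2 := this m
    rwa [coeff_map] at h2
  let φbar : ResidueField A₁ →+* ResidueField A := ResidueField.map φ
  obtain ⟨ρ, hρ1, hρ2⟩ := exists_poly_retraction (σ := σ) φbar
  have hN₁ : ∀ w ∈ N₁, w ∈ (maximalIdeal A₁).map (algebraMap A₁ (MvPolynomial σ A₁)) •
        (⊤ : Submodule (MvPolynomial σ A₁) (r → MvPolynomial σ A₁)) →
      ∃ t : MvPolynomial σ A₁, t ∉ q₁ ∧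
        t • w ∈ (maximalIdeal A₁).map (algebraMap A₁ (MvPolynomial σ A₁)) • N₁ := by
    intro w hw hw'
    rw [mem_smul_top_pi_iff] at hw'
    obtain ⟨y, rfl⟩ := (Submodule.mem_span_range_iff_exists_fun _).mp hw
    let ybar : Fin s → MvPolynomial σ (ResidueField A₁) := fun i => MvPolynomial.map (residue A₁) (y i)
    let red : MvPolynomial σ A₁ →+* MvPolynomial σ (ResidueField A₁) := MvPolynomial.map (residue A₁)
    have hcomm : ∀ x : MvPolynomial σ A₁, MvPolynomial.map φbar (red x) =
        MvPolynomial.map (residue A) (Φ x) := by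
      intro x
      simp only [red, Φ, MvPolynomial.map_map]
      rfl
    have hker : (fun i => MvPolynomial.map φbar (red (y i))) ∈ LinearMap.ker L := by
      rw [LinearMap.mem_ker, Fintype.linearCombination_apply]
      ext1 k
      have h1 : red ((∑ i, y i • f' i) k) = 0 := by
        have := hw' k
        rw [MvPolynomial.algebraMap_eq, ← map_residue_eq_zero_iff] at this
        exact this
      have h2 : MvPolynomial.map φbar (red ((∑ i, y i • f' i) k)) = 0 := by rw [h1, map_zero]
      rw [hcomm, hΦsum] at h2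
      simpa [fbar, hcomm] using h2
    rw [← hg, Submodule.mem_span_range_iff_exists_fun] at hker
    obtain ⟨c, hc⟩ := hker
    choose C' hC' using fun j => MvPolynomial.map_surjective (residue A₁) residue_surjective (ρ (c j))
    have hy : ∀ i, y i - ∑ j, C' j * g' j i ∈
        (maximalIdeal A₁).map (algebraMap A₁ (MvPolynomial σ A₁)) := by
      intro i
      rw [MvPolynomial.algebraMap_eq, ← map_residue_eq_zero_iff, map_sub, sub_eq_zero, map_sum]
      have h1 := congrFun hc i
      have h2 := congrArg ρ h1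
      rw [hρ1] at h2
      rw [← show red (y i) = MvPolynomial.map (residue A₁) (y i) from rfl, ← h2, Finset.sum_apply,
        map_sum]
      refine Finset.sum_congr rfl fun j _ => ?_
      rw [map_mul, hC', Pi.smul_apply, smul_eq_mul]
      have h3 : gbar j i = MvPolynomial.map φbar (red (g' j i)) := by
        rw [hcomm, hg', hgg]
      rw [h3, hρ2]
    refine ⟨∏ j, t' j, ?_, ?_⟩
    · intro h
      obtain ⟨j, -, hj⟩ := (Ideal.IsPrime.prod_mem_iff (p := q₁)).mp h
      apply ht j
      have : Φ (t' j) ∈ q := hj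
      rwa [ht'] at this
    · have hdecomp : (∏ j, t' j) • ∑ i, y i • f' i =
          (∏ j, t' j) • ∑ i, (y i - ∑ j, C' j * g' j i) • f' i +
          ∑ j, C' j • (∏ j, t' j) • ∑ i, g' j i • f' i := by
        simp only [sub_smul, Finset.sum_sub_distrib, Finset.sum_smul, mul_smul, smul_sub]
        have : ∑ j, C' j • (∏ j, t' j) • ∑ i, g' j i • f' i =
            (∏ j, t' j) • ∑ i, ∑ j, C' j • g' j i • f' i := by
          rw [Finset.sum_comm, Finset.smul_sum]
          refine Finset.sum_congr rfl fun j _ => ?_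
          rw [smul_comm, Finset.smul_sum]
        rw [this, sub_add_cancel]
      rw [hdecomp]
      refine add_mem (Submodule.smul_mem _ _ (Submodule.sum_mem _ fun i _ =>
        Submodule.smul_mem_smul (hy i) (Submodule.subset_span ⟨i, rfl⟩))) ?_
      refine Submodule.sum_mem _ fun j _ => Submodule.smul_mem _ _ ?_
      rw [← Finset.prod_erase_mul _ _ (Finset.mem_univ j), mul_smul, hrel]
      exact Submodule.smul_mem _ _ (Submodule.sum_mem _ fun i _ =>
        Submodule.smul_mem_smul (he'mem j i) (Submodule.subset_span ⟨i, rfl⟩))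
  have hb0 : b' ≠ 0 := by
    rintro rfl
    exact hb (by rw [← hb', map_zero])
  have hv₁ : b' • v' ∈ N₁ := by
    rw [Submodule.mem_span_range_iff_exists_fun]
    refine ⟨p', ?_⟩
    ext1 k
    apply hΦi
    rw [hΦsum]
    have := congrFun hp k
    simp only [hp']
    rw [this, Pi.smul_apply, Pi.smul_apply, ← algebraMap_smul (MvPolynomial σ A₁) b' (v' k),
      smul_eq_mul, map_mul, hv', MvPolynomial.algebraMap_eq]
    simp only [Φ, MvPolynomial.map_C, hb']
    rw [MvPolynomial.smul_eq_C_mul]
  obtain ⟨u, hu, hu'⟩ := exists_smul_mem_of_noetherian (maximalIdeal A₁) q₁ hIq₁ N₁ hN₁ b'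
    (mem_nonZeroDivisors_of_ne_zero hb0) v' hv₁
  refine ⟨Φ u, hu, ?_⟩
  rw [← hf, Submodule.mem_span_range_iff_exists_fun]
  obtain ⟨z, hz⟩ := (Submodule.mem_span_range_iff_exists_fun _).mp hu'
  refine ⟨fun i => Φ (z i), ?_⟩
  ext1 k
  rw [← hΦsum, hz, Pi.smul_apply, smul_eq_mul, map_mul, hv', Pi.smul_apply, smul_eq_mul]

end Groth.Agent.Flat2D.PolyCrit
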