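import Groth.Agent.Flat2D.EtNbhd2
import Groth.Agent.Ega43.QuasiFiniteBC
import Groth.Agent.Flat2E.SplitIntegral
import Mathlib.FieldTheory.PurelyInseparable.Basic

set_option autoImplicit false
universe u

open AlgebraicGeometry CategoryTheory Limits

namespace Groth.Agent.Flat2D.QFPurInsep

/-- Residue field extensions at quasi-finite points are finite. -/
theorem residueFieldMap_finite {X S : Scheme.{u}} (f : X ⟶ S) (x : X) (hx : f.QuasiFiniteAt x) :
    (f.residueFieldMap x).hom.Finite := by
  have h1 : LocallyQuasiFinite (X.fromSpecResidueField x ≫ f) := by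
    have := Scheme.Hom.quasiFiniteAt_iff.mp hx
    rw [Scheme.fromSpecResidueField, Category.assoc]
    infer_instance
  rw [← Scheme.Hom.SpecMap_residueFieldMap_fromSpecResidueField] at h1
  have h2 : LocallyQuasiFinite (Spec.map (f.residueFieldMap x)) :=
    LocallyQuasiFinite.of_comp _ (S.fromSpecResidueField (f x))
  have h3 : (f.residueFieldMap x).hom.QuasiFinite := (HasRingHomProperty.Spec_iff (P := @LocallyQuasiFinite)).mp h2
  algebraize [(f.residueFieldMap x).hom]
  have : Algebra.QuasiFinite (S.residueField (f x)) (X.residueField x) := h3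
  exact Module.Finite.of_quasiFinite

/-- For `f` quasi-finite at `x`, there are finitely many points of a base change over `x` and a given point. -/
theorem finite_points {X S U : Scheme.{u}} (f : X ⟶ S) (g : U ⟶ S) (x : X) (hx : f.QuasiFiniteAt x) (u : U) :
    {w : ↑(pullback f g) | pullback.fst f g w = x ∧ pullback.snd f g w = u}.Finite := by
  have h1 : LocallyQuasiFinite (X.fromSpecResidueField x ≫ f) := by
    have := Scheme.Hom.quasiFiniteAt_iff.mp hx
    rw [Scheme.fromSpecResidueField, Category.assoc]
    infer_instance
  have h2 : QuasiCompact (X.fromSpecResidueField x ≫ f) := by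
    constructor
    intro V _ _
    exact (Set.toFinite _).isCompact
  let P := pullback (X.fromSpecResidueField x) (pullback.fst f g)
  let π : P ⟶ U := pullback.snd (X.fromSpecResidueField x) (pullback.fst f g) ≫ pullback.snd f g
  have hP : IsPullback (pullback.fst (X.fromSpecResidueField x) (pullback.fst f g)) π
      (X.fromSpecResidueField x ≫ f) g :=
    ((IsPullback.of_hasPullback (X.fromSpecResidueField x) (pullback.fst f g)).flip.paste_horiz
      (IsPullback.of_hasPullback f g).flip).flip
  have h3 : LocallyQuasiFinite π := MorphismProperty.of_isPullback (P := @LocallyQuasiFinite) hP h1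
  have h4 : QuasiCompact π := MorphismProperty.of_isPullback (P := @QuasiCompact) hP h2
  refine ((π.finite_preimage_singleton u).image
    (pullback.snd (X.fromSpecResidueField x) (pullback.fst f g))).subset ?_
  rintro w ⟨hw1, hw2⟩
  obtain ⟨z, hz1, hz2⟩ := Scheme.Pullback.exists_preimage_pullback (f := X.fromSpecResidueField x)
    (g := pullback.fst f g) (default : Spec (X.residueField x)) w (by
      rw [Scheme.fromSpecResidueField_apply, hw1])
  refine ⟨z, ?_, hz2⟩
  simp only [π, Set.mem_preimage, Set.mem_singleton_iff, Scheme.Hom.comp_apply]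
  rw [hz2, hw2]

/-- The residue field of a point of a fibre product is an epimorphic extension of the two residue fields. -/
theorem joint_epi {X S U : Scheme.{u}} (f : X ⟶ S) (g : U ⟶ S) (w : ↑(pullback f g)) {Ω : CommRingCat.{u}}
    (a b : (pullback f g).residueField w ⟶ Ω)
    (h1 : (pullback.fst f g).residueFieldMap w ≫ a = (pullback.fst f g).residueFieldMap w ≫ b)
    (h2 : (pullback.snd f g).residueFieldMap w ≫ a = (pullback.snd f g).residueFieldMap w ≫ b) : a = b := by
  rw [← Spec.map_inj, ← cancel_mono ((pullback f g).fromSpecResidueField w)]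
  apply pullback.hom_ext
  · rw [Category.assoc, Category.assoc, ← Scheme.Hom.SpecMap_residueFieldMap_fromSpecResidueField,
      ← Spec.map_comp_assoc, ← Spec.map_comp_assoc, h1]
  · rw [Category.assoc, Category.assoc, ← Scheme.Hom.SpecMap_residueFieldMap_fromSpecResidueField,
      ← Spec.map_comp_assoc, ← Spec.map_comp_assoc, h2]

/-- Pure inseparability of the residue fields of a fibre product. -/
theorem isPurelyInseparable_of_pow {X S U : Scheme.{u}} (f : X ⟶ S) (g : U ⟶ S) (w : ↑(pullback f g))
    (hfin : ((pullback.snd f g).residueFieldMap w).hom.Finite) (ℓ : ℕ)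
    [ExpChar (U.residueField (pullback.snd f g w)) ℓ]
    (h : ∀ y : X.residueField (pullback.fst f g w), ∃ n : ℕ, (pullback.fst f g).residueFieldMap w y ^ ℓ ^ n ∈
      ((pullback.snd f g).residueFieldMap w).hom.range) :
    letI := ((pullback.snd f g).residueFieldMap w).hom.toAlgebra
    Module.Finite ↑(U.residueField (pullback.snd f g w)) ↑((pullback f g).residueField w) ∧
    IsPurelyInseparable ↑(U.residueField (pullback.snd f g w)) ↑((pullback f g).residueField w) := by
  let _ := ((pullback.snd f g).residueFieldMap w).hom.toAlgebra
  have _ : Module.Finite ↑(U.residueField (pullback.snd f g w)) ↑((pullback f g).residueField w) := hfin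
  refine ⟨inferInstance, ?_⟩
  rw [isPurelyInseparable_iff_finSepDegree_eq_one]
  have key : ∀ σ τ : Field.Emb ↑(U.residueField (pullback.snd f g w)) ↑((pullback f g).residueField w), σ = τ := by
    intro σ τ
    let Ω := AlgebraicClosure ↑((pullback f g).residueField w)
    have _ : ExpChar Ω ℓ := expChar_of_injective_algebraMap
      (algebraMap ↑(U.residueField (pullback.snd f g w)) Ω).injective ℓ
    have h2 : ((pullback.snd f g).residueFieldMap w) ≫ CommRingCat.ofHom σ.toRingHom =
        ((pullback.snd f g).residueFieldMap w) ≫ CommRingCat.ofHom τ.toRingHom := by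
      ext y
      exact (σ.commutes y).trans (τ.commutes y).symm
    have h1 : ((pullback.fst f g).residueFieldMap w) ≫ CommRingCat.ofHom σ.toRingHom =
        ((pullback.fst f g).residueFieldMap w) ≫ CommRingCat.ofHom τ.toRingHom := by
      ext y
      obtain ⟨n, z, hz⟩ := h y
      have h3 : σ ((pullback.fst f g).residueFieldMap w y) ^ ℓ ^ n =
          τ ((pullback.fst f g).residueFieldMap w y) ^ ℓ ^ n := by
        rw [← map_pow σ, ← map_pow τ, ← hz]
        exact (σ.commutes z).trans (τ.commutes z).symm
      exact iterateFrobenius_inj Ω ℓ n h3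
    have h4 := joint_epi f g w _ _ h1 h2
    apply AlgHom.ext
    intro z
    exact congr($(h4).hom z)
  have : Subsingleton (Field.Emb ↑(U.residueField (pullback.snd f g w)) ↑((pullback f g).residueField w)) := ⟨key⟩
  rw [Field.finSepDegree, Nat.card_eq_one_iff_unique]
  exact ⟨this, inferInstance⟩

end Groth.Agent.Flat2D.QFPurInsep
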