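import Groth.Agent.Flat2D.QFPurInsep
import Groth.Agent.Flat2D.EtaleResSch
import Groth.Agent.Flat2D.EtNbhd5

set_option autoImplicit false
universe u

open AlgebraicGeometry CategoryTheory Limits

namespace Groth.Agent.Flat2D.QFPurInsep

open Groth.Agent.Flat2D.EtNbhd

/-- The residue field at `u` receives the extension `L` of `κ(s)`. -/
def Realizes {S U : Scheme.{u}} (s : S) (L : Type u) [Field L] [Algebra (S.residueField s) L] (g : U ⟶ S) (u : U) : Prop :=
  ∃ (h : g u = s) (ρ : L →+* U.residueField u),
    CommRingCat.ofHom (ρ.comp (algebraMap (S.residueField s) L)) =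
      (S.residueFieldCongr h.symm).hom ≫ g.residueFieldMap u

theorem Realizes.comp {S U U' : Scheme.{u}} {s : S} {L : Type u} [Field L] [Algebra (S.residueField s) L] {g : U ⟶ S}
    {u : U} (H : Realizes s L g u) (g' : U' ⟶ U) (u' : U') (hu : g' u' = u) : Realizes s L (g' ≫ g) u' := by
  subst hu
  obtain ⟨h, ρ, hρ⟩ := H
  refine ⟨by rw [Scheme.Hom.comp_apply, h], (g'.residueFieldMap u').hom.comp ρ, ?_⟩
  have h1 : CommRingCat.ofHom (((g'.residueFieldMap u').hom.comp ρ).comp (algebraMap (S.residueField s) L)) =
      CommRingCat.ofHom (ρ.comp (algebraMap (S.residueField s) L)) ≫ g'.residueFieldMap u' := rfl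
  rw [h1, hρ, Scheme.residueFieldMap_comp, Category.assoc]
  rfl

/-- The residue fields of a fibre product over a point whose residue field splits the separable part. -/
theorem isPurelyInseparable_of_realizes {X S U : Scheme.{u}} (f : X ⟶ S) [LocallyOfFiniteType f] (g : U ⟶ S) (s : S)
    (L : Type u) [Field L] [Algebra (S.residueField s) L] (x : X) (hs : f x = s) (hx : f.QuasiFiniteAt x)
    (hL : letI := ((S.residueFieldCongr hs.symm).hom ≫ f.residueFieldMap x).hom.toAlgebra
      ∀ y : X.residueField x, IsSeparable (S.residueField s) y →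
        ((minpoly (S.residueField s) y).map (algebraMap (S.residueField s) L)).Splits)
    (v : ↑(pullback f g)) (hv : pullback.fst f g v = x) (H : Realizes s L g (pullback.snd f g v)) :
    letI := ((pullback.snd f g).residueFieldMap v).hom.toAlgebra
    Module.Finite ↑(U.residueField (pullback.snd f g v)) ↑((pullback f g).residueField v) ∧
    IsPurelyInseparable ↑(U.residueField (pullback.snd f g v)) ↑((pullback f g).residueField v) := by
  subst hv
  obtain ⟨h, ρ, hρ⟩ := H
  obtain ⟨ℓ, hℓ⟩ := ExpChar.exists (S.residueField s)
  have _ : ExpChar (U.residueField (pullback.snd f g v)) ℓ :=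
    expChar_of_injective_ringHom (f := ρ.comp (algebraMap (S.residueField s) L)) (RingHom.injective _) ℓ
  have hqf : (pullback.snd f g).QuasiFiniteAt v :=
    Groth.Agent.Ega43.QuasiFiniteBC.quasiFiniteAt_baseChange (IsPullback.of_hasPullback f g) v hx
  refine isPurelyInseparable_of_pow f g v (residueFieldMap_finite _ _ hqf) ℓ fun y => ?_
  let _ := ((S.residueFieldCongr hs.symm).hom ≫ f.residueFieldMap (pullback.fst f g v)).hom.toAlgebra
  have hfin1 : (f.residueFieldMap (pullback.fst f g v)).hom.Finite := residueFieldMap_finite _ _ hx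
  have hfin2 : ((S.residueFieldCongr hs.symm).hom ≫ f.residueFieldMap (pullback.fst f g v)).hom.Finite := by
    rw [CommRingCat.hom_comp]
    exact hfin1.comp (RingHom.Finite.of_surjective _
      (ConcreteCategory.bijective_of_isIso (S.residueFieldCongr hs.symm).hom).surjective)
  have _ : Module.Finite (S.residueField s) (X.residueField (pullback.fst f g v)) := hfin2
  obtain ⟨n, z, hz⟩ := Groth.Agent.Flat2E.SplitIntegral.exists_pow_mem_range (k := S.residueField s)
    (K := X.residueField (pullback.fst f g v)) (L := L) (M := (pullback f g).residueField v)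
    ((pullback.fst f g).residueFieldMap v).hom
    (((pullback.snd f g).residueFieldMap v).hom.comp ρ) (by
      have h1 : (((pullback.snd f g).residueFieldMap v).hom.comp ρ).comp (algebraMap (S.residueField s) L) =
        (CommRingCat.ofHom (ρ.comp (algebraMap (S.residueField s) L)) ≫ (pullback.snd f g).residueFieldMap v).hom := rfl
      rw [h1, hρ, RingHom.algebraMap_toAlgebra, ← CommRingCat.hom_comp, Category.assoc, Category.assoc]
      congr 1
      have h2 := Scheme.Hom.residueFieldMap_congr (pullback.condition (f := f) (g := g)) v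
      simp only [Scheme.residueFieldMap_comp] at h2
      have h3 : ∀ (a b : S) (hab : a = b) (ha : a = s) (hb : b = s),
          (S.residueFieldCongr ha.symm).hom ≫ (S.residueFieldCongr hab).hom = (S.residueFieldCongr hb.symm).hom := by
        rintro a b rfl rfl _
        simp
      rw [h2]
      erw [Scheme.residueFieldCongr_trans_hom_assoc]
      rfl) ℓ hL y
  exact ⟨n, ρ z, hz⟩

end Groth.Agent.Flat2D.QFPurInsep
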