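import Groth.Agent.Flat2D.QFPurInsep2

set_option autoImplicit false
universe u

open AlgebraicGeometry CategoryTheory Limits

namespace Groth.Agent.Flat2D.QFPurInsep

open Groth.Agent.Flat2D.EtNbhd

/-- `Split` transported to an arbitrary fibre product. -/
theorem Split.of_isPullback {X S U Z : Scheme.{u}} {f : X ⟶ S} {x : X} {g : U ⟶ S} {u : U} (H : Split f x g u)
    {q : Z ⟶ X} {r : Z ⟶ U} (h : IsPullback q r f g) :
    ∃ (V : Z.Opens) (v : Z), v ∈ V ∧ IsFinite (V.ι ≫ r) ∧ r v = u ∧ (∀ w : Z, w ∈ V → r w = u → w = v) ∧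
      q v = x := by
  obtain ⟨V, v, hvV, hfin, hv, huniq, hvx, -⟩ := H
  let θ : Z ≅ pullback f g := h.isoPullback
  have h1 : θ.hom ≫ pullback.fst f g = q := h.isoPullback_hom_fst
  have h2 : θ.hom ≫ pullback.snd f g = r := h.isoPullback_hom_snd
  have h3 : θ.hom (θ.inv v) = v := by
    rw [← Scheme.Hom.comp_apply, θ.inv_hom_id]
    rfl
  refine ⟨θ.hom ⁻¹ᵁ V, θ.inv v, ?_, ?_, ?_, ?_, ?_⟩
  · change θ.hom (θ.inv v) ∈ V
    rwa [h3]
  · have : (θ.hom ⁻¹ᵁ V).ι ≫ r = (θ.hom ∣_ V) ≫ V.ι ≫ pullback.snd f g := by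
      rw [← h2, morphismRestrict_ι_assoc]
    rw [this]
    infer_instance
  · rw [← h2, Scheme.Hom.comp_apply, h3, hv]
  · intro w hw hwu
    have h4 : θ.hom w = v := huniq _ hw (by rw [← Scheme.Hom.comp_apply, h2, hwu])
    rw [← h4, ← Scheme.Hom.comp_apply, θ.hom_inv_id]
    rfl
  · rw [← h1, Scheme.Hom.comp_apply, h3, hvx]

theorem main {X S : Scheme.{u}} (f : X ⟶ S) [LocallyOfFiniteType f] (s : S) {ι : Type} [Finite ι]
    (x : ι → ↑X) (hinj : Function.Injective x) (hs : ∀ i, f (x i) = s) (hx : ∀ i, f.QuasiFiniteAt (x i)) :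
    ∃ (U : Scheme.{u}) (g : U ⟶ S) (u : U), Etale g ∧ g u = s ∧
      ∃ (J : ι → Type) (_ : ∀ i, Finite (J i)) (V : ∀ i, J i → (pullback f g).Opens) (v : ∀ i, J i → ↑(pullback f g)),
        (∀ i j, v i j ∈ V i j ∧ IsFinite ((V i j).ι ≫ pullback.snd f g) ∧ pullback.snd f g (v i j) = u ∧
          (∀ w : ↑(pullback f g), w ∈ V i j → pullback.snd f g w = u → w = v i j) ∧
          (letI := ((pullback.snd f g).residueFieldMap (v i j)).hom.toAlgebra
           Module.Finite ↑(U.residueField (pullback.snd f g (v i j))) ↑((pullback f g).residueField (v i j)) ∧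
           IsPurelyInseparable ↑(U.residueField (pullback.snd f g (v i j))) ↑((pullback f g).residueField (v i j))) ∧
          pullback.fst f g (v i j) = x i) ∧
        (∀ i j i' j', v i j = v i' j' → i = i' ∧ HEq j j') ∧
        (∀ (w : ↑(pullback f g)) (i : ι), pullback.snd f g w = u → pullback.fst f g w = x i → ∃ j, w = v i j) := by
  classical
  -- the splitting field
  let K : ι → Type u := fun i => X.residueField (x i)
  let _ : ∀ i, Algebra (S.residueField s) (K i) := fun i =>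
    ((S.residueFieldCongr (hs i).symm).hom ≫ f.residueFieldMap (x i)).hom.toAlgebra
  have hKfin : ∀ i, Module.Finite (S.residueField s) (K i) := by
    intro i
    have hfin1 : (f.residueFieldMap (x i)).hom.Finite := residueFieldMap_finite _ _ (hx i)
    have hfin2 : ((S.residueFieldCongr (hs i).symm).hom ≫ f.residueFieldMap (x i)).hom.Finite := by
      rw [CommRingCat.hom_comp]
      exact hfin1.comp (RingHom.Finite.of_surjective _
        (ConcreteCategory.bijective_of_isIso (S.residueFieldCongr (hs i).symm).hom).surjective)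
    exact hfin2
  obtain ⟨L, hL1, hL2, hL3⟩ :=
    Groth.Agent.Flat2E.SplitIntegral.exists_finite_separable_splits (S.residueField s) K
  obtain ⟨U₁, g₁, u₁, h₁, ρ, het, hρ⟩ := Groth.Agent.Flat2D.EtaleResSch.exists_etale_residueField s L
  have hR₁ : Realizes s L g₁ u₁ := ⟨h₁, ρ, hρ⟩
  -- the points of the base change
  let T : ι → Set ↑(pullback f g₁) := fun i => {w | pullback.fst f g₁ w = x i ∧ pullback.snd f g₁ w = u₁}
  have hT : ∀ i, (T i).Finite := fun i => finite_points f g₁ (x i) (hx i) u₁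
  have hT' : ∀ i, ∃ n : ℕ, Nonempty (Fin n ≃ T i) := by
    intro i
    have := (hT i).to_subtype
    obtain ⟨n, ⟨e⟩⟩ := Finite.exists_equiv_fin (T i)
    exact ⟨n, ⟨e.symm⟩⟩
  choose n E using hT'
  let E : ∀ i, Fin (n i) ≃ T i := fun i => (E i).some
  obtain ⟨U, g₂, u, hnb, hsplit⟩ := exists_forall_split (pullback.snd f g₁) u₁ (ι := Σ i, Fin (n i))
    (fun p => (E p.1 p.2).1) (fun p => (E p.1 p.2).2.2) (fun p =>
      Groth.Agent.Ega43.QuasiFiniteBC.quasiFiniteAt_baseChange (IsPullback.of_hasPullback f g₁) _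
        (by rw [(E p.1 p.2).2.1]; exact hx p.1))
  have h2u : g₂ u = u₁ := hnb.base_eq
  have het2 : Etale g₂ := hnb.etale
  let π : pullback f (g₂ ≫ g₁) ⟶ pullback f g₁ := pullback.map _ _ _ _ (𝟙 _) g₂ (𝟙 _) (by simp) (by simp)
  have hfst : π ≫ pullback.fst f g₁ = pullback.fst f (g₂ ≫ g₁) := by
    simp only [π, pullback.map, pullback.lift_fst, Category.comp_id]
  have hπ : IsPullback π (pullback.snd f (g₂ ≫ g₁)) (pullback.snd f g₁) g₂ := by
    refine IsPullback.of_right (h₁₂ := pullback.fst f g₁) (v₁₃ := f) (h₂₂ := g₁) ?_ ?_ ?_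
    · rw [hfst]
      exact IsPullback.of_hasPullback f (g₂ ≫ g₁)
    · simp only [π, pullback.map, pullback.lift_snd]
    · exact IsPullback.of_hasPullback f g₁
  have hR : Realizes s L (g₂ ≫ g₁) u := hR₁.comp g₂ u h2u
  choose V v hv using fun (i : ι) (j : Fin (n i)) => Split.of_isPullback (hsplit ⟨i, j⟩) hπ
  have hvx : ∀ i j, pullback.fst f (g₂ ≫ g₁) (v i j) = x i := by
    intro i j
    obtain ⟨-, -, -, -, h5⟩ := hv i j
    rw [← hfst, Scheme.Hom.comp_apply, h5]
    exact (E i j).2.1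
  refine ⟨U, g₂ ≫ g₁, u, inferInstance, by rw [Scheme.Hom.comp_apply, h2u, h₁], fun i => Fin (n i),
    fun i => inferInstance, V, v, ?_, ?_, ?_⟩
  · intro i j
    obtain ⟨h1, h2, h3, h4, h5⟩ := hv i j
    refine ⟨h1, h2, h3, h4, ?_, hvx i j⟩
    exact isPurelyInseparable_of_realizes f (g₂ ≫ g₁) s L (x i) (hs i) (hx i) (hL3 i) (v i j) (hvx i j)
      (by rw [h3]; exact hR)
  · intro i j i' j' h
    obtain rfl : i = i' := hinj (by rw [← hvx i j, ← hvx i' j', h])
    refine ⟨rfl, heq_of_eq ((E i).injective (Subtype.ext ?_))⟩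
    obtain ⟨-, -, -, -, h5⟩ := hv i j
    obtain ⟨-, -, -, -, h5'⟩ := hv i j'
    rw [← h5, ← h5', h]
  · intro w i hw1 hw2
    have hw3 : π w ∈ T i := by
      refine ⟨by rw [← Scheme.Hom.comp_apply, hfst, hw2], ?_⟩
      rw [← Scheme.Hom.comp_apply, hπ.w, Scheme.Hom.comp_apply, hw1, h2u]
    refine ⟨(E i).symm ⟨π w, hw3⟩, ?_⟩
    obtain ⟨-, -, h3, -, h5⟩ := hv i ((E i).symm ⟨π w, hw3⟩)
    obtain ⟨z, -, -, hz, -⟩ := exists_unique_point hπ u (π w) (by rw [hw3.2, h2u]) hnb.residue_bijective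
    refine (hz w rfl hw1).trans (hz _ ?_ h3).symm
    rw [h5]
    change ((E i) ((E i).symm ⟨π w, hw3⟩)).1 = π w
    rw [Equiv.apply_symm_apply]

end Groth.Agent.Flat2D.QFPurInsep
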