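import Groth.Agent.CycB.RelDim2
import Groth.Agent.VarietyB.DimTop
import Groth.Prelude.Def_Flat

/-!
# Dimension of the fibres of the closure of a point

For `f : X ⟶ S` locally of finite type and `y : X`, the dimension of `closure {y} ∩ f⁻¹ {f y}` is
the transcendence degree `rtd f y` of `κ(y)` over `κ(f y)`, and the local dimension of
`closure {y} ∩ f⁻¹ {s}` at a generic point `x` of one of its irreducible components is `rtd f x`.
-/

set_option autoImplicit false

universe u

namespace Groth.Agent.Flat2D.RelDimClosure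

open AlgebraicGeometry CategoryTheory TopologicalSpace Topology
open Groth.Agent.CycB.RelDim Groth.Agent.VarietyB.DimTop

section Top

variable {T : Type*} [TopologicalSpace T]

/-- In a space which is Noetherian around `x`, if the closure of `x` is an irreducible component
then it is a neighbourhood of `x`. -/
theorem exists_open_subset_closure (x : T) (hx : closure {x} ∈ irreducibleComponents T)
    (V : Set T) (hV : IsOpen V) (hxV : x ∈ V) [NoetherianSpace V] :
    ∃ U : Opens T, x ∈ U ∧ (U : Set T) ⊆ closure {x} := by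
  let x' : V := ⟨x, hxV⟩
  have hcl : ∀ t : V, t ∈ closure {x'} ↔ t.1 ∈ closure {x} := by
    intro t
    rw [← specializes_iff_mem_closure, ← specializes_iff_mem_closure]
    exact (IsInducing.subtypeVal.specializes_iff (x := x') (y := t)).symm
  have hx' : closure {x'} ∈ irreducibleComponents V := by
    refine ⟨isIrreducible_singleton.closure, fun A hA hle t ht => ?_⟩
    have hA' : IsIrreducible (closure (Subtype.val '' A)) :=
      (hA.image _ continuous_subtype_val.continuousOn).closure
    have h1 : closure {x} ⊆ closure (Subtype.val '' A) := by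
      apply closure_mono
      rintro _ rfl
      exact ⟨x', hle (subset_closure rfl), rfl⟩
    have h2 : closure (Subtype.val '' A) ⊆ closure {x} := hx.2 hA' h1
    exact (hcl t).2 (h2 (subset_closure ⟨t, ht, rfl⟩))
  obtain ⟨o, ho, ⟨t, hto⟩, hle⟩ :=
    NoetherianSpace.exists_isOpen_nonempty_subset_irreducibleComponent _ hx'
  have hxo : x' ∈ o := (specializes_iff_mem_closure.mpr (hle hto)).mem_open ho hto
  refine ⟨⟨Subtype.val '' o, hV.isOpenMap_subtype_val _ ho⟩, ⟨x', hxo, rfl⟩, ?_⟩
  rintro _ ⟨s, hs, rfl⟩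
  exact (hcl s).1 (hle hs)

end Top

variable {X S : Scheme.{u}}

/-- A point of a scheme locally of finite type over a field: every open neighbourhood of a point
`z`, intersected with the closure of `z`, has dimension `rtd g z`. -/
theorem exists_dim_closure_inter (g : X ⟶ S) [LocallyOfFiniteType g]
    (hS : IsAffineOpen (⊤ : S.Opens)) (hF : IsField Γ(S, ⊤)) (z : X) (V : X.Opens) (hz : z ∈ V) :
    ∃ n : ℕ, rtd g z = n ∧ topologicalKrullDim (closure {z} ∩ V : Set X) = n := by
  obtain ⟨n, hn, hn'⟩ := exists_dim_closure (V.ι ≫ g) hS hF ⟨z, hz⟩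
  refine ⟨n, ?_, ?_⟩
  · rw [rtd_comp, rtd_eq_zero_of_isPreimmersion V.ι, add_zero] at hn
    exact hn
  · rw [← hn']
    have hcl : ∀ t : V, t ∈ closure {(⟨z, hz⟩ : V)} ↔ t.1 ∈ closure {z} := by
      intro t
      rw [← specializes_iff_mem_closure, ← specializes_iff_mem_closure]
      exact (V.2.isOpenEmbedding_subtypeVal.isInducing).specializes_iff.symm
    let e : (closure {z} ∩ V : Set X) ≃ₜ (closure {(⟨z, hz⟩ : V)} : Set V) :=
      { toFun := fun t => ⟨⟨t.1, t.2.2⟩, (hcl _).2 t.2.1⟩
        invFun := fun t => ⟨t.1.1, (hcl _).1 t.2, t.1.2⟩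
        left_inv := fun _ => rfl
        right_inv := fun _ => rfl
        continuous_toFun := by
          refine Continuous.subtype_mk (Continuous.subtype_mk continuous_subtype_val _) _
        continuous_invFun := by
          refine Continuous.subtype_mk (continuous_subtype_val.comp continuous_subtype_val) _ }
    exact IsHomeomorph.topologicalKrullDim_eq _ e.isHomeomorph

theorem exists_dim_closure_inter_fiber (f : X ⟶ S) [LocallyOfFiniteType f] (s : S) (z : f.fiber s)
    (V : (f.fiber s).Opens) (hz : z ∈ V) :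
    ∃ n : ℕ, rtd f (f.fiberι s z) = n ∧
      topologicalKrullDim (closure {z} ∩ V : Set (f.fiber s)) = n := by
  rw [← rtd_fiberToSpecResidueField]
  have : LocallyOfFiniteType (f.fiberToSpecResidueField s) :=
    inferInstanceAs (LocallyOfFiniteType (Limits.pullback.snd f (S.fromSpecResidueField s)))
  exact exists_dim_closure_inter (f.fiberToSpecResidueField s) (isAffineOpen_top _)
    ((Scheme.ΓSpecIso (S.residueField s)).commRingCatIsoToRingEquiv.toMulEquiv.isField
      (Field.toIsField _)) z V hz

/-- The fibre of `closure {y}` over `s`, as a subspace of `X`. -/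
abbrev Fib (f : X ⟶ S) (y : X) (s : S) : Set X := closure ({y} : Set X) ∩ f ⁻¹' {s}

/-- The embedding of the fibre of `closure {y}` in the fibre of `X`. -/
noncomputable def toFiber (f : X ⟶ S) (y : X) (s : S) : Fib f y s → f.fiber s :=
  fun t => (f.fiberHomeo s).symm ⟨t.1, t.2.2⟩

theorem fiberι_toFiber (f : X ⟶ S) (y : X) (s : S) (t : Fib f y s) :
    f.fiberι s (toFiber f y s t) = t.1 := f.fiberι_fiberHomeo_symm _ _

theorem isEmbedding_toFiber (f : X ⟶ S) (y : X) (s : S) : IsEmbedding (toFiber f y s) :=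
  (f.fiberHomeo s).symm.isEmbedding.comp (IsEmbedding.inclusion (Set.inter_subset_right))

theorem mem_range_toFiber (f : X ⟶ S) (y : X) (s : S) (z : f.fiber s) :
    z ∈ Set.range (toFiber f y s) ↔ y ⤳ f.fiberι s z := by
  constructor
  · rintro ⟨t, rfl⟩
    rw [fiberι_toFiber, specializes_iff_mem_closure]
    exact t.2.1
  · intro h
    have hz : f.fiberι s z ∈ f ⁻¹' {s} := by
      rw [← f.range_fiberι s]
      exact ⟨z, rfl⟩
    refine ⟨⟨f.fiberι s z, specializes_iff_mem_closure.mp h, hz⟩, ?_⟩
    apply (f.fiberι s).isEmbedding.injective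
    rw [fiberι_toFiber]

/-- Every open neighbourhood of a point `t` in the fibre of `closure {y}` has dimension at least
`rtd f t`, and its intersection with the closure of `t` has dimension exactly `rtd f t`. -/
theorem exists_dim_closure_inter_opens (f : X ⟶ S) [LocallyOfFiniteType f] (y : X) (s : S)
    (t : Fib f y s) (U : Opens (Fib f y s)) (ht : t ∈ U) :
    ∃ n : ℕ, rtd f t.1 = n ∧ topologicalKrullDim (closure {t} ∩ U : Set (Fib f y s)) = n := by
  obtain ⟨V, hV, hVU⟩ := (isEmbedding_toFiber f y s).isInducing.isOpen_iff.mp U.2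
  have htV : toFiber f y s t ∈ V := by
    have : t ∈ toFiber f y s ⁻¹' V := by rw [hVU]; exact ht
    exact this
  obtain ⟨n, hn, hn'⟩ := exists_dim_closure_inter_fiber f s (toFiber f y s t) ⟨V, hV⟩ htV
  rw [fiberι_toFiber] at hn
  refine ⟨n, hn, ?_⟩
  rw [← hn']
  have hcl : ∀ t' : Fib f y s, t' ∈ closure {t} ↔
      toFiber f y s t' ∈ closure {toFiber f y s t} := by
    intro t'
    rw [← specializes_iff_mem_closure, ← specializes_iff_mem_closure]
    exact ((isEmbedding_toFiber f y s).isInducing.specializes_iff).symm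
  let j : (closure {t} ∩ U : Set (Fib f y s)) →
      (closure {toFiber f y s t} ∩ ((⟨V, hV⟩ : (f.fiber s).Opens) : Set (f.fiber s)) :
        Set (f.fiber s)) :=
    fun t' => ⟨toFiber f y s t'.1, (hcl _).1 t'.2.1, by
      have : t'.1 ∈ toFiber f y s ⁻¹' V := by rw [hVU]; exact t'.2.2
      exact this⟩
  have hj : IsEmbedding j := by
    refine IsEmbedding.of_comp ?_ continuous_subtype_val ?_
    · exact Continuous.subtype_mk
        ((isEmbedding_toFiber f y s).continuous.comp continuous_subtype_val) _
    · exact (isEmbedding_toFiber f y s).comp IsEmbedding.subtypeVal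
  have hjs : Function.Surjective j := by
    rintro ⟨z, hz, hzV⟩
    have hz' : z ∈ Set.range (toFiber f y s) := by
      rw [mem_range_toFiber]
      have h1 : toFiber f y s t ⤳ z := specializes_iff_mem_closure.mpr hz
      have h2 := h1.map (f.fiberι s).continuous
      rw [fiberι_toFiber] at h2
      exact (specializes_iff_mem_closure.mpr t.2.1).trans h2
    obtain ⟨t', rfl⟩ := hz'
    refine ⟨⟨t', (hcl _).2 hz, ?_⟩, rfl⟩
    have : t' ∈ toFiber f y s ⁻¹' V := hzV
    rw [hVU] at this
    exact this
  exact IsHomeomorph.topologicalKrullDim_eq _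
    ((isHomeomorph_iff_isEmbedding_surjective).2 ⟨hj, hjs⟩)

/-- (D1) The local dimension of the fibre of `closure {y}` over `s` at a point whose closure is an
irreducible component of that fibre. -/
theorem exists_localDim_fib (f : X ⟶ S) [LocallyOfFiniteType f] (y : X) (s : S)
    (t : Fib f y s) (ht : closure {t} ∈ irreducibleComponents (Fib f y s)) :
    ∃ n : ℕ, rtd f t.1 = n ∧ FlatMor.localDim (Fib f y s) t = n := by
  obtain ⟨n, hn, -⟩ := exists_dim_closure_inter_opens f y s t ⊤ trivial
  refine ⟨n, hn, le_antisymm ?_ ?_⟩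
  · have : LocallyOfFiniteType (f.fiberToSpecResidueField s) :=
      inferInstanceAs (LocallyOfFiniteType (Limits.pullback.snd f (S.fromSpecResidueField s)))
    have : IsLocallyNoetherian (f.fiber s) :=
      LocallyOfFiniteType.isLocallyNoetherian (f.fiberToSpecResidueField s)
    obtain ⟨V, hV, htV, -⟩ :=
      exists_isAffineOpen_mem_and_subset (x := toFiber f y s t) (U := ⊤) trivial
    have : NoetherianSpace (V : Set (f.fiber s)) := by
      have := IsLocallyNoetherian.component_noetherian (X := f.fiber s) ⟨V, hV⟩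
      exact noetherianSpace_of_isAffineOpen V hV
    have hemb := isEmbedding_toFiber f y s
    have : NoetherianSpace (toFiber f y s ⁻¹' (V : Set (f.fiber s))) := by
      have h1 : IsInducing (fun t' : (toFiber f y s ⁻¹' (V : Set (f.fiber s))) =>
          (⟨toFiber f y s t'.1, t'.2⟩ : (V : Set (f.fiber s)))) := by
        refine (IsInducing.subtypeVal.of_comp_iff).mp ?_
        exact hemb.isInducing.comp IsInducing.subtypeVal
      exact h1.noetherianSpace
    obtain ⟨U, htU, hU⟩ := exists_open_subset_closure t ht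
      (toFiber f y s ⁻¹' (V : Set (f.fiber s))) (V.2.preimage hemb.continuous) htV
    obtain ⟨m, hm, hm'⟩ := exists_dim_closure_inter_opens f y s t U htU
    have hmn : m = n := by
      rw [hn] at hm
      exact_mod_cast hm.symm
    subst hmn
    rw [Set.inter_eq_right.mpr hU] at hm'
    exact (localDim_le U htU).trans hm'.le
  · refine le_localDim fun U hU => ?_
    obtain ⟨m, hm, hm'⟩ := exists_dim_closure_inter_opens f y s t U hU
    have hmn : m = n := by
      rw [hn] at hm
      exact_mod_cast hm.symm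
    subst hmn
    rw [← hm']
    exact topologicalKrullDim_le_of_isEmbedding (f := id) IsInducing.id _ _ fun _ h => h.2

/-- (D1), in the form of S1470. -/
theorem exists_localDim_of_isGenericPoint (f : X ⟶ S) [LocallyOfFiniteType f] (y : X) (s : S)
    (x : X) (hx : x ∈ closure ({y} : Set X)) (hxs : f x = s)
    (hgen : ∃ C ∈ irreducibleComponents ↑(closure ({y} : Set X) ∩ f ⁻¹' {s}),
      IsGenericPoint (⟨x, hx, hxs⟩ : ↑(closure ({y} : Set X) ∩ f ⁻¹' {s})) C) :
    ∃ n : ℕ, rtd f x = n ∧
      FlatMor.localDim ↑(closure ({y} : Set X) ∩ f ⁻¹' {s}) ⟨x, hx, hxs⟩ = n := by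
  obtain ⟨C, hC, hg⟩ := hgen
  refine exists_localDim_fib f y s ⟨x, hx, hxs⟩ ?_
  have : closure {(⟨x, hx, hxs⟩ : ↑(closure ({y} : Set X) ∩ f ⁻¹' {s}))} = C := hg
  rw [this]
  exact hC

/-- (D2) The dimension of the fibre of `closure {y}` through `y`. -/
theorem exists_dim_fib (f : X ⟶ S) [LocallyOfFiniteType f] (y : X) :
    ∃ n : ℕ, rtd f y = n ∧ topologicalKrullDim (Fib f y (f y)) = n := by
  have hy : y ∈ Fib f y (f y) := ⟨subset_closure rfl, rfl⟩
  obtain ⟨n, hn, hn'⟩ := exists_dim_closure_inter_opens f y (f y) ⟨y, hy⟩ ⊤ trivial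
  refine ⟨n, hn, ?_⟩
  rw [← hn']
  have h : (closure {(⟨y, hy⟩ : Fib f y (f y))} ∩ ((⊤ : Opens (Fib f y (f y))) : Set _)) =
      Set.univ := by
    ext t
    simp only [Opens.coe_top, Set.inter_univ, Set.mem_univ, iff_true]
    rw [← specializes_iff_mem_closure,
      ← IsInducing.subtypeVal.specializes_iff (x := (⟨y, hy⟩ : Fib f y (f y))) (y := t),
      specializes_iff_mem_closure]
    exact t.2.1
  rw [h]
  exact (IsHomeomorph.topologicalKrullDim_eq _ (Homeomorph.Set.univ _).isHomeomorph).symm

/-- The dimension equality of S1470 is an equality of transcendence degrees. -/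
theorem localDim_eq_iff_rtd_eq (f : X ⟶ S) [LocallyOfFiniteType f] (y : X) (s : S)
    (x : X) (hx : x ∈ closure ({y} : Set X)) (hxs : f x = s)
    (hgen : ∃ C ∈ irreducibleComponents ↑(closure ({y} : Set X) ∩ f ⁻¹' {s}),
      IsGenericPoint (⟨x, hx, hxs⟩ : ↑(closure ({y} : Set X) ∩ f ⁻¹' {s})) C) :
    FlatMor.localDim ↑(closure ({y} : Set X) ∩ f ⁻¹' {s}) ⟨x, hx, hxs⟩ =
      topologicalKrullDim ↑(closure ({y} : Set X) ∩ f ⁻¹' {f y}) ↔ rtd f x = rtd f y := by
  obtain ⟨n, hn, hn'⟩ := exists_localDim_of_isGenericPoint f y s x hx hxs hgen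
  obtain ⟨m, hm, hm'⟩ := exists_dim_fib f y
  rw [hn', hn, hm, hm']
  norm_cast

end Groth.Agent.Flat2D.RelDimClosure
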