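import Groth.Agent.Flat2D.RelDimClosure
import Groth.Agent.S0402

/-!
# Semicontinuity of the transcendence degree along fibres of the closure of a point

If `x` is the generic point of an irreducible component of `closure {y} ∩ f⁻¹ {f x}`, then
`trdeg κ(y)/κ(f y) ≤ trdeg κ(x)/κ(f x)`.
-/

set_option autoImplicit false

universe u

namespace Groth.Agent.Flat2D.RelDimClosure

open AlgebraicGeometry CategoryTheory TopologicalSpace Topology
open Groth.Agent.CycB.RelDim Groth.Agent.VarietyB.DimTop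

variable {X S : Scheme.{u}}

/-- The fibre dimension of a closed subscheme with underlying space `closure {y}`. -/
theorem fibreDimAt_comp_eq_localDim {W : Scheme.{u}} (j : W ⟶ X) [IsClosedImmersion j]
    (f : X ⟶ S) (y : X) (hj : Set.range j = closure {y}) (w : W) (t : Fib f y (f (j w)))
    (ht : t.1 = j w) :
    FlatMor.fibreDimAt (j ≫ f) w = FlatMor.localDim (Fib f y (f (j w))) t := by
  rw [FlatA.FibreDim.fibreDimAt_eq]
  let k : ((j ≫ f : W ⟶ S) : W → S) ⁻¹' {(j ≫ f : W ⟶ S) w} → Fib f y (f (j w)) :=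
    fun v => ⟨j v.1, by
      rw [← hj]
      exact ⟨v.1, rfl⟩, by
      have h : (j ≫ f) v.1 = (j ≫ f) w := v.2
      have h1 := Scheme.Hom.comp_apply j f v.1
      have h2 := Scheme.Hom.comp_apply j f w
      exact h1.symm.trans (h.trans h2)⟩
  have hk : IsEmbedding k := by
    refine IsEmbedding.of_comp ?_ continuous_subtype_val ?_
    · exact Continuous.subtype_mk (j.continuous.comp continuous_subtype_val) _
    · exact j.isClosedEmbedding.isEmbedding.comp IsEmbedding.subtypeVal
  have hks : Function.Surjective k := by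
    rintro ⟨z, hz, hz'⟩
    rw [← hj] at hz
    obtain ⟨v, rfl⟩ := hz
    refine ⟨⟨v, ?_⟩, rfl⟩
    rw [Set.mem_preimage, Set.mem_singleton_iff, Scheme.Hom.comp_apply, Scheme.Hom.comp_apply]
    exact hz'
  have h := localDim_eq_of_homeomorph
    ((isHomeomorph_iff_isEmbedding_surjective).2 ⟨hk, hks⟩).homeomorph ⟨w, rfl⟩
  rw [h]
  congr 1
  exact Subtype.ext ht.symm

/-- (D3) Semicontinuity: `rtd f y ≤ rtd f x` for `x` the generic point of an irreducible component
of a fibre of `closure {y}`. -/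
theorem rtd_le_of_closure_mem (f : X ⟶ S) [LocallyOfFiniteType f] (y x : X)
    (hx : x ∈ closure ({y} : Set X))
    (hgen : closure {(⟨x, hx, rfl⟩ : Fib f y (f x))} ∈ irreducibleComponents (Fib f y (f x))) :
    rtd f y ≤ rtd f x := by
  have hyc : y ∈ closure ({y} : Set X) := subset_closure rfl
  obtain ⟨W, j, hji, hj⟩ : ∃ (W : Scheme.{u}) (j : W ⟶ X), IsClosedImmersion j ∧
      Set.range j = closure {y} :=
    ⟨(Scheme.IdealSheafData.vanishingIdeal ⟨closure {y}, isClosed_closure⟩).subscheme,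
      (Scheme.IdealSheafData.vanishingIdeal ⟨closure {y}, isClosed_closure⟩).subschemeι,
      inferInstance, by
        rw [Scheme.IdealSheafData.range_subschemeι]
        exact Scheme.IdealSheafData.coe_support_vanishingIdeal _⟩
  obtain ⟨x', rfl⟩ : x ∈ Set.range j := by rw [hj]; exact hx
  obtain ⟨y', hy'⟩ : y ∈ Set.range j := by rw [hj]; exact hyc
  have hyx : y' ⤳ x' := by
    rw [← j.isClosedEmbedding.isInducing.specializes_iff, hy']
    exact specializes_iff_mem_closure.mpr hx
  obtain ⟨n, hn, hn'⟩ := exists_localDim_fib f y (f (j x')) ⟨j x', hx, rfl⟩ hgen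
  have h1 := fibreDimAt_comp_eq_localDim j f y hj x' ⟨j x', hx, rfl⟩ rfl
  have h2 : y' ∈ {w : W | FlatMor.fibreDimAt (j ≫ f) w ≤ n} :=
    hyx.mem_open (S0402.result (j ≫ f) n) (by rw [Set.mem_ofPred_eq, h1, hn'])
  rw [Set.mem_ofPred_eq] at h2
  subst hy'
  have hy : closure {(⟨j y', hyc, rfl⟩ : Fib f (j y') (f (j y')))} = Set.univ := by
    ext t
    simp only [Set.mem_univ, iff_true]
    rw [← specializes_iff_mem_closure, ← IsInducing.subtypeVal.specializes_iff
      (x := (⟨j y', hyc, rfl⟩ : Fib f (j y') (f (j y')))) (y := t), specializes_iff_mem_closure]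
    exact t.2.1
  obtain ⟨m, hm, hm'⟩ := exists_localDim_fib f (j y') (f (j y')) ⟨j y', hyc, rfl⟩ (by
    refine ⟨isIrreducible_singleton.closure, fun A _ _ => ?_⟩
    rw [hy]
    exact Set.subset_univ _)
  rw [fibreDimAt_comp_eq_localDim j f (j y') hj y' ⟨j y', hyc, rfl⟩ rfl, hm'] at h2
  rw [hn, hm]
  exact_mod_cast h2

/-- (D3), in the form of S1470. -/
theorem rtd_le_of_isGenericPoint (f : X ⟶ S) [LocallyOfFiniteType f] (y : X) (s : S)
    (x : X) (hx : x ∈ closure ({y} : Set X)) (hxs : f x = s)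
    (hgen : ∃ C ∈ irreducibleComponents ↑(closure ({y} : Set X) ∩ f ⁻¹' {s}),
      IsGenericPoint (⟨x, hx, hxs⟩ : ↑(closure ({y} : Set X) ∩ f ⁻¹' {s})) C) :
    rtd f y ≤ rtd f x := by
  subst hxs
  obtain ⟨C, hC, hg⟩ := hgen
  refine rtd_le_of_closure_mem f y x hx ?_
  have : closure {(⟨x, hx, rfl⟩ : ↑(closure ({y} : Set X) ∩ f ⁻¹' {f x}))} = C := hg
  rw [this]
  exact hC

end Groth.Agent.Flat2D.RelDimClosure
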