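import Groth.Agent.Flat2D.RepLNSum
import Mathlib.AlgebraicGeometry.RelativeGluing
import Mathlib.AlgebraicGeometry.Morphisms.Proper

/-!
# Gluing representing objects over a basis of opens of the base

`B : Set S.Opens` is a basis of the topology of `S`.
`exists_rep_glue`: if for every `U ∈ B` the class of sections of `G` satisfying `Q` over
objects lying over `U` is represented by `π U : H U ⟶ U`, then the class of all sections satisfying `Q` is
represented by some `H'` over `S`, with `H' ×_S U = H U`.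
-/

set_option autoImplicit false
universe w u v

open CategoryTheory CategoryTheory.Limits AlgebraicGeometry Opposite

namespace Groth.Agent.Flat2D.RepLNBasis

open Groth.Agent.Picfga.OverRep Groth.Agent.Flat2D.RepLN Groth.Agent.Flat2D.RepLNSum

variable {S : Scheme.{u}} {G : (Over S)ᵒᵖ ⥤ Type w} {B : Set S.Opens}

section cover

open TopologicalSpace.Opens in
/-- The directed open cover given by a basis. -/
@[simps I₀ X f]
noncomputable def bcov (B : Set S.Opens) [hB : Fact (TopologicalSpace.Opens.IsBasis B)] :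
    S.OpenCover where
  I₀ := B
  X U := U.1
  f U := U.1.ι
  mem₀ := by
    rw [Scheme.presieve₀_mem_precoverage_iff]
    refine ⟨fun x ↦ ?_, inferInstance⟩
    obtain ⟨U, hU, hx, -⟩ := isBasis_iff_nbhd.mp hB.out (mem_top x)
    exact ⟨⟨U, hU⟩, by simpa using hx⟩

variable (B : Set S.Opens) [hB : Fact (TopologicalSpace.Opens.IsBasis B)]

instance : Preorder (bcov B).I₀ := inferInstanceAs <| Preorder B

instance : Small.{u} (bcov B).I₀ := inferInstanceAs <| Small.{u} B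

set_option backward.isDefEq.respectTransparency.types false in
set_option backward.defeqAttrib.useBackward true in
noncomputable instance : Scheme.Cover.LocallyDirected (bcov B) :=
  .ofIsBasisOpensRange (by intros; simp; rfl) <| by
    convert! hB.out
    simp

end cover

variable [hB : Fact (TopologicalSpace.Opens.IsBasis B)]

/-- sections satisfying `Q` over objects lying over `U` -/
def QU (Q : ∀ T : Over S, G.obj (op T) → Prop) (U : S.Opens) : ∀ T : Over S, G.obj (op T) → Prop :=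
  fun T x => Q T x ∧ Set.range T.hom ⊆ (U : Set S)

variable {H : B → Scheme.{u}} (π : ∀ U : B, H U ⟶ (U : S.Opens).toScheme)

/-- the object over `S` -/
noncomputable abbrev HO (U : B) : Over S := Over.mk (π U ≫ U.1.ι)

omit hB in
lemma range_HO (U : B) : Set.range (HO π U).hom ⊆ (U.1 : Set S) := by
  rintro _ ⟨t, rfl⟩
  exact (π U t).2

variable {π} {Q : ∀ T : Over S, G.obj (op T) → Prop}
  {ξ : ∀ U, G.obj (op (HO π U))} (h : ∀ U, IsRep (QU Q U.1) (HO π U) (ξ U))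

include h in
lemma exists_tr {V U : B} (hVU : V ≤ U) :
    ∃! g : HO π V ⟶ HO π U, G.map g.op (ξ U) = ξ V :=
  (h U).univ (HO π V) (ξ V) ⟨(h V).mem.1, (range_HO π V).trans hVU⟩

/-- transition map -/
noncomputable def tr {V U : B} (hVU : V ≤ U) : HO π V ⟶ HO π U :=
  (exists_tr h hVU).choose

lemma map_tr {V U : B} (hVU : V ≤ U) : G.map (tr h hVU).op (ξ U) = ξ V :=
  (exists_tr h hVU).choose_spec.1

lemma tr_id (U : B) : tr h (le_refl U) = 𝟙 _ :=
  ((exists_tr h (le_refl U)).unique (by simp) (map_tr h (le_refl U))).symm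

@[reassoc]
lemma tr_comp {X V U : B} (hXV : X ≤ V) (hVU : V ≤ U) :
    tr h hXV ≫ tr h hVU = tr h (hXV.trans hVU) :=
  (exists_tr h (hXV.trans hVU)).unique (by rw [map_comp_apply, map_tr, map_tr])
    (map_tr h (hXV.trans hVU))

lemma tr_comm {V U : B} (hVU : V ≤ U) :
    (tr h hVU).left ≫ π U = π V ≫ S.homOfLE hVU := by
  rw [← cancel_mono U.1.ι, Category.assoc, Category.assoc, Scheme.homOfLE_ι]
  exact Over.w (tr h hVU)

include h in
/-- the key fact: `H U` restricted to `V` is `H V`. -/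
lemma exists_section (hQ : QOpen Q) {V U : B} (hVU : V ≤ U) :
    ∃ k : Over.mk (((HO π U).hom ⁻¹ᵁ V.1).ι ≫ (HO π U).hom) ⟶ HO π V,
      k ≫ tr h hVU = res (HO π U) _ ∧
      ∃ h' : HO π V ⟶ Over.mk (((HO π U).hom ⁻¹ᵁ V.1).ι ≫ (HO π U).hom),
        h' ≫ res (HO π U) _ = tr h hVU ∧ h' ≫ k = 𝟙 _ := by
  let W : (HO π U).left.Opens := (HO π U).hom ⁻¹ᵁ V.1
  have hWV : Set.range (Over.mk (W.ι ≫ (HO π U).hom)).hom ⊆ (V.1 : Set S) := by
    rintro _ ⟨t, rfl⟩
    exact t.2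
  have hQW : Q _ (G.map (res (HO π U) W).op (ξ U)) := hQ _ _ _ _ (h U).mem.1
  obtain ⟨k, hk, -⟩ := (h V).univ _ (G.map (res (HO π U) W).op (ξ U)) ⟨hQW, hWV⟩
  have hk : G.map k.op (ξ V) = G.map (res (HO π U) W).op (ξ U) := hk
  have h1 : k ≫ tr h hVU = res (HO π U) W :=
    ((h U).univ _ (G.map (res (HO π U) W).op (ξ U)) ⟨hQW, hWV.trans hVU⟩).unique
      (by rw [map_comp_apply, map_tr, hk]) rfl
  obtain ⟨h', hh'⟩ := exists_lift_open (res (HO π U) W) (tr h hVU) (by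
    intro t
    have h2 : (HO π U).hom ((tr h hVU).left t) ∈ V.1 := by
      have : (HO π U).hom ((tr h hVU).left t) = (HO π V).hom t := by
        rw [← Scheme.Hom.comp_apply, Over.w]
      rw [this]
      exact range_HO π V ⟨t, rfl⟩
    exact ⟨⟨_, h2⟩, rfl⟩)
  refine ⟨k, h1, h', hh', ?_⟩
  apply (exists_tr h (le_refl V)).unique
  · rw [map_comp_apply, hk, ← map_comp_apply, hh', map_tr]
  · simp

lemma mono_tr (hQ : QOpen Q) {V U : B} (hVU : V ≤ U) : Mono (tr h hVU) := by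
  obtain ⟨k, -, h', h2, h3⟩ := exists_section h hQ hVU
  rw [← h2]
  have : IsSplitMono h' := ⟨⟨k, h3⟩⟩
  infer_instance

lemma exists_lift_tr (hQ : QOpen Q) {V U : B} (hVU : V ≤ U) (T : Over S)
    (hT : Set.range T.hom ⊆ (V.1 : Set S)) (a : T ⟶ HO π U) :
    ∃ a' : T ⟶ HO π V, a' ≫ tr h hVU = a := by
  obtain ⟨k, h1, -⟩ := exists_section h hQ hVU
  obtain ⟨l, hl⟩ := exists_lift_open (res (HO π U) ((HO π U).hom ⁻¹ᵁ V.1)) a (by
    intro t
    have h2 : (HO π U).hom (a.left t) ∈ V.1 := by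
      have : (HO π U).hom (a.left t) = T.hom t := by
        rw [← Scheme.Hom.comp_apply, Over.w]
      rw [this]
      exact hT ⟨t, rfl⟩
    exact ⟨⟨_, h2⟩, rfl⟩)
  exact ⟨l ≫ k, by rw [Category.assoc, h1, hl]⟩

lemma isPullback_tr (hQ : QOpen Q) {V U : B} (hVU : V ≤ U) :
    IsPullback (tr h hVU).left (π V) (π U) (S.homOfLE hVU) := by
  have hl : ∀ s : PullbackCone (π U) (S.homOfLE hVU), ∃ l : s.pt ⟶ H V,
      l ≫ (tr h hVU).left = s.fst ∧ l ≫ π V = s.snd := by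
    intro s
    have hs : s.fst ≫ π U ≫ U.1.ι = s.snd ≫ V.1.ι := by
      rw [reassoc_of% s.condition, Scheme.homOfLE_ι]
    obtain ⟨a', ha'⟩ := exists_lift_tr h hQ hVU (Over.mk (s.snd ≫ V.1.ι)) (by
      rintro _ ⟨t, rfl⟩
      exact (s.snd t).2) (Over.homMk s.fst hs)
    refine ⟨a'.left, congr_arg CommaMorphism.left ha', ?_⟩
    rw [← cancel_mono V.1.ι, Category.assoc]
    exact Over.w a'
  choose l hl1 hl2 using hl
  refine ⟨⟨tr_comm h hVU⟩, ⟨PullbackCone.IsLimit.mk _ l hl1 hl2 ?_⟩⟩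
  intro s m hm1 hm2
  have := mono_tr h hQ hVU
  let TO : Over S := Over.mk (m ≫ π V ≫ V.1.ι)
  have h1 : (Over.homMk m rfl : TO ⟶ HO π V) = Over.homMk (l s) (by
      change l s ≫ π V ≫ V.1.ι = m ≫ π V ≫ V.1.ι
      rw [reassoc_of% (hl2 s), reassoc_of% hm2]) := by
    rw [← cancel_mono (tr h hVU)]
    ext
    change m ≫ (tr h hVU).left = l s ≫ (tr h hVU).left
    rw [hl1, hm1]
  exact congr_arg CommaMorphism.left h1

/-- the relative gluing datum -/
noncomputable def glueDatum (hQ : QOpen Q) : (bcov B).RelativeGluingData where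
  functor :=
    { obj := fun U => H U
      map := fun {V U} f => (tr h (show V ≤ U from leOfHom f)).left
      map_id := fun U => by
        rw [show tr h (show U ≤ U from leOfHom (𝟙 U)) = 𝟙 _ from tr_id h U]
        rfl
      map_comp := fun {X V U} f g => by
        rw [← Over.comp_left, tr_comp] }
  natTrans :=
    { app := fun U => π U
      naturality := fun V U f => tr_comm h (leOfHom f) }
  equifibered := fun V U f => isPullback_tr h hQ (leOfHom f)

/-- the glued object -/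
noncomputable def HG (hQ : QOpen Q) : Over S := Over.mk (glueDatum h hQ).toBase

/-- the inclusion of the charts. -/
noncomputable def jG (hQ : QOpen Q) (U : B) : HO π U ⟶ HG h hQ :=
  Over.homMk (colimit.ι (glueDatum h hQ).functor U) ((glueDatum h hQ).ι_toBase U)

lemma isPullback_jG (hQ : QOpen Q) (U : B) :
    IsPullback (jG h hQ U).left (π U) (HG h hQ).hom U.1.ι :=
  ((glueDatum h hQ).isPullback_natTrans_ι_toBase U).flip

instance (hQ : QOpen Q) (U : B) : IsOpenImmersion (jG h hQ U).left :=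
  MorphismProperty.of_isPullback (P := @IsOpenImmersion) (isPullback_jG h hQ U).flip inferInstance

@[reassoc]
lemma tr_jG (hQ : QOpen Q) {V U : B} (hVU : V ≤ U) :
    tr h hVU ≫ jG h hQ U = jG h hQ V := by
  ext
  exact colimit.w (glueDatum h hQ).functor (homOfLE hVU)

lemma range_jG (hQ : QOpen Q) (U : B) (x : (HG h hQ).left)
    (hx : (HG h hQ).hom x ∈ U.1) : x ∈ Set.range (jG h hQ U).left := by
  obtain ⟨z, hz, -⟩ := Scheme.exists_preimage_of_isPullback (isPullback_jG h hQ U) x ⟨_, hx⟩ rfl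
  exact ⟨z, hz⟩

include hB in
lemma exists_affine (s : S) (V : S.Opens) (hs : s ∈ V) :
    ∃ U : B, s ∈ U.1 ∧ U.1 ≤ V := by
  obtain ⟨U, hU, htU, hUV⟩ := TopologicalSpace.Opens.isBasis_iff_nbhd.mp
    hB.out hs
  exact ⟨⟨U, hU⟩, htU, hUV⟩

/-- The cover by charts. -/
noncomputable def covG (hQ : QOpen Q) : Cov (HG h hQ) where
  ι := B
  V := HO π
  j := jG h hQ
  isOpen := fun U => inferInstance
  covers := fun x => by
    obtain ⟨U, hU, -⟩ := exists_affine (B := B) ((HG h hQ).hom x) ⊤ trivial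
    obtain ⟨y, hy⟩ := range_jG h hQ U x hU
    exact ⟨U, y, hy⟩

lemma compat_sec (hG : IsZarSheaf G) (hQ : QOpen Q) (U V : B) (W : Over S)
    (a : W ⟶ HO π U) (b : W ⟶ HO π V) (hab : a ≫ jG h hQ U = b ≫ jG h hQ V) :
    G.map a.op (ξ U) = G.map b.op (ξ V) := by
  apply hG.ext_local
  intro w
  have hwU : W.hom w ∈ U.1 := by
    rw [← Over.w a]
    exact range_HO π U ⟨a.left w, rfl⟩
  have hwV : W.hom w ∈ V.1 := by
    rw [← Over.w b]
    exact range_HO π V ⟨b.left w, rfl⟩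
  obtain ⟨X, hwX, hX⟩ := exists_affine (B := B) (W.hom w) (U.1 ⊓ V.1) ⟨hwU, hwV⟩
  have hXU : X ≤ U := hX.trans inf_le_left
  have hXV : X ≤ V := hX.trans inf_le_right
  refine ⟨W.hom ⁻¹ᵁ X.1, hwX, ?_⟩
  have hr : Set.range (Over.mk ((W.hom ⁻¹ᵁ X.1).ι ≫ W.hom)).hom ⊆ (X.1 : Set S) := by
    rintro _ ⟨t, rfl⟩
    exact t.2
  obtain ⟨a', ha'⟩ := exists_lift_tr h hQ hXU _ hr (res W _ ≫ a)
  obtain ⟨b', hb'⟩ := exists_lift_tr h hQ hXV _ hr (res W _ ≫ b)
  have hm := mono_of_open (jG h hQ X)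
  have hab'' : a' = b' := by
    have h1 : a' ≫ jG h hQ X = res W (W.hom ⁻¹ᵁ X.1) ≫ a ≫ jG h hQ U := by
      rw [← tr_jG h hQ hXU, reassoc_of% ha']
    have h2 : b' ≫ jG h hQ X = res W (W.hom ⁻¹ᵁ X.1) ≫ b ≫ jG h hQ V := by
      rw [← tr_jG h hQ hXV, reassoc_of% hb']
    rw [← cancel_mono (jG h hQ X), h1, h2, hab]
  rw [← map_comp_apply, ← map_comp_apply, ← ha', ← hb', map_comp_apply, map_comp_apply,
    map_tr, map_tr, hab'']

omit hB in
lemma preimage_mono (T : Over S) {X U : B} (hXU : X ≤ U) :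
    T.hom ⁻¹ᵁ X.1 ≤ T.hom ⁻¹ᵁ U.1 := fun _ ht => hXU ht

lemma compat_hom (hQ : QOpen Q) (T : Over S)
    (m : ∀ U : B, Over.mk ((T.hom ⁻¹ᵁ U.1).ι ≫ T.hom) ⟶ HO π U)
    (hm : ∀ {X U : B} (hXU : X ≤ U),
      resLE T (preimage_mono T hXU) ≫ m U = m X ≫ tr h hXU)
    (U V : B) (W : Over S) (a : W ⟶ Over.mk ((T.hom ⁻¹ᵁ U.1).ι ≫ T.hom))
    (b : W ⟶ Over.mk ((T.hom ⁻¹ᵁ V.1).ι ≫ T.hom))
    (hab : a ≫ res T (T.hom ⁻¹ᵁ U.1) = b ≫ res T (T.hom ⁻¹ᵁ V.1)) :
    a ≫ m U ≫ jG h hQ U = b ≫ m V ≫ jG h hQ V := by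
  apply hom_ext_local
  intro w
  have hwU : W.hom w ∈ U.1 := by
    rw [← Over.w a]
    exact (a.left w).2
  have hwV : W.hom w ∈ V.1 := by
    rw [← Over.w b]
    exact (b.left w).2
  obtain ⟨X, hwX, hX⟩ := exists_affine (B := B) (W.hom w) (U.1 ⊓ V.1) ⟨hwU, hwV⟩
  have hXU : X ≤ U := hX.trans inf_le_left
  have hXV : X ≤ V := hX.trans inf_le_right
  obtain ⟨n, hn⟩ := exists_restrict (a ≫ res T (T.hom ⁻¹ᵁ U.1)) (W.hom ⁻¹ᵁ X.1)
    (T.hom ⁻¹ᵁ X.1) (by
      intro t ht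
      change T.hom ((a ≫ res T (T.hom ⁻¹ᵁ U.1)).left t) ∈ X.1
      rw [← Scheme.Hom.comp_apply, Over.w]
      exact ht)
  refine ⟨W.hom ⁻¹ᵁ X.1, hwX, ?_⟩
  have h1 : res W (W.hom ⁻¹ᵁ X.1) ≫ a = n ≫ resLE T (preimage_mono T hXU) := by
    rw [← cancel_mono (res T (T.hom ⁻¹ᵁ U.1)), Category.assoc, Category.assoc, resLE_res, hn]
  have h2 : res W (W.hom ⁻¹ᵁ X.1) ≫ b = n ≫ resLE T (preimage_mono T hXV) := by
    rw [← cancel_mono (res T (T.hom ⁻¹ᵁ V.1)), Category.assoc, Category.assoc, resLE_res, hn, hab]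
  rw [reassoc_of% h1, reassoc_of% h2, reassoc_of% (hm hXU), reassoc_of% (hm hXV), tr_jG, tr_jG]

variable (B) in
/-- The cover of `T` by the preimages of the opens in the basis. -/
noncomputable def covT (T : Over S) : Cov T where
  ι := B
  V := fun U => Over.mk ((T.hom ⁻¹ᵁ U.1).ι ≫ T.hom)
  j := fun U => res T (T.hom ⁻¹ᵁ U.1)
  isOpen := fun i => inferInstance
  covers := fun t => by
    obtain ⟨U, hU, -⟩ := exists_affine (B := B) (T.hom t) ⊤ trivial
    exact ⟨U, ⟨t, hU⟩, rfl⟩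

/-- **Gluing over the affine opens of the base.** -/
theorem exists_rep_glue (hG : IsZarSheaf G) (hQ : QOpen Q) (hQ' : QLocal Q) :
    ∃ ξ' : G.obj (op (HG h hQ)), IsRep Q (HG h hQ) ξ' ∧
      ∀ U, G.map (jG h hQ U).op ξ' = ξ U := by
  classical
  obtain ⟨ξ', hξ', -⟩ := hG (HG h hQ) (covG h hQ) ξ (compat_sec h hG hQ)
  have hξ' : ∀ U, G.map (jG h hQ U).op ξ' = ξ U := hξ'
  have hQξ : Q (HG h hQ) ξ' := hQ' _ (covG h hQ) ξ' (fun U => by
    have := (h U).mem.1
    rw [← hξ' U] at this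
    exact this)
  refine ⟨ξ', ⟨hQξ, fun T x hx => ?_⟩, hξ'⟩
  have hr : ∀ U : B,
      Set.range (Over.mk ((T.hom ⁻¹ᵁ U.1).ι ≫ T.hom)).hom ⊆ (U.1 : Set S) := by
    rintro U _ ⟨t, rfl⟩
    exact t.2
  have hQr : ∀ U : B, Q _ (G.map (res T (T.hom ⁻¹ᵁ U.1)).op x) := fun U =>
    hQ _ _ _ _ hx
  choose m hm hm' using fun U : B =>
    (h U).univ _ (G.map (res T (T.hom ⁻¹ᵁ U.1)).op x) ⟨hQr U, hr U⟩
  have hm : ∀ U, G.map (m U).op (ξ U) = G.map (res T (T.hom ⁻¹ᵁ U.1)).op x := hm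
  have hmtr : ∀ {X U : B} (hXU : X ≤ U),
      resLE T (preimage_mono T hXU) ≫ m U = m X ≫ tr h hXU := by
    intro X U hXU
    apply ((h U).univ _ (G.map (res T (T.hom ⁻¹ᵁ X.1)).op x) ⟨hQr X, (hr X).trans hXU⟩).unique
    · rw [map_comp_apply, hm, ← map_comp_apply, resLE_res]
    · rw [map_comp_apply, map_tr, hm]
  obtain ⟨g, hg⟩ := glue_hom T (HG h hQ) (covT B T) (fun U => m U ≫ jG h hQ U)
    (compat_hom h hQ T m hmtr)
  have hg : ∀ U : B, res T (T.hom ⁻¹ᵁ U.1) ≫ g = m U ≫ jG h hQ U := hg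
  refine ⟨g, ?_, ?_⟩
  · apply hG.ext_cover T (covT B T)
    intro U
    change G.map (res T (T.hom ⁻¹ᵁ U.1)).op (G.map g.op ξ') = G.map (res T (T.hom ⁻¹ᵁ U.1)).op x
    rw [← map_comp_apply, hg, map_comp_apply, hξ', hm]
  · intro g' hg'
    have hg' : G.map g'.op ξ' = x := hg'
    apply hom_ext_cover T _ (covT B T)
    intro U
    change res T (T.hom ⁻¹ᵁ U.1) ≫ g' = res T (T.hom ⁻¹ᵁ U.1) ≫ g
    rw [hg]
    obtain ⟨n, hn⟩ := exists_lift_open (jG h hQ U) (res T (T.hom ⁻¹ᵁ U.1) ≫ g') (by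
      intro t
      apply range_jG
      rw [← Scheme.Hom.comp_apply, Over.w]
      exact t.2)
    rw [← hn]
    congr 1
    apply hm' U
    rw [← hξ', ← map_comp_apply, hn, map_comp_apply, hg']

/-- properties local on the target of the structure morphism. -/
lemma prop_HG (P : MorphismProperty Scheme.{u}) [IsZariskiLocalAtTarget P] (hQ : QOpen Q)
    (hP : ∀ U, P (π U)) : P (HG h hQ).hom := by
  rw [IsZariskiLocalAtTarget.iff_of_openCover (P := P) (bcov B)]
  intro U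
  rw [Scheme.Cover.pullbackHom]
  have h1 : (isPullback_jG h hQ U).isoPullback.inv ≫ π U = pullback.snd (HG h hQ).hom U.1.ι :=
    (isPullback_jG h hQ U).isoPullback_inv_snd
  change P (pullback.snd (HG h hQ).hom U.1.ι)
  rw [← h1, P.cancel_left_of_respectsIso]
  exact hP U

end Groth.Agent.Flat2D.RepLNBasis

namespace Groth.Agent.Flat2D.RepLNBasis

open Groth.Agent.Picfga.OverRep Groth.Agent.Flat2D.RepLN Groth.Agent.Flat2D.RepLNSum

variable {S : Scheme.{u}} {G : (Over S)ᵒᵖ ⥤ Type w} {Q : ∀ T : Over S, G.obj (op T) → Prop}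

/-- the restriction of an object to an open of the base, mapping to the object -/
noncomputable def restO (K : Over S) (V : S.Opens) :
    Over.mk ((K.hom ∣_ V) ≫ V.ι) ⟶ K :=
  Over.homMk (K.hom ⁻¹ᵁ V).ι (by simp)

instance (K : Over S) (V : S.Opens) : IsOpenImmersion (restO K V).left :=
  inferInstanceAs (IsOpenImmersion (K.hom ⁻¹ᵁ V).ι)

/-- restriction of a representing object to a smaller open of the base -/
lemma isRep_restrict (hQ : QOpen Q) {K : Over S} {ξ : G.obj (op K)} {U V : S.Opens}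
    (hVU : V ≤ U) (h : IsRep (QU Q U) K ξ) :
    IsRep (QU Q V) (Over.mk ((K.hom ∣_ V) ≫ V.ι)) (G.map (restO K V).op ξ) := by
  refine ⟨⟨hQ _ _ _ _ h.mem.1, ?_⟩, fun T x hx => ?_⟩
  · rintro _ ⟨t, rfl⟩
    exact ((K.hom ∣_ V) t).2
  · obtain ⟨g, hg, hg'⟩ := h.univ T x ⟨hx.1, hx.2.trans hVU⟩
    have hg : G.map g.op ξ = x := hg
    obtain ⟨m, hm⟩ := exists_lift_open (restO K V) g (by
      intro t
      have h2 : K.hom (g.left t) ∈ V := by
        have : K.hom (g.left t) = T.hom t := by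
          rw [← Scheme.Hom.comp_apply, Over.w]
        rw [this]
        exact hx.2 ⟨t, rfl⟩
      exact ⟨⟨_, h2⟩, rfl⟩)
    have hmono := mono_of_open (restO K V)
    refine ⟨m, ?_, fun m' hm' => ?_⟩
    · change G.map m.op (G.map (restO K V).op ξ) = x
      rw [← map_comp_apply, hm, hg]
    · have hm' : G.map m'.op (G.map (restO K V).op ξ) = x := hm'
      rw [← map_comp_apply] at hm'
      rw [← cancel_mono (restO K V), hm]
      exact hg' _ hm'

/-- **Gluing over an arbitrary open cover of the base.** -/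
theorem exists_rep_of_cover {K : Type v} (hG : IsZarSheaf G) (hQ : QOpen Q) (hQ' : QLocal Q)
    (U : K → S.Opens) (hU : ∀ s : S, ∃ a, s ∈ U a) (Ka : ∀ _ : K, Over S)
    (ξ : ∀ a, G.obj (op (Ka a))) (h : ∀ a, IsRep (QU Q (U a)) (Ka a) (ξ a)) :
    ∃ (H' : Over S) (ξ' : G.obj (op H')), IsRep Q H' ξ' := by
  classical
  let B : Set S.Opens := {V | ∃ a, V ≤ U a}
  have hB : Fact (TopologicalSpace.Opens.IsBasis B) := ⟨by
    rw [TopologicalSpace.Opens.isBasis_iff_nbhd]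
    intro V s hs
    obtain ⟨a, ha⟩ := hU s
    exact ⟨V ⊓ U a, ⟨a, inf_le_right⟩, ⟨hs, ha⟩, inf_le_left⟩⟩
  choose a ha using fun V : B => V.2
  have key : ∀ V : B, IsRep (QU Q V.1) (HO (fun V : B => (Ka (a V)).hom ∣_ V.1) V)
      (G.map (restO (Ka (a V)) V.1).op (ξ (a V))) := fun V =>
    isRep_restrict hQ (ha V) (h (a V))
  obtain ⟨ξ', h1, -⟩ := exists_rep_glue key hG hQ hQ'
  exact ⟨_, ξ', h1⟩

end Groth.Agent.Flat2D.RepLNBasis
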