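import Groth.Agent.Flat2D.RepLNBasis
import Groth.Agent.Fga.QT9Loc

/-!
# Gluing `NRep` over an open cover of the base

`exists_nrep_of_openCover`: if the restrictions of a Zariski sheaf `G` to the members of an open cover of `S` are
representable on locally Noetherian schemes, so is `G`.
-/

set_option autoImplicit false
universe w u v

open CategoryTheory CategoryTheory.Limits AlgebraicGeometry Opposite

namespace Groth.Agent.Flat2D.RepLNCover

open Groth.Agent.Picfga.OverRep Groth.Agent.Flat2D.RepLN Groth.Agent.Flat2D.RepLNSum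
  Groth.Agent.Flat2D.RepLNBasis Groth.Agent.Fga

variable {S : Scheme.{u}} {G : (Over S)ᵒᵖ ⥤ Type w}

lemma isRep_iff_nrep {H : Over S} {ξ : G.obj (op H)} : IsRep (QLN G) H ξ ↔ NoethRep.NRep G H ξ :=
  ⟨fun h => ⟨h.mem, fun T hT x => h.univ T x hT⟩, fun h => ⟨h.noeth, fun T x hT => @h.univ T hT x⟩⟩

lemma isRep_of_restr {S' : Scheme.{u}} (j : S' ⟶ S) [IsOpenImmersion j] {H : Over S'}
    {ξ : (NoethRep.restr j G).obj (op H)} (h : NoethRep.NRep (NoethRep.restr j G) H ξ) :
    IsRep (G := G) (QU (QLN G) j.opensRange) ((Over.map j).obj H) ξ := by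
  refine ⟨⟨h.noeth, ?_⟩, fun T x hx => ?_⟩
  · rintro _ ⟨t, rfl⟩
    exact ⟨H.hom t, rfl⟩
  · have hT : IsLocallyNoetherian T.left := hx.1
    let T' : Over S' := Over.mk (IsOpenImmersion.lift j T.hom hx.2)
    have hT'w : T'.hom ≫ j = T.hom := IsOpenImmersion.lift_fac _ _ _
    have hT' : IsLocallyNoetherian T'.left := hT
    let e : (Over.map j).obj T' ≅ T := Over.isoMk (Iso.refl _) (by
      change 𝟙 _ ≫ T.hom = T'.hom ≫ j
      rw [hT'w, Category.id_comp])
    obtain ⟨g', hg', hu⟩ := h.univ T' (G.map e.hom.op x)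
    have hg' : G.map ((Over.map j).map g').op ξ = G.map e.hom.op x := hg'
    have hu : ∀ g : T' ⟶ H, G.map ((Over.map j).map g).op ξ = G.map e.hom.op x → g = g' := hu
    have hleft : (e.inv ≫ (Over.map j).map g').left = g'.left := Category.id_comp _
    refine ⟨e.inv ≫ (Over.map j).map g', ?_, fun g₁ hg₁ => ?_⟩
    · change G.map (e.inv ≫ (Over.map j).map g').op ξ = x
      rw [map_comp_apply, hg', ← map_comp_apply, e.inv_hom_id]
      simp
    · have hg₁ : G.map g₁.op ξ = x := hg₁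
      let g₁' : T' ⟶ H := Over.homMk g₁.left (by
        rw [← cancel_mono j, hT'w, Category.assoc]
        exact Over.w g₁)
      have h1 : (Over.map j).map g₁' = e.hom ≫ g₁ := by
        ext
        exact (Category.id_comp _).symm
      have h2 : g₁' = g' := hu g₁' (by rw [h1, map_comp_apply, hg₁])
      ext
      rw [hleft, ← h2]
      rfl

/-- **Gluing over an open cover of the base**, in terms of `NoethRep.restr`. -/
theorem exists_nrep_of_openCover (hG : IsZarSheaf G) (𝒰 : S.OpenCover)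
    (H : ∀ a : 𝒰.I₀, Over (𝒰.X a)) (ξ : ∀ a, (NoethRep.restr (𝒰.f a) G).obj (op (H a)))
    (h : ∀ a, NoethRep.NRep (NoethRep.restr (𝒰.f a) G) (H a) (ξ a)) :
    ∃ (H' : Over S) (ξ' : G.obj (op H')), NoethRep.NRep G H' ξ' := by
  obtain ⟨H', ξ', h'⟩ := exists_rep_of_cover hG qOpen_QLN qLocal_QLN
    (fun a : 𝒰.I₀ => (𝒰.f a).opensRange)
    (fun s => by
      obtain ⟨a, y, hy⟩ := 𝒰.exists_eq s
      exact ⟨a, y, hy⟩)
    (fun a => (Over.map (𝒰.f a)).obj (H a)) ξ (fun a => isRep_of_restr (𝒰.f a) (h a))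
  exact ⟨H', ξ', isRep_iff_nrep.1 h'⟩

end Groth.Agent.Flat2D.RepLNCover
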