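import Groth.Agent.Flat2D.FormalFF

/-!
# Completeness of global functions on quasi-compact opens of the spectrum of a complete Noetherian ring
-/

set_option autoImplicit false
universe u

open CategoryTheory CategoryTheory.Limits AlgebraicGeometry Opposite TopologicalSpace

namespace Groth.Agent.Flat2D.SecQAff

open Groth.Agent.Pi1A.FEtTower Groth.Agent.Pi1A

variable {B : Type u} [CommRing B] (I : Ideal B)

/-- Compatible families in the quotients `B / I ^ (n + 1)` lift to `B`. -/
theorem exists_lift [IsAdicComplete I B] (c : ∀ n : ℕ, B ⧸ I ^ (n + 1))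
    (hc : ∀ n, Ideal.Quotient.factor (Ideal.pow_le_pow_right (Nat.le_succ (n + 1)) : I ^ (n + 1 + 1) ≤ I ^ (n + 1))
      (c (n + 1)) = c n) : ∃ b : B, ∀ n, Ideal.Quotient.mk (I ^ (n + 1)) b = c n := by
  choose b hb using fun n => Ideal.Quotient.mk_surjective (c n)
  have h1 : ∀ n, b (n + 1) - b n ∈ I ^ (n + 1) := by
    intro n
    rw [← Ideal.Quotient.eq, hb, ← hc n, ← hb (n + 1), Ideal.Quotient.factor_mk]
  have h2 : ∀ m k, b (m + k) - b m ∈ I ^ (m + 1) := by
    intro m k
    induction k with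
    | zero => rw [add_zero, sub_self]; exact zero_mem _
    | succ k ih =>
      have : b (m + (k + 1)) - b m = (b (m + k + 1) - b (m + k)) + (b (m + k) - b m) := by
        rw [← add_assoc]; ring
      rw [this]
      exact add_mem (Ideal.pow_le_pow_right (by omega) (h1 (m + k))) ih
  obtain ⟨L, hL⟩ := IsPrecomplete.prec (I := I) (M := B) inferInstance (f := b) (fun {m n} hmn => by
    obtain ⟨k, rfl⟩ := Nat.exists_eq_add_of_le hmn
    rw [SModEq.sub_mem, smul_eq_mul, Ideal.mul_top]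
    have := h2 m k
    rw [← neg_mem_iff, neg_sub] at this
    exact Ideal.pow_le_pow_right (Nat.le_succ m) this)
  refine ⟨L, fun n => ?_⟩
  have h3 := hL (n + 1)
  rw [SModEq.sub_mem, smul_eq_mul, Ideal.mul_top] at h3
  rw [← hb n, eq_comm, Ideal.Quotient.eq]
  have : b n - L = (b (n + 1) - L) - (b (n + 1) - b n) := by ring
  rw [this]
  exact sub_mem h3 (h1 n)

variable {X : Scheme.{u}} (f : X ⟶ Spec (CommRingCat.of B))

theorem toGlobal_specMap {R S : Type u} [CommRing R] [CommRing S] (φ : R →+* S) (a : R) :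
    Coh.toGlobal (Spec.map (CommRingCat.ofHom φ)) a = (Scheme.ΓSpecIso (CommRingCat.of S)).inv (φ a) := by
  have h1 := (Scheme.ΓSpecIso_inv_naturality (CommRingCat.ofHom φ))
  exact congr($(h1) a).symm

theorem existence [IsAdicComplete I B] (hbij : ∀ n, Function.Bijective (CohB1.thickToBase f I n).appTop)
    (y : ∀ n : ℕ, Γ(CohB1.thick f I n, ⊤))
    (hy : ∀ n, (CohB1.thickTrans f I n).appTop (y (n + 1)) = y n) :
    ∃ s : Γ(X, ⊤), ∀ n, (CohB1.thickι f I n).appTop s = y n := by
  have h1 : ∀ n, ∃ c : B ⧸ I ^ (n + 1), (CohB1.thickToBase f I n).appTop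
      ((Scheme.ΓSpecIso (CommRingCat.of (B ⧸ I ^ (n + 1)))).inv c) = y n := by
    intro n
    obtain ⟨z, hz⟩ := (hbij n).2 (y n)
    obtain ⟨c, rfl⟩ := (ConcreteCategory.bijective_of_isIso
      (Scheme.ΓSpecIso (CommRingCat.of (B ⧸ I ^ (n + 1)))).inv).2 z
    exact ⟨c, hz⟩
  choose c hc using h1
  have h2 : ∀ n, Ideal.Quotient.factor (Ideal.pow_le_pow_right (Nat.le_succ (n + 1)) : I ^ (n + 1 + 1) ≤ I ^ (n + 1))
      (c (n + 1)) = c n := by
    intro n
    apply (ConcreteCategory.bijective_of_isIso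
      (Scheme.ΓSpecIso (CommRingCat.of (B ⧸ I ^ (n + 1)))).inv).1
    apply (hbij n).1
    rw [hc, ← hy n, ← hc (n + 1)]
    have h3 := thickTrans_thickToBase I f n
    have h4 : (CohB1.thickTrans f I n).appTop ((CohB1.thickToBase f I (n + 1)).appTop
        ((Scheme.ΓSpecIso (CommRingCat.of (B ⧸ I ^ (n + 1 + 1)))).inv (c (n + 1)))) =
        (CohB1.thickToBase f I n).appTop ((CohB1.specQuotTrans I n).appTop
        ((Scheme.ΓSpecIso (CommRingCat.of (B ⧸ I ^ (n + 1 + 1)))).inv (c (n + 1)))) :=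
      congr(($(h3)).appTop ((Scheme.ΓSpecIso (CommRingCat.of (B ⧸ I ^ (n + 1 + 1)))).inv (c (n + 1))))
    rw [h4]
    congr 1
    exact (toGlobal_specMap _ (c (n + 1))).symm
  obtain ⟨b, hb⟩ := exists_lift I c h2
  refine ⟨Coh.toGlobal f b, fun n => ?_⟩
  rw [← hc n, ← hb n, ← toGlobal_specMap]
  have h5 : CohB1.thickι f I n ≫ f = CohB1.thickToBase f I n ≫ CohB1.specQuot I n := pullback.condition
  exact congr(($(h5)).appTop ((Scheme.ΓSpecIso (CommRingCat.of B)).inv b))

theorem thickι_toGlobal (b : B) (n : ℕ) : (CohB1.thickι f I n).appTop (Coh.toGlobal f b) =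
    (CohB1.thickToBase f I n).appTop ((Scheme.ΓSpecIso (CommRingCat.of (B ⧸ I ^ (n + 1)))).inv
      (Ideal.Quotient.mk (I ^ (n + 1)) b)) := by
  rw [← toGlobal_specMap]
  have h5 : CohB1.thickι f I n ≫ f = CohB1.thickToBase f I n ≫ CohB1.specQuot I n := pullback.condition
  exact congr(($(h5)).appTop ((Scheme.ΓSpecIso (CommRingCat.of B)).inv b))

theorem toGlobal_injective [IsHausdorff I B] (hbij : ∀ n, Function.Injective (CohB1.thickToBase f I n).appTop)
    (b : B) (hb : ∀ n, (CohB1.thickι f I n).appTop (Coh.toGlobal f b) = 0) : b = 0 := by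
  refine IsHausdorff.haus (I := I) inferInstance b fun n => ?_
  rw [SModEq.zero, smul_eq_mul, Ideal.mul_top]
  have h1 := hb n
  rw [thickι_toGlobal] at h1
  have h2 : (Scheme.ΓSpecIso (CommRingCat.of (B ⧸ I ^ (n + 1)))).inv (Ideal.Quotient.mk (I ^ (n + 1)) b) = 0 :=
    hbij n (h1.trans (map_zero _).symm)
  have h3 : Ideal.Quotient.mk (I ^ (n + 1)) b = 0 :=
    (ConcreteCategory.bijective_of_isIso (Scheme.ΓSpecIso (CommRingCat.of (B ⧸ I ^ (n + 1)))).inv).1
      (h2.trans (map_zero _).symm)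
  exact Ideal.pow_le_pow_right (Nat.le_succ n) (Ideal.Quotient.eq_zero_iff_mem.1 h3)

theorem eq_zero [IsHausdorff I B] (hbij : ∀ n, Function.Injective (CohB1.thickToBase f I n).appTop)
    [IsOpenImmersion f] [CompactSpace X]
    (s : Γ(X, ⊤)) (hs : ∀ n, (CohB1.thickι f I n).appTop s = 0) : s = 0 := by
  -- enough: locally killed by a unit
  have key : ∀ g : B, (Spec (CommRingCat.of B)).basicOpen ((Scheme.ΓSpecIso (CommRingCat.of B)).inv g) ≤ f.opensRange →
      ∃ k : ℕ, (show Γ(X, ⊤) from Coh.toGlobal f g) ^ k * s = 0 := by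
    intro g hg
    set g' := (Scheme.ΓSpecIso (CommRingCat.of B)).inv g with hg'
    set D := (Spec (CommRingCat.of B)).basicOpen g' with hD
    have hiso := Scheme.Hom.isIso_app f D hg
    obtain ⟨τ, hτ⟩ := (ConcreteCategory.bijective_of_isIso (f.app D)).2
      (X.presheaf.map (homOfLE (le_top (a := f ⁻¹ᵁ D))).op s)
    have hloc := (isAffineOpen_top (Spec (CommRingCat.of B))).isLocalization_basicOpen g'
    obtain ⟨m, b', hb'⟩ := IsLocalization.Away.surj g' τ
    have hres : X.basicOpen (f.appTop g') = f ⁻¹ᵁ D := (Scheme.preimage_basicOpen_top f g').symm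
    have h0 : ∀ z : Γ(Spec (CommRingCat.of B), ⊤),
        X.presheaf.map (homOfLE (le_top (a := f ⁻¹ᵁ D))).op (f.appTop z) =
        f.app D (algebraMap Γ(Spec (CommRingCat.of B), ⊤) Γ(Spec (CommRingCat.of B), D) z) := by
      intro z
      exact congr($(f.naturality (homOfLE (le_top (a := D))).op) z).symm
    have h1' : X.presheaf.map (homOfLE (le_top (a := f ⁻¹ᵁ D))).op
        ((f.appTop g') ^ m * s - f.appTop b') = 0 := by
      rw [map_sub, map_mul, map_pow, h0, h0, ← hτ, ← map_pow, ← map_mul, ← map_sub, ← hb', mul_comm, sub_self,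
        map_zero]
    have h1 : ((f.appTop g') ^ m * s - f.appTop b') |_ (X.basicOpen (f.appTop g')) = 0 := by
      change X.presheaf.map _ _ = 0
      have h4 : ∀ z : Γ(X, ⊤), X.presheaf.map (homOfLE (le_top (a := X.basicOpen (f.appTop g')))).op z =
        X.presheaf.map (eqToHom hres).op (X.presheaf.map (homOfLE (le_top (a := f ⁻¹ᵁ D))).op z) := by
        intro z
        exact congr($(X.presheaf.map_comp (homOfLE (le_top (a := f ⁻¹ᵁ D))).op (eqToHom hres).op) z)
      exact (h4 _).trans (by rw [h1', map_zero])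
    obtain ⟨k, hk⟩ := exists_pow_mul_eq_zero_of_res_basicOpen_eq_zero_of_isCompact X
      (U := ⊤) isCompact_univ _ _ h1
    obtain ⟨b, rfl⟩ := (ConcreteCategory.bijective_of_isIso (Scheme.ΓSpecIso (CommRingCat.of B)).inv).2 b'
    have h2 : (show Γ(X, ⊤) from Coh.toGlobal f (g ^ k * b)) = (f.appTop g') ^ (k + m) * s := by
      rw [mul_sub, sub_eq_zero] at hk
      rw [pow_add, mul_assoc, hk, map_mul, map_pow]
      rfl
    have h3 : g ^ k * b = 0 := by
      apply toGlobal_injective I f hbij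
      intro n
      refine (congrArg (CohB1.thickι f I n).appTop h2).trans ?_
      rw [map_mul, hs, mul_zero]
    refine ⟨k + m, ?_⟩
    refine h2.symm.trans ?_
    rw [h3]
    exact map_zero (Coh.toGlobal f)
  -- glue
  apply TopCat.Presheaf.section_ext X.sheaf ⊤
  intro x _
  refine Eq.trans ?_ (map_zero (X.presheaf.germ ⊤ x trivial).hom).symm
  obtain ⟨_, ⟨_, ⟨t, rfl⟩, rfl⟩, hxt, htU⟩ :=
    PrimeSpectrum.isBasis_basic_opens.exists_subset_of_mem_open (show f x ∈ f.opensRange from ⟨x, rfl⟩)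
      f.opensRange.isOpen
  obtain ⟨k, hk⟩ := key t (by
    rw [basicOpen_eq_of_affine]
    exact htU)
  have hu : IsUnit (X.presheaf.germ ⊤ x trivial (show Γ(X, ⊤) from Coh.toGlobal f t)) := by
    rw [← Scheme.mem_basicOpen_top]
    have h1 : X.basicOpen (show Γ(X, ⊤) from Coh.toGlobal f t) =
        f ⁻¹ᵁ ((Spec (CommRingCat.of B)).basicOpen ((Scheme.ΓSpecIso (CommRingCat.of B)).inv t)) :=
      (Scheme.preimage_basicOpen_top f _).symm
    rw [h1, basicOpen_eq_of_affine]
    exact hxt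
  have h2 := congrArg (X.presheaf.germ ⊤ x trivial) hk
  rw [map_mul, map_pow, map_zero] at h2
  exact (hu.pow k).mul_right_eq_zero.1 h2

/-- **Completeness of the global functions.** -/
theorem existsUnique [IsAdicComplete I B] [IsOpenImmersion f] [CompactSpace X]
    (hbij : ∀ n, Function.Bijective (CohB1.thickToBase f I n).appTop)
    (y : ∀ n : ℕ, Γ(CohB1.thick f I n, ⊤))
    (hy : ∀ n, (CohB1.thickTrans f I n).appTop (y (n + 1)) = y n) :
    ∃! s : Γ(X, ⊤), ∀ n, (CohB1.thickι f I n).appTop s = y n := by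
  obtain ⟨s, hs⟩ := existence I f hbij y hy
  refine ⟨s, hs, fun s' hs' => ?_⟩
  rw [← sub_eq_zero]
  apply eq_zero I f (fun n => (hbij n).1)
  intro n
  rw [map_sub, hs, hs', sub_self]

end Groth.Agent.Flat2D.SecQAff
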