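import Groth.Agent.VarietyA.GeomIrrF
import Groth.Agent.Flat2E.FinSepClosure

/-!
# Composites with Galois extensions

* `mem_range_of_compositum`: if `E` is a compositum of `K` and a finite Galois extension `k'` of `k`
  into which the separable closure of `k` in `K` embeds, then `k'` is separably closed in `E`.
-/

set_option autoImplicit false
universe u

open TensorProduct

namespace Groth.Agent.Flat2D.SepCompositum

/-- An element of a normal subextension: if `x : E` is algebraic over `k` and its minimal polynomial
has a root in the normal extension `k'` of `k` contained in `E`, then `x` comes from `k'`. -/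
lemma mem_range_of_root (k k' E : Type*) [Field k] [Field k'] [Field E] [Algebra k k']
    [Algebra k E] [Algebra k' E] [IsScalarTower k k' E] [Normal k k'] (x : E) (hx : IsIntegral k x)
    (y : k') (hy : minpoly k y = minpoly k x) : x ∈ (algebraMap k' E).range := by
  have h1 : ((minpoly k x).map (algebraMap k k')).Splits := by
    rw [← hy]
    exact Normal.splits inferInstance y
  refine h1.mem_range_of_isRoot ?_ ?_
  · exact Polynomial.map_ne_zero (minpoly.ne_zero hx)
  · rw [Polynomial.map_map, ← IsScalarTower.algebraMap_eq, Polynomial.IsRoot.def,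
      Polynomial.eval_map_algebraMap]
    exact minpoly.aeval k x

/-- A factorization `ψ` of `L → K → E` through `k' → E`. -/
lemma exists_factor (L K k' E : Type*) [Field L] [Field K] [Field k'] [Field E] [Algebra L K]
    [Algebra K E] [Algebra k' E]
    (h : ∀ l : L, algebraMap K E (algebraMap L K l) ∈ (algebraMap k' E).range) :
    ∃ ψ : L →+* k', ∀ l, algebraMap k' E (ψ l) = algebraMap K E (algebraMap L K l) := by
  choose ψ hψ using h
  have hinj := (algebraMap k' E).injective
  refine ⟨{ toFun := ψ, map_one' := ?_, map_mul' := ?_, map_zero' := ?_, map_add' := ?_ }, hψ⟩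
  · apply hinj; rw [hψ]; simp
  · intro x y; apply hinj; rw [map_mul, hψ, hψ, hψ, map_mul, map_mul]
  · apply hinj; rw [hψ]; simp
  · intro x y; apply hinj; rw [map_add, hψ, hψ, hψ, map_add, map_add]

lemma isPrime_nilradical_aux (L K k' E : Type u) [Field L] [Field K] [Field k'] [Field E]
    [Algebra L K] [Algebra L k'] [Algebra k' E]
    (hK : ∀ a : K, IsSeparable L a → a ∈ (algebraMap L K).range) (e : k' ⊗[L] K ≃ₐ[k'] E)
    (M : Type u) [Field M] [Algebra k' M] : (nilradical (E ⊗[k'] M)).IsPrime := by
  let : Algebra L M := ((algebraMap k' M).comp (algebraMap L k')).toAlgebra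
  have : IsScalarTower L k' M := IsScalarTower.of_algebraMap_eq fun _ => rfl
  have h1 : (nilradical (M ⊗[L] K)).IsPrime :=
    VarietyA.GeomIrr.isPrime_nilradical_of_sepClosed_in L K M hK
  let e2 : E ⊗[k'] M ≃+* M ⊗[L] K :=
    (Algebra.TensorProduct.comm k' E M).toRingEquiv.trans
      (((Algebra.TensorProduct.congr (AlgEquiv.refl : M ≃ₐ[k'] M) e.symm).toRingEquiv).trans
        (Algebra.TensorProduct.cancelBaseChange L k' k' M K).toRingEquiv)
  exact VarietyA.GeomIrr.isPrime_nilradical_of_injective e2.toRingHom e2.injective h1

/-- If `E` is a compositum of `K` and a separable extension `k'` of `L` and `L` is separably closed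
in `K`, then `k'` is separably closed in `E`. -/
theorem mem_range_of_sepClosed_in (L K k' E : Type u) [Field L] [Field K] [Field k'] [Field E]
    [Algebra L K] [Algebra L k'] [Algebra L E] [Algebra K E] [Algebra k' E] [IsScalarTower L K E]
    [IsScalarTower L k' E] [Algebra.IsSeparable L k']
    (hK : ∀ a : K, IsSeparable L a → a ∈ (algebraMap L K).range)
    (hE : Function.Surjective (Algebra.TensorProduct.productLeftAlgHom (Algebra.ofId k' E)
      (IsScalarTower.toAlgHom L K E)))
    (a : E) (ha : IsSeparable k' a) : a ∈ (algebraMap k' E).range := by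
  have hD' : IsDomain (K ⊗[L] k') := VarietyA.GeomIrr.isDomain_tensorProduct_of_separable L K k' hK
  have hfield' : IsField (K ⊗[L] k') :=
    (Algebra.IsIntegral.isField_iff_isField (R := K) (S := K ⊗[L] k')
      (algebraMap K (K ⊗[L] k')).injective).1 (Field.toIsField K)
  have hfield : IsField (k' ⊗[L] K) :=
    (Algebra.TensorProduct.comm L k' K).toMulEquiv.isField hfield'
  let μ : k' ⊗[L] K →ₐ[k'] E := Algebra.TensorProduct.productLeftAlgHom (Algebra.ofId k' E)
      (IsScalarTower.toAlgHom L K E)
  have hinj : Function.Injective μ := by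
    let := hfield.toField
    exact μ.toRingHom.injective
  let e : k' ⊗[L] K ≃ₐ[k'] E := AlgEquiv.ofBijective μ ⟨hinj, hE⟩
  apply VarietyA.GeomIrr.mem_range_of_isPrime_nilradical k' E a ha
  exact isPrime_nilradical_aux L K k' E hK e _

/-- If `E` is a compositum of `K` and a separable normal extension `k'` of `k` into which the separable
closure `L` of `k` in `K` embeds, then `k'` is separably closed in `E`. -/
theorem mem_range_of_compositum (k L K k' E : Type u) [Field k] [Field L] [Field K] [Field k']
    [Field E] [Algebra k L] [Algebra L K] [Algebra k K] [IsScalarTower k L K]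
    [Algebra k k'] [Algebra k E] [Algebra K E] [Algebra k' E] [IsScalarTower k K E]
    [IsScalarTower k k' E] [Algebra.IsSeparable k k'] [Normal k k'] [Algebra.IsSeparable k L]
    (hL : ∀ a : K, IsSeparable k a → a ∈ (algebraMap L K).range) (φ : L →ₐ[k] k')
    (hE : Function.Surjective (Algebra.TensorProduct.productLeftAlgHom (Algebra.ofId k' E)
      (IsScalarTower.toAlgHom k K E)))
    (a : E) (ha : IsSeparable k' a) : a ∈ (algebraMap k' E).range := by
  have h1 : ∀ l : L, algebraMap K E (algebraMap L K l) ∈ (algebraMap k' E).range := by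
    intro l
    have hl : IsIntegral k l := (Algebra.IsSeparable.isSeparable k l).isIntegral
    have h2 : minpoly k (algebraMap K E (algebraMap L K l)) = minpoly k l := by
      have h3 := minpoly.algebraMap_eq (A := k) (B := K) (B' := E) (algebraMap K E).injective
        (algebraMap L K l)
      have h4 := minpoly.algebraMap_eq (A := k) (B := L) (B' := K) (algebraMap L K).injective l
      rw [h3, h4]
    refine mem_range_of_root k k' E _ ?_ (φ l) ?_
    · exact (hl.algebraMap (B := K)).algebraMap (B := E)
    · rw [h2]
      exact minpoly.algHom_eq φ φ.injective l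
  obtain ⟨ψ, hψ⟩ := exists_factor L K k' E h1
  let : Algebra L k' := ψ.toAlgebra
  let : Algebra L E := ((algebraMap K E).comp (algebraMap L K)).toAlgebra
  have i1 : IsScalarTower L K E := IsScalarTower.of_algebraMap_eq fun _ => rfl
  have i2 : IsScalarTower L k' E := IsScalarTower.of_algebraMap_eq fun l => (hψ l).symm
  have i3 : IsScalarTower k L k' := IsScalarTower.of_algebraMap_eq fun x => by
    apply (algebraMap k' E).injective
    change _ = algebraMap k' E (ψ (algebraMap k L x))
    rw [hψ, ← IsScalarTower.algebraMap_apply k k' E, ← IsScalarTower.algebraMap_apply k L K,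
      ← IsScalarTower.algebraMap_apply k K E]
  have i4 : Algebra.IsSeparable L k' := Algebra.isSeparable_tower_top_of_isSeparable k L k'
  refine mem_range_of_sepClosed_in L K k' E ?_ ?_ a ha
  · intro b hb
    exact hL b (IsSeparable.of_algebra_isSeparable_of_isSeparable k hb)
  · intro x
    obtain ⟨t, rfl⟩ := hE x
    induction t using TensorProduct.induction_on with
    | zero => exact ⟨0, by simp⟩
    | tmul x y => exact ⟨x ⊗ₜ y, by simp⟩
    | add x y hx hy =>
      obtain ⟨x', hx'⟩ := hx
      obtain ⟨y', hy'⟩ := hy
      exact ⟨x' + y', by rw [map_add, map_add, hx', hy']⟩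

end Groth.Agent.Flat2D.SepCompositum
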