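import Groth.Agent.Divis.RegImm
import Groth.Prelude.Def_CInt
import Mathlib.AlgebraicGeometry.ZariskisMainTheorem
import Mathlib.AlgebraicGeometry.Morphisms.FinitePresentation
import Mathlib.RingTheory.Ideal.Height

/-!
# Shrinking a slice to make it quasi-finite with one point over the base point

* `locallyOfFinitePresentation_of_isRegularClosedImmersion`
* `isOpen_singleton_of_dim_zero`: a closed point with zero-dimensional local ring of a locally Noetherian scheme is open.
* `exists_quasiFinite_shrink`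
-/

set_option autoImplicit false
universe u

open CategoryTheory AlgebraicGeometry Limits
open RingTheory.Sequence

namespace Groth.Agent.Flat2D.SliceQF

theorem isOpen_singleton_of_isMax_of_isMin {R : Type*} [CommRing R] [IsNoetherianRing R]
    (x : PrimeSpectrum R) (h₁ : IsMax x) (h₂ : IsMin x) : IsOpen {x} := by
  suffices {x} = (⋃ p ∈ { p : PrimeSpectrum R | IsMin p ∧ p ≠ x }, closure {p})ᶜ by
    rw [this, isOpen_compl_iff]
    refine Set.Finite.isClosed_biUnion ?_ (fun _ _ ↦ isClosed_closure)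
    exact (PrimeSpectrum.finite_setOfPred_isMin R).subset fun x h ↦ h.1
  ext p
  simp only [Set.mem_singleton_iff, ne_eq, Set.mem_ofPred_eq, Set.compl_iUnion, Set.mem_iInter,
    Set.mem_compl_iff, and_imp, ← specializes_iff_mem_closure, ← PrimeSpectrum.le_iff_specializes,
    not_imp_not]
  constructor
  · rintro rfl _ _
    exact h₂.eq_of_le
  · intro hp
    apply h₁.eq_of_ge
    obtain ⟨q, hq, hq'⟩ := Ideal.exists_minimalPrimes_le (J := p.asIdeal) bot_le
    exact (hp ⟨q, hq.1.1⟩ (PrimeSpectrum.isMin_iff.mpr hq) hq').ge.trans hq'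

/-- A closed point with zero-dimensional local ring of a locally Noetherian scheme is open. -/
theorem isOpen_singleton_of_dim_zero {F : Scheme.{u}} [IsLocallyNoetherian F] (x : F)
    (hx : IsClosed ({x} : Set F)) (h0 : ringKrullDim (F.presheaf.stalk x) ≤ 0) :
    IsOpen ({x} : Set F) := by
  obtain ⟨U, hU, hxU, -⟩ := exists_isAffineOpen_mem_and_subset (X := F) (x := x) (U := ⊤) trivial
  have hN : IsNoetherianRing Γ(F, U) := IsLocallyNoetherian.component_noetherian ⟨U, hU⟩
  let p := hU.primeIdealOf ⟨x, hxU⟩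
  have hp : hU.fromSpec p = x := hU.fromSpec_primeIdealOf ⟨x, hxU⟩
  have hmax : p.asIdeal.IsMaximal := hU.primeIdealOf_isMaximal_of_isClosed ⟨x, hxU⟩ hx
  letI := F.presheaf.algebra_section_stalk ⟨x, hxU⟩
  have hloc : IsLocalization.AtPrime (F.presheaf.stalk x) p.asIdeal := hU.isLocalization_stalk ⟨x, hxU⟩
  have hmin : IsMin p := by
    rw [PrimeSpectrum.isMin_iff]
    rw [IsLocalization.AtPrime.ringKrullDim_eq_height p.asIdeal (F.presheaf.stalk x)] at h0
    have h1 : p.asIdeal.height = 0 := by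
      have : p.asIdeal.height ≤ 0 := by exact_mod_cast h0
      exact le_antisymm this bot_le
    rwa [Ideal.height_eq_zero_iff] at h1
  have h2 := isOpen_singleton_of_isMax_of_isMin p (PrimeSpectrum.isMax_iff.mpr hmax) hmin
  have h3 := hU.fromSpec.isOpenEmbedding.isOpenMap _ h2
  have h4 : hU.fromSpec '' {p} = {x} := Set.image_singleton.trans (congrArg _ hp)
  exact h4 ▸ h3

/-- a regular closed immersion is locally of finite presentation -/
theorem locallyOfFinitePresentation_of_isRegularClosedImmersion {Z X : Scheme.{u}} (i : Z ⟶ X)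
    (hi : Mor2.IsRegularClosedImmersion i) : LocallyOfFinitePresentation i := by
  have := hi.1
  rw [HasRingHomProperty.iff_exists_appLE (P := @LocallyOfFinitePresentation)
    (RingHom.finitePresentation_stableUnderComposition.stableUnderCompositionWithLocalizationAway
      RingHom.finitePresentation_holdsForLocalizationAway).left]
  intro z
  obtain ⟨U, hU, hz, rs, -, hrs⟩ := hi.2 z
  refine ⟨⟨U, hU⟩, ⟨i ⁻¹ᵁ U, hU.preimage i⟩, hz, le_rfl, ?_⟩
  rw [← Scheme.Hom.app_eq_appLE]
  refine RingHom.FinitePresentation.of_surjective _ (i.app_surjective U hU) ?_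
  rw [← Scheme.Hom.ker_apply i ⟨U, hU⟩, hrs]
  classical
  exact ⟨rs.toFinset, by simp [Ideal.ofList]⟩

theorem isClosed_asFiber_iff {X S : Scheme.{u}} (f : X ⟶ S) (x : X) :
    IsClosed ({f.asFiber x} : Set (f.fiber (f x))) ↔
      ∃ C : Set X, IsClosed C ∧ ∀ x', f x' = f x → (x' ∈ C ↔ x' = x) := by
  rw [(f.fiberι (f x)).isEmbedding.isInducing.isClosed_iff]
  refine exists_congr fun C => and_congr_right fun _ => ?_
  constructor
  · intro h x' hx'
    have h1 : x' ∈ Set.range (f.fiberι (f x)) := by rw [f.range_fiberι]; exact hx'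
    obtain ⟨z, rfl⟩ := h1
    have h2 : z ∈ (f.fiberι (f x)) ⁻¹' C ↔ z ∈ ({f.asFiber x} : Set (f.fiber (f x))) := by rw [h]
    rw [Set.mem_preimage, Set.mem_singleton_iff] at h2
    rw [h2]
    constructor
    · intro h3
      rw [h3, f.fiberι_asFiber]
    · intro h3
      apply (f.fiberι (f x)).isEmbedding.injective
      rw [h3, f.fiberι_asFiber]
  · intro h
    ext z
    rw [Set.mem_preimage, Set.mem_singleton_iff]
    have h1 : f (f.fiberι (f x) z) = f x := by
      have : f.fiberι (f x) z ∈ Set.range (f.fiberι (f x)) := ⟨z, rfl⟩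
      rw [f.range_fiberι] at this
      exact this
    rw [h _ h1]
    constructor
    · intro h3
      apply (f.fiberι (f x)).isEmbedding.injective
      rw [h3, f.fiberι_asFiber]
    · intro h3
      rw [h3, f.fiberι_asFiber]

theorem isOpen_asFiber_iff {X S : Scheme.{u}} (f : X ⟶ S) (x : X) :
    IsOpen ({f.asFiber x} : Set (f.fiber (f x))) ↔
      ∃ C : Set X, IsOpen C ∧ ∀ x', f x' = f x → (x' ∈ C ↔ x' = x) := by
  rw [(f.fiberι (f x)).isEmbedding.isInducing.isOpen_iff]
  refine exists_congr fun C => and_congr_right fun _ => ?_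
  constructor
  · intro h x' hx'
    have h1 : x' ∈ Set.range (f.fiberι (f x)) := by rw [f.range_fiberι]; exact hx'
    obtain ⟨z, rfl⟩ := h1
    have h2 : z ∈ (f.fiberι (f x)) ⁻¹' C ↔ z ∈ ({f.asFiber x} : Set (f.fiber (f x))) := by rw [h]
    rw [Set.mem_preimage, Set.mem_singleton_iff] at h2
    rw [h2]
    constructor
    · intro h3
      rw [h3, f.fiberι_asFiber]
    · intro h3
      apply (f.fiberι (f x)).isEmbedding.injective
      rw [h3, f.fiberι_asFiber]
  · intro h
    ext z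
    rw [Set.mem_preimage, Set.mem_singleton_iff]
    have h1 : f (f.fiberι (f x) z) = f x := by
      have : f.fiberι (f x) z ∈ Set.range (f.fiberι (f x)) := ⟨z, rfl⟩
      rw [f.range_fiberι] at this
      exact this
    rw [h _ h1]
    constructor
    · intro h3
      apply (f.fiberι (f x)).isEmbedding.injective
      rw [h3, f.fiberι_asFiber]
    · intro h3
      rw [h3, f.fiberι_asFiber]

/-- A slice whose fibre ring at `z` is zero-dimensional is quasi-finite at `z` when the point is closed in the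
ambient fibre. -/
theorem quasiFiniteAt_of_slice {X S Z : Scheme.{u}} (f : X ⟶ S) (ι : Z ⟶ X)
    (hι : Function.Injective ι) (z : Z) (hcl : IsClosed ({f.asFiber (ι z)} : Set (f.fiber (f (ι z)))))
    [LocallyOfFiniteType (ι ≫ f)] (hdim : ringKrullDim (CInt.fiberStalk (ι ≫ f) z) = 0) :
    (ι ≫ f).QuasiFiniteAt z := by
  rw [Scheme.Hom.quasiFiniteAt_iff_isOpen_singleton_asFiber]
  have h2 : LocallyOfFiniteType ((ι ≫ f).fiberToSpecResidueField ((ι ≫ f) z)) :=
    inferInstanceAs (LocallyOfFiniteType (pullback.snd _ _))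
  have : IsLocallyNoetherian ((ι ≫ f).fiber ((ι ≫ f) z)) :=
    LocallyOfFiniteType.isLocallyNoetherian ((ι ≫ f).fiberToSpecResidueField _)
  apply isOpen_singleton_of_dim_zero _ _ hdim.le
  rw [isClosed_asFiber_iff] at hcl ⊢
  obtain ⟨C, hC, h⟩ := hcl
  refine ⟨ι ⁻¹' C, hC.preimage ι.continuous, fun z' hz' => ?_⟩
  rw [Set.mem_preimage, h (ι z') hz', hι.eq_iff]

theorem exists_quasiFinite_shrink {X S Z : Scheme.{u}} (f : X ⟶ S) (U : X.Opens)
    (j : Z ⟶ (U : Scheme.{u})) (hj : Mor2.IsRegularClosedImmersion j) (z : Z)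
    (hcl : IsClosed ({f.asFiber (U.ι (j z))} : Set (f.fiber (f (U.ι (j z))))))
    (hfl : Flat (j ≫ U.ι ≫ f)) (hlfp : LocallyOfFinitePresentation (j ≫ U.ι ≫ f))
    (hdim : ringKrullDim (CInt.fiberStalk (j ≫ U.ι ≫ f) z) = 0) :
    ∃ (V : X.Opens) (Y : Scheme.{u}) (i : Y ⟶ (V : Scheme.{u})),
      Mor2.IsRegularClosedImmersion i ∧ U.ι (j z) ∈ Set.range ⇑(i ≫ V.ι) ∧
      Flat (i ≫ V.ι ≫ f) ∧ LocallyOfFinitePresentation (i ≫ V.ι ≫ f) ∧
      LocallyQuasiFinite (i ≫ V.ι ≫ f) ∧
      ∀ y : Y, f (V.ι (i y)) = f (U.ι (j z)) → V.ι (i y) = U.ι (j z) := by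
  have := hj.1
  have hlft : LocallyOfFiniteType (j ≫ U.ι ≫ f) := inferInstance
  have hassoc : (j ≫ U.ι) ≫ f = j ≫ U.ι ≫ f := Category.assoc _ _ _
  have hqf : (j ≫ U.ι ≫ f).QuasiFiniteAt z := by
    have h1 : LocallyOfFiniteType ((j ≫ U.ι) ≫ f) := by rw [hassoc]; exact hlft
    have h2 := quasiFiniteAt_of_slice f (j ≫ U.ι)
      (U.ι.isEmbedding.injective.comp j.isEmbedding.injective) z hcl (by rw [hassoc]; exact hdim)
    rwa [hassoc] at h2
  have hop := (Scheme.Hom.quasiFiniteAt_iff_isOpen_singleton_asFiber.mp hqf)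
  rw [isOpen_asFiber_iff] at hop
  obtain ⟨W₂, hW₂, hW₂'⟩ := hop
  let W : Z.Opens := (j ≫ U.ι ≫ f).quasiFiniteLocus ⊓ ⟨W₂, hW₂⟩
  have hzW : z ∈ W := ⟨hqf, (hW₂' z rfl).mpr rfl⟩
  obtain ⟨V₀, hV₀, hV₀'⟩ := j.isEmbedding.isInducing.isOpen_iff.1 W.2
  obtain ⟨V₁, hV₁, hV₁'⟩ := U.ι.isEmbedding.isInducing.isOpen_iff.1 hV₀
  let V : X.Opens := ⟨V₁, hV₁⟩ ⊓ U
  have hVU : V ≤ U := inf_le_right
  let g : (V : Scheme.{u}) ⟶ (U : Scheme.{u}) := X.homOfLE hVU
  have hgι : g ≫ U.ι = V.ι := X.homOfLE_ι hVU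
  have hzV₁ : U.ι (j z) ∈ V₁ := by
    have h2 : j z ∈ V₀ := by
      change z ∈ j ⁻¹' V₀
      rw [hV₀']; exact hzW
    rw [← hV₁'] at h2
    exact h2
  have hzV : U.ι (j z) ∈ V := ⟨hzV₁, (j z).2⟩
  obtain ⟨v, hv⟩ : ∃ v : (V : Scheme.{u}), V.ι v = U.ι (j z) := by
    have : U.ι (j z) ∈ Set.range V.ι := by rw [V.range_ι]; exact hzV
    exact this
  have hgv : g v = j z := by
    apply U.ι.isEmbedding.injective
    rw [← hv, ← hgι]
    rfl
  obtain ⟨y, hy1, hy2⟩ := Scheme.Pullback.exists_preimage_pullback (f := g) (g := j) v z hgv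
  have hcond : pullback.fst g j ≫ V.ι ≫ f = pullback.snd g j ≫ j ≫ U.ι ≫ f := by
    rw [← hgι, Category.assoc, pullback.condition_assoc]
  have hmemW : ∀ y' : ↥(pullback g j), pullback.snd g j y' ∈ W := by
    intro y'
    have h1 : pullback.snd g j y' ∈ j ⁻¹' V₀ := by
      change j (pullback.snd g j y') ∈ V₀
      rw [← hV₁']
      change U.ι (j (pullback.snd g j y')) ∈ V₁
      have h2 : U.ι (j (pullback.snd g j y')) = V.ι (pullback.fst g j y') := by
        have h3 : (pullback.snd g j ≫ j ≫ U.ι) = pullback.fst g j ≫ V.ι := by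
          rw [← hgι, pullback.condition_assoc]
        exact congr($(h3) y')
      rw [h2]
      exact (pullback.fst g j y').2.1
    rw [hV₀'] at h1
    exact h1
  refine ⟨V, pullback g j, pullback.fst g j, Divis.RegImm.isRegularClosedImmersion_fst g j hj,
    ⟨y, ?_⟩, ?_, ?_, ?_, ?_⟩
  · rw [Scheme.Hom.comp_apply, hy1, hv]
  · rw [hcond]; infer_instance
  · rw [hcond]; infer_instance
  · rw [hcond, ← Scheme.Hom.quasiFiniteLocus_eq_top_iff, Scheme.Hom.quasiFiniteLocus_comp]
    ext y'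
    simp only [TopologicalSpace.Opens.coe_top, Set.mem_univ, iff_true]
    exact (hmemW y').1
  · intro y' hy'
    have h2 : V.ι (pullback.fst g j y') = U.ι (j (pullback.snd g j y')) := by
      have h3 : (pullback.snd g j ≫ j ≫ U.ι) = pullback.fst g j ≫ V.ι := by
        rw [← hgι, pullback.condition_assoc]
      exact congr($(h3) y').symm
    rw [h2] at hy' ⊢
    rw [(hW₂' (pullback.snd g j y') hy').mp (hmemW y').2]

end Groth.Agent.Flat2D.SliceQF
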