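import Groth.Agent.Flat2D.SliceAway
import Mathlib.RingTheory.Regular.RegularSequence
import Mathlib.RingTheory.Ideal.Quotient.Operations
import Mathlib.RingTheory.Regular.Flat
import Mathlib.RingTheory.RingHom.FinitePresentation

/-!
# Slicing by a sequence which is regular on the fibre (iterating Stacks 056Y)
-/

set_option autoImplicit false
universe u

namespace Groth.Agent.Flat2D.SliceSeq

open IsLocalRing RingTheory.Sequence

section Quot

variable {A Ag Aq : Type u} [CommRing A] [CommRing Ag] [CommRing Aq] [Algebra A Ag] [Algebra A Aq]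

/-- The quotient of the local ring by an element is the local ring of the quotient. -/
theorem isLocalization_quotient (q : Ideal A) [q.IsPrime] [IsLocalization.AtPrime Aq q]
    (g : A) [IsLocalization.Away g Ag] [Algebra Ag Aq] [IsScalarTower A Ag Aq]
    (h : A) [IsLocalRing (Aq ⧸ Ideal.span {algebraMap A Aq h})]
    [Algebra (Ag ⧸ Ideal.span {algebraMap A Ag h}) (Aq ⧸ Ideal.span {algebraMap A Aq h})]
    (hcomp : ∀ a : Ag, algebraMap (Ag ⧸ Ideal.span {algebraMap A Ag h})
      (Aq ⧸ Ideal.span {algebraMap A Aq h}) (Ideal.Quotient.mk _ a) =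
      Ideal.Quotient.mk _ (algebraMap Ag Aq a)) :
    IsLocalization.AtPrime (Aq ⧸ Ideal.span {algebraMap A Aq h})
      ((maximalIdeal (Aq ⧸ Ideal.span {algebraMap A Aq h})).comap
        (algebraMap (Ag ⧸ Ideal.span {algebraMap A Ag h}) (Aq ⧸ Ideal.span {algebraMap A Aq h}))) := by
  have hu : ∀ s : A, s ∉ q → IsUnit (algebraMap A Aq s) := fun s hs =>
    IsLocalization.map_units Aq (⟨s, hs⟩ : q.primeCompl)
  have hcomp' : ∀ a : A, algebraMap (Ag ⧸ Ideal.span {algebraMap A Ag h})
      (Aq ⧸ Ideal.span {algebraMap A Aq h}) (Ideal.Quotient.mk _ (algebraMap A Ag a)) =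
      Ideal.Quotient.mk _ (algebraMap A Aq a) := fun a => by
    rw [hcomp, ← IsScalarTower.algebraMap_apply A Ag Aq]
  have hmem : ∀ s : A, s ∉ q → Ideal.Quotient.mk (Ideal.span {algebraMap A Ag h}) (algebraMap A Ag s) ∈
      ((maximalIdeal (Aq ⧸ Ideal.span {algebraMap A Aq h})).comap
        (algebraMap (Ag ⧸ Ideal.span {algebraMap A Ag h})
          (Aq ⧸ Ideal.span {algebraMap A Aq h}))).primeCompl := by
    intro s hs h1
    rw [SetLike.mem_coe, Ideal.mem_comap, hcomp'] at h1
    exact (mem_maximalIdeal _).mp h1 ((hu s hs).map _)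
  refine (isLocalization_iff _ _).mpr ⟨?_, ?_, ?_⟩
  · rintro ⟨y, hy⟩
    by_contra hny
    exact hy ((mem_maximalIdeal _).mpr hny)
  · intro z
    obtain ⟨z, rfl⟩ := Ideal.Quotient.mk_surjective z
    obtain ⟨⟨x, s⟩, hx⟩ := IsLocalization.surj q.primeCompl z
    refine ⟨⟨Ideal.Quotient.mk _ (algebraMap A Ag x), ⟨_, hmem s.1 s.2⟩⟩, ?_⟩
    change _ * algebraMap _ _ (Ideal.Quotient.mk _ (algebraMap A Ag s.1)) = _
    rw [hcomp', hcomp', ← map_mul, hx]
  · intro x y hxy
    obtain ⟨x, rfl⟩ := Ideal.Quotient.mk_surjective x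
    obtain ⟨y, rfl⟩ := Ideal.Quotient.mk_surjective y
    rw [hcomp, hcomp, Ideal.Quotient.eq, ← map_sub] at hxy
    obtain ⟨⟨a, s⟩, ha⟩ := IsLocalization.surj (Submonoid.powers g) (x - y)
    obtain ⟨b, hb⟩ := Ideal.mem_span_singleton'.mp hxy
    obtain ⟨⟨c, t⟩, hc⟩ := IsLocalization.surj q.primeCompl b
    have h1 : algebraMap A Aq (t.1 * a) = algebraMap A Aq (h * s.1 * c) := by
      have h2 : algebraMap Ag Aq (x - y) * algebraMap A Aq s.1 = algebraMap A Aq a := by
        rw [IsScalarTower.algebraMap_apply A Ag Aq, ← map_mul, ha,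
          ← IsScalarTower.algebraMap_apply A Ag Aq]
      rw [map_mul, ← h2, ← hb, map_mul, map_mul, ← hc]
      ring
    obtain ⟨v, hv⟩ := (IsLocalization.eq_iff_exists q.primeCompl Aq).mp h1
    have h3 : v.1 * t.1 ∉ q := fun hh => (Ideal.IsPrime.mem_or_mem ‹_› hh).elim v.2 t.2
    refine ⟨⟨_, hmem _ h3⟩, ?_⟩
    change Ideal.Quotient.mk _ (algebraMap A Ag (v.1 * t.1)) * _ =
      Ideal.Quotient.mk _ (algebraMap A Ag (v.1 * t.1)) * _
    rw [← map_mul, ← map_mul, Ideal.Quotient.eq, ← mul_sub]
    have hsu : IsUnit (algebraMap A Ag s.1) := IsLocalization.map_units Ag s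
    rw [← Ideal.unit_mul_mem_iff_mem _ hsu]
    have h4 : algebraMap A Ag s.1 * (algebraMap A Ag (v.1 * t.1) * (x - y)) =
        algebraMap A Ag (v.1 * t.1 * a) := by
      rw [map_mul _ (v.1 * t.1) a, ← ha]
      ring
    rw [h4, show v.1 * t.1 * a = v.1 * (h * s.1 * c) by rw [← hv]; ring, map_mul, map_mul, map_mul]
    exact Ideal.mul_mem_left _ _ (Ideal.mul_mem_right _ _ (Ideal.mul_mem_right _ _
      (Ideal.mem_span_singleton_self _)))

end Quot


section Fib

open scoped Pointwise

/-- `(B/I)/h ≃ (B/h)/I` as modules over the base ring. -/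
noncomputable def quotSwap {A B : Type u} [CommRing A] [CommRing B] [Algebra A B] (I : Ideal B) (h : A) :
    QuotSMulTop h (B ⧸ I) ≃ₗ[A]
      (B ⧸ Ideal.span {algebraMap A B h}) ⧸ I.map (Ideal.Quotient.mk (Ideal.span {algebraMap A B h})) := by
  let J : Ideal B := Ideal.span {algebraMap A B h}
  have hJ : (Ideal.map (Ideal.Quotient.mk I) J).restrictScalars A =
      (h • (⊤ : Submodule A (B ⧸ I))) := by
    ext x
    rw [Submodule.restrictScalars_mem, Ideal.map_span, Set.image_singleton,
      Submodule.mem_smul_pointwise_iff_exists]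
    rw [Ideal.mem_span_singleton']
    constructor
    · rintro ⟨a, rfl⟩
      refine ⟨a, trivial, ?_⟩
      rw [Algebra.smul_def, mul_comm]
      rfl
    · rintro ⟨a, -, rfl⟩
      refine ⟨a, ?_⟩
      rw [Algebra.smul_def, mul_comm]
      rfl
  exact (Submodule.quotEquivOfEq _ _ hJ.symm).trans
    ((Submodule.Quotient.restrictScalarsEquiv A (Ideal.map (Ideal.Quotient.mk I) J)).trans
      (DoubleQuot.quotQuotEquivCommₐ A I J).toLinearEquiv)

/-- `B/hB` as a module over the base ring. -/
noncomputable def quotEquiv {A B : Type u} [CommRing A] [CommRing B] [Algebra A B] (h : A) :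
    QuotSMulTop h B ≃ₗ[A] B ⧸ Ideal.span {algebraMap A B h} := by
  have hJ : (Ideal.span {algebraMap A B h}).restrictScalars A = (h • (⊤ : Submodule A B)) := by
    ext x
    rw [Submodule.restrictScalars_mem, Submodule.mem_smul_pointwise_iff_exists,
      Ideal.mem_span_singleton']
    constructor
    · rintro ⟨a, rfl⟩
      exact ⟨a, trivial, by rw [Algebra.smul_def, mul_comm]⟩
    · rintro ⟨a, -, rfl⟩
      exact ⟨a, by rw [Algebra.smul_def, mul_comm]⟩
  exact (Submodule.quotEquivOfEq _ _ hJ.symm).trans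
    (Submodule.Quotient.restrictScalarsEquiv A _)

end Fib

section FlatQuot

open TensorProduct

theorem flat_quot {A B : Type u} [CommRing A] [CommRing B] [Algebra A B] [Module.Flat A B]
    (I : Ideal A) (J : Ideal B) (hJ : J = I.map (algebraMap A B)) [Algebra (A ⧸ I) (B ⧸ J)]
    [IsScalarTower A (A ⧸ I) (B ⧸ J)] : Module.Flat (A ⧸ I) (B ⧸ J) := by
  subst hJ
  let e1 : ((A ⧸ I) ⊗[A] B) ≃ₗ[A] B ⧸ (I • (⊤ : Submodule A B)) :=
    TensorProduct.quotTensorEquivQuotSMul B I
  let e2 : (B ⧸ (I • (⊤ : Submodule A B))) ≃ₗ[A] B ⧸ (I.map (algebraMap A B)) :=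
    (Submodule.quotEquivOfEq _ _ (Ideal.smul_top_eq_map I)).trans
      (Submodule.Quotient.restrictScalarsEquiv A _)
  exact Module.Flat.of_linearEquiv
    ((e1.trans e2).extendScalarsOfSurjective Ideal.Quotient.mk_surjective).symm

/-- Flatness of a quotient over the base is stable under flat base change. -/
theorem flat_quot_of_flat {R A B : Type u} [CommRing R] [CommRing A] [CommRing B] [Algebra R A]
    [Algebra A B] [Algebra R B] [IsScalarTower R A B] [Module.Flat A B]
    (I : Ideal A) [Module.Flat R (A ⧸ I)] (J : Ideal B) (hJ : J = I.map (algebraMap A B)) :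
    Module.Flat R (B ⧸ J) := by
  letI : Algebra (A ⧸ I) (B ⧸ J) :=
    (Ideal.quotientMap J (algebraMap A B) (by rw [hJ]; exact Ideal.le_comap_map)).toAlgebra
  haveI : IsScalarTower A (A ⧸ I) (B ⧸ J) := IsScalarTower.of_algebraMap_eq fun a => rfl
  haveI := flat_quot I J hJ
  haveI : IsScalarTower R (A ⧸ I) (B ⧸ J) := IsScalarTower.of_algebraMap_eq fun r => by
    rw [IsScalarTower.algebraMap_apply R A (A ⧸ I), ← IsScalarTower.algebraMap_apply A (A ⧸ I) (B ⧸ J),
      ← IsScalarTower.algebraMap_apply R A (B ⧸ J)]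
  exact Module.Flat.trans R (A ⧸ I) (B ⧸ J)

end FlatQuot

section Main

variable {R Rp : Type u} [CommRing R] [CommRing Rp] [IsLocalRing Rp] [Algebra R Rp]

/-- The iterated form of Stacks 056Y: if `rs` is a sequence in `q` which is weakly regular on the fibre
`A_q / p A_q`, and `A_q` is flat over `R_p`, then after inverting one `g ∉ q` the sequence is weakly regular and the
quotient by it is flat over the base; `B` is any flat `A`-algebra in which `g` is invertible. -/
theorem exists_away_list (p : Ideal R) [p.IsPrime] [IsLocalization.AtPrime Rp p] (n : ℕ) :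
    ∀ (A Aq : Type u) [CommRing A] [CommRing Aq] [IsLocalRing Aq] [Algebra R A]
      [Algebra.FinitePresentation R A] [Algebra A Aq] [Algebra Rp Aq] [Algebra R Aq]
      [IsScalarTower R Rp Aq] [IsScalarTower R A Aq] [IsLocalHom (algebraMap Rp Aq)]
      (q : Ideal A) [q.IsPrime] (_ : q.comap (algebraMap R A) = p)
      [IsLocalization.AtPrime Aq q] [Module.Flat Rp Aq] (rs : List A) (_ : rs.length = n)
      (_ : ∀ r ∈ rs, r ∈ q)
      (_ : IsWeaklyRegular (Aq ⧸ (maximalIdeal Rp).map (algebraMap Rp Aq)) rs),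
      ∃ g : A, g ∉ q ∧ ∀ (B : Type u) [CommRing B] [Algebra A B] [Algebra R B] [IsScalarTower R A B]
        [Module.Flat A B], IsUnit (algebraMap A B g) →
          IsWeaklyRegular B rs ∧ Module.Flat R (B ⧸ (Ideal.ofList rs).map (algebraMap A B)) := by
  induction n with
  | zero =>
    intro A Aq _ _ _ _ _ _ _ _ _ _ _ q _ hpq _ _ rs hlen hq hreg
    obtain rfl := List.length_eq_zero_iff.mp hlen
    haveI : Module.Flat R Rp := IsLocalization.flat Rp p.primeCompl
    haveI : Module.Flat R Aq := Module.Flat.trans R Rp Aq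
    obtain ⟨g, hg, H⟩ := SliceAway.exists_flat_away (R := R) (A := A) (Aq := Aq) q
    refine ⟨g, hg, ?_⟩
    intro B _ _ _ _ _ hu
    refine ⟨IsWeaklyRegular.nil _ _, ?_⟩
    haveI := H (Localization.Away g)
    letI : Algebra (Localization.Away g) B := (IsLocalization.Away.lift g hu).toAlgebra
    haveI : IsScalarTower A (Localization.Away g) B := IsScalarTower.of_algebraMap_eq fun a =>
      (IsLocalization.Away.lift_eq g hu a).symm
    haveI : IsScalarTower R (Localization.Away g) B := IsScalarTower.of_algebraMap_eq fun r => by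
      rw [IsScalarTower.algebraMap_apply R A (Localization.Away g),
        ← IsScalarTower.algebraMap_apply A (Localization.Away g) B,
        ← IsScalarTower.algebraMap_apply R A B]
    haveI : Module.Flat (Localization.Away g) B :=
      (Module.flat_iff_of_isLocalization (Localization.Away g) (Submonoid.powers g) B).mpr inferInstance
    haveI : Module.Flat R B := Module.Flat.trans R (Localization.Away g) B
    have h0 : (Ideal.ofList ([] : List A)).map (algebraMap A B) = ⊥ := by
      simp
    rw [h0]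
    exact Module.Flat.of_linearEquiv (AlgEquiv.quotientBot R B).toLinearEquiv
  | succ n ih =>
    intro A Aq _ _ _ _ _ _ _ _ _ _ _ q _ hpq _ _ rs hlen hq hreg
    obtain ⟨h, t, rfl⟩ : ∃ h t, rs = h :: t := by
      cases rs with
      | nil => simp at hlen
      | cons h t => exact ⟨h, t, rfl⟩
    have hhq : h ∈ q := hq h (List.mem_cons_self)
    rw [isWeaklyRegular_cons_iff] at hreg
    obtain ⟨hreg1, hreg2⟩ := hreg
    obtain ⟨g₁, hg₁, H₁⟩ := SliceAway.exists_away (Rp := Rp) (Aq := Aq) p q hpq h hhq (by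
      intro b hb
      rw [← Ideal.Quotient.eq_zero_iff_mem] at hb ⊢
      apply hreg1
      change h • _ = h • (0 : _ ⧸ _)
      rw [smul_zero, Algebra.smul_def]
      exact hb)
    obtain ⟨H₁a, H₁b⟩ := H₁ (Localization.Away g₁)
    -- the local ring
    let A₁ := Localization.Away g₁
    have hu1 : IsUnit (algebraMap A Aq g₁) := IsLocalization.map_units Aq (⟨g₁, hg₁⟩ : q.primeCompl)
    letI : Algebra A₁ Aq := (IsLocalization.Away.lift g₁ hu1).toAlgebra
    haveI : IsScalarTower A A₁ Aq := IsScalarTower.of_algebraMap_eq fun a =>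
      (IsLocalization.Away.lift_eq g₁ hu1 a).symm
    have hmq : algebraMap A Aq h ∈ maximalIdeal Aq := by
      rw [← IsLocalization.AtPrime.map_eq_maximalIdeal q Aq]
      exact Ideal.mem_map_of_mem _ hhq
    haveI : Nontrivial (Aq ⧸ Ideal.span {algebraMap A Aq h}) := by
      apply Ideal.Quotient.nontrivial_iff.mpr
      intro htop
      rw [Ideal.span_singleton_eq_top] at htop
      exact (mem_maximalIdeal _).mp hmq htop
    haveI : IsLocalRing (Aq ⧸ Ideal.span {algebraMap A Aq h}) :=
      IsLocalRing.of_surjective' (Ideal.Quotient.mk _) Ideal.Quotient.mk_surjective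
    letI : Algebra (A₁ ⧸ Ideal.span {algebraMap A A₁ h}) (Aq ⧸ Ideal.span {algebraMap A Aq h}) :=
      (Ideal.quotientMap _ (algebraMap A₁ Aq) (by
        rw [Ideal.span_singleton_le_iff_mem, Ideal.mem_comap,
          ← IsScalarTower.algebraMap_apply A A₁ Aq]
        exact Ideal.mem_span_singleton_self _)).toAlgebra
    have hcomp : ∀ a : A₁, algebraMap (A₁ ⧸ Ideal.span {algebraMap A A₁ h})
      (Aq ⧸ Ideal.span {algebraMap A Aq h}) (Ideal.Quotient.mk _ a) =
      Ideal.Quotient.mk _ (algebraMap A₁ Aq a) := fun a => rfl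
    have hcomp' : ∀ a : A, algebraMap (A₁ ⧸ Ideal.span {algebraMap A A₁ h})
      (Aq ⧸ Ideal.span {algebraMap A Aq h}) (algebraMap A _ a) =
      algebraMap A _ a := fun a => by
        have := hcomp (algebraMap A A₁ a)
        rw [← IsScalarTower.algebraMap_apply A A₁ Aq] at this
        exact this
    haveI := isLocalization_quotient (Ag := A₁) (Aq := Aq) q g₁ h hcomp
    haveI : IsScalarTower A (A₁ ⧸ Ideal.span {algebraMap A A₁ h})
      (Aq ⧸ Ideal.span {algebraMap A Aq h}) := IsScalarTower.of_algebraMap_eq fun a => (hcomp' a).symm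
    haveI : IsScalarTower R (A₁ ⧸ Ideal.span {algebraMap A A₁ h})
      (Aq ⧸ Ideal.span {algebraMap A Aq h}) := IsScalarTower.of_algebraMap_eq fun r =>
        (IsScalarTower.algebraMap_apply R A (Aq ⧸ Ideal.span {algebraMap A Aq h}) r).trans
          ((hcomp' _).symm.trans (congrArg _ (IsScalarTower.algebraMap_apply R A
            (A₁ ⧸ Ideal.span {algebraMap A A₁ h}) r).symm))
    haveI : IsScalarTower R Rp (Aq ⧸ Ideal.span {algebraMap A Aq h}) := inferInstance
    haveI : IsLocalHom (Ideal.Quotient.mk (Ideal.span {algebraMap A Aq h})) :=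
      IsLocalHom.of_surjective _ Ideal.Quotient.mk_surjective
    haveI : IsLocalHom (algebraMap Rp (Aq ⧸ Ideal.span {algebraMap A Aq h})) := by
      have h1 : algebraMap Rp (Aq ⧸ Ideal.span {algebraMap A Aq h}) =
        (Ideal.Quotient.mk _).comp (algebraMap Rp Aq) := rfl
      rw [h1]
      infer_instance
    haveI : Algebra.FinitePresentation R A₁ :=
      haveI : Algebra.FinitePresentation A A₁ := IsLocalization.Away.finitePresentation g₁
      Algebra.FinitePresentation.trans R A A₁
    haveI : Algebra.FinitePresentation R (A₁ ⧸ Ideal.span {algebraMap A A₁ h}) :=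
      Algebra.FinitePresentation.quotient ⟨{algebraMap A A₁ h}, by simp⟩
    haveI : Module.Flat R (Aq ⧸ Ideal.span {algebraMap A Aq h}) :=
      haveI : Module.Flat (A₁ ⧸ Ideal.span {algebraMap A A₁ h}) (Aq ⧸ Ideal.span {algebraMap A Aq h}) :=
        IsLocalization.flat _ ((maximalIdeal (Aq ⧸ Ideal.span {algebraMap A Aq h})).comap
          (algebraMap (A₁ ⧸ Ideal.span {algebraMap A A₁ h})
          (Aq ⧸ Ideal.span {algebraMap A Aq h}))).primeCompl
      Module.Flat.trans R (A₁ ⧸ Ideal.span {algebraMap A A₁ h}) _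
    haveI : Module.Flat Rp (Aq ⧸ Ideal.span {algebraMap A Aq h}) :=
      (Module.flat_iff_of_isLocalization Rp p.primeCompl _).mpr inferInstance
    obtain ⟨g₂, hg₂, H₂⟩ := ih (A₁ ⧸ Ideal.span {algebraMap A A₁ h})
      (Aq ⧸ Ideal.span {algebraMap A Aq h})
      ((maximalIdeal (Aq ⧸ Ideal.span {algebraMap A Aq h})).comap (algebraMap _ _)) (by
        rw [Ideal.comap_comap, ← IsScalarTower.algebraMap_eq,
          IsScalarTower.algebraMap_eq R Rp (Aq ⧸ Ideal.span {algebraMap A Aq h}),
          ← Ideal.comap_comap, maximalIdeal_comap]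
        exact IsLocalization.AtPrime.under_maximalIdeal Rp p)
      (t.map (algebraMap A _)) (by simpa using hlen) (by
        intro r hr
        obtain ⟨r, hr', rfl⟩ := List.mem_map.mp hr
        have h1 : algebraMap A Aq r ∈ maximalIdeal Aq := by
          rw [← IsLocalization.AtPrime.map_eq_maximalIdeal q Aq]
          exact Ideal.mem_map_of_mem _ (hq r (List.mem_cons_of_mem _ hr'))
        rw [Ideal.mem_comap, hcomp']
        change Ideal.Quotient.mk _ (algebraMap A Aq r) ∈ _
        exact (map_mem_nonunits_iff _ _).mpr h1) (by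
        rw [isWeaklyRegular_map_algebraMap_iff]
        have h2 : (maximalIdeal Rp).map (algebraMap Rp (Aq ⧸ Ideal.span {algebraMap A Aq h})) =
            ((maximalIdeal Rp).map (algebraMap Rp Aq)).map
              (Ideal.Quotient.mk (Ideal.span {algebraMap A Aq h})) := by
          rw [Ideal.map_map]
          rfl
        rw [h2]
        exact ((quotSwap ((maximalIdeal Rp).map (algebraMap Rp Aq)) h).isWeaklyRegular_congr t).mp
          hreg2)
    obtain ⟨x₂, rfl⟩ := Ideal.Quotient.mk_surjective g₂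
    obtain ⟨⟨a, s⟩, hs⟩ := IsLocalization.surj (Submonoid.powers g₁) x₂
    have hsu : IsUnit (algebraMap A A₁ s.1) := IsLocalization.map_units A₁ s
    replace hs : x₂ * algebraMap A A₁ s.1 = algebraMap A A₁ a := hs
    have haq : a ∉ q := by
      intro ha
      apply hg₂
      have h1 : algebraMap A Aq a ∈ maximalIdeal Aq := by
        rw [← IsLocalization.AtPrime.map_eq_maximalIdeal q Aq]
        exact Ideal.mem_map_of_mem _ ha
      have h2 : algebraMap A₁ Aq x₂ ∈ maximalIdeal Aq := by
        have h3 : algebraMap A₁ Aq x₂ * algebraMap A₁ Aq (algebraMap A A₁ s.1) ∈ maximalIdeal Aq := by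
          rw [← map_mul, hs, ← IsScalarTower.algebraMap_apply A A₁ Aq]
          exact h1
        exact (Ideal.mul_unit_mem_iff_mem _ (hsu.map _)).mp h3
      rw [Ideal.mem_comap, hcomp]
      exact (map_mem_nonunits_iff _ _).mpr h2
    refine ⟨g₁ * a, fun hh => (Ideal.IsPrime.mem_or_mem ‹_› hh).elim hg₁ haq, ?_⟩
    intro B _ _ _ _ _ hu
    rw [map_mul, IsUnit.mul_iff] at hu
    obtain ⟨hub1, hub2⟩ := hu
    letI : Algebra A₁ B := (IsLocalization.Away.lift g₁ hub1).toAlgebra
    haveI : IsScalarTower A A₁ B := IsScalarTower.of_algebraMap_eq fun a =>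
      (IsLocalization.Away.lift_eq g₁ hub1 a).symm
    haveI : Module.Flat A₁ B :=
      (Module.flat_iff_of_isLocalization A₁ (Submonoid.powers g₁) B).mpr inferInstance
    have hspan : (Ideal.span {algebraMap A A₁ h}).map (algebraMap A₁ B) =
        Ideal.span {algebraMap A B h} := by
      rw [Ideal.map_span, Set.image_singleton, ← IsScalarTower.algebraMap_apply A A₁ B]
    letI : Algebra (A₁ ⧸ Ideal.span {algebraMap A A₁ h}) (B ⧸ Ideal.span {algebraMap A B h}) :=
      (Ideal.quotientMap _ (algebraMap A₁ B) (by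
        rw [← hspan]
        exact Ideal.le_comap_map)).toAlgebra
    have hcompB : ∀ a : A₁, algebraMap (A₁ ⧸ Ideal.span {algebraMap A A₁ h})
      (B ⧸ Ideal.span {algebraMap A B h}) (Ideal.Quotient.mk _ a) =
      Ideal.Quotient.mk _ (algebraMap A₁ B a) := fun a => rfl
    have hcompB' : ∀ a : A, algebraMap (A₁ ⧸ Ideal.span {algebraMap A A₁ h})
      (B ⧸ Ideal.span {algebraMap A B h}) (algebraMap A _ a) =
      algebraMap A _ a := fun a => by
        have := hcompB (algebraMap A A₁ a)
        rw [← IsScalarTower.algebraMap_apply A A₁ B] at this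
        exact this
    haveI : IsScalarTower A₁ (A₁ ⧸ Ideal.span {algebraMap A A₁ h})
      (B ⧸ Ideal.span {algebraMap A B h}) := by
      constructor
      intro x y z
      obtain ⟨y, rfl⟩ := Ideal.Quotient.mk_surjective y
      obtain ⟨z, rfl⟩ := Ideal.Quotient.mk_surjective z
      change Ideal.Quotient.mk _ (algebraMap A₁ B (x * y) * z) =
        Ideal.Quotient.mk _ (x • (algebraMap A₁ B y * z))
      rw [Algebra.smul_def, ← mul_assoc, ← map_mul (algebraMap A₁ B)]
    haveI : IsScalarTower A (A₁ ⧸ Ideal.span {algebraMap A A₁ h})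
      (B ⧸ Ideal.span {algebraMap A B h}) := IsScalarTower.of_algebraMap_eq fun a => (hcompB' a).symm
    haveI : IsScalarTower R (A₁ ⧸ Ideal.span {algebraMap A A₁ h})
      (B ⧸ Ideal.span {algebraMap A B h}) := IsScalarTower.of_algebraMap_eq fun r =>
        (IsScalarTower.algebraMap_apply R A (B ⧸ Ideal.span {algebraMap A B h}) r).trans
          ((hcompB' _).symm.trans (congrArg _ (IsScalarTower.algebraMap_apply R A
            (A₁ ⧸ Ideal.span {algebraMap A A₁ h}) r).symm))
    haveI := flat_quot (Ideal.span {algebraMap A A₁ h}) (Ideal.span {algebraMap A B h}) hspan.symm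
    obtain ⟨H₂a, H₂b⟩ := H₂ (B ⧸ Ideal.span {algebraMap A B h}) (by
      rw [hcompB]
      apply IsUnit.map
      have h3 : IsUnit (algebraMap A₁ B x₂ * algebraMap A₁ B (algebraMap A A₁ s.1)) := by
        rw [← map_mul, hs, ← IsScalarTower.algebraMap_apply A A₁ B]
        exact hub2
      exact isUnit_of_mul_isUnit_left h3)
    rw [isWeaklyRegular_map_algebraMap_iff] at H₂a
    refine ⟨(isWeaklyRegular_cons_iff _ _ _).mpr ⟨?_, ?_⟩, ?_⟩
    · have h4 : IsSMulRegular B (algebraMap A A₁ h) :=
        Module.Flat.isSMulRegular_of_nonZeroDivisors H₁a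
      intro x y hxy
      apply h4
      change algebraMap A A₁ h • x = algebraMap A A₁ h • y
      rw [algebraMap_smul, algebraMap_smul]
      exact hxy
    · exact ((quotEquiv h).isWeaklyRegular_congr t).mpr H₂a
    · have h5 : (Ideal.ofList (h :: t)).map (algebraMap A B) =
          Ideal.span {algebraMap A B h} ⊔ (Ideal.ofList t).map (algebraMap A B) := by
        rw [Ideal.ofList_cons, Ideal.map_sup, Ideal.map_span, Set.image_singleton]
      have h6 : (Ideal.ofList (t.map (algebraMap A (A₁ ⧸ Ideal.span {algebraMap A A₁ h})))).map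
          (algebraMap _ (B ⧸ Ideal.span {algebraMap A B h})) =
          ((Ideal.ofList t).map (algebraMap A B)).map
            (Ideal.Quotient.mk (Ideal.span {algebraMap A B h})) := by
        rw [← Ideal.map_ofList, Ideal.map_map, ← IsScalarTower.algebraMap_eq, Ideal.map_map]
        rfl
      rw [h5]
      rw [h6] at H₂b
      change Module.Flat R ((B ⧸ Ideal.span {algebraMap A B h}) ⧸
        ((Ideal.ofList t).map (algebraMap A B)).map
          (Ideal.Quotient.mkₐ R (Ideal.span {algebraMap A B h}))) at H₂b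
      exact Module.Flat.of_linearEquiv
        (DoubleQuot.quotQuotEquivQuotSupₐ R (Ideal.span {algebraMap A B h})
          ((Ideal.ofList t).map (algebraMap A B))).symm.toLinearEquiv

end Main

end Groth.Agent.Flat2D.SliceSeq
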