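import Groth.Agent.S1315
import Mathlib.AlgebraicGeometry.ZariskisMainTheorem

/-!
# Thickenings: closed immersions
-/

set_option autoImplicit false
universe u

open AlgebraicGeometry CategoryTheory Limits

namespace Groth.Agent.Flat2D.ThickImm

/-- Let `Y ⟶ Y'` be a thickening, `f'` locally of finite type and `f` its restriction. If `f` is a
closed immersion, then so is `f'`. -/
theorem isClosedImmersion_of_thickening {X X' Y Y' : Scheme.{u}} {iX : X ⟶ X'} {iY : Y ⟶ Y'}
    {f : X ⟶ Y} {f' : X' ⟶ Y'} (hY : MoreMor.IsThickening iY)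
    (hc : IsPullback iX f f' iY) [LocallyOfFiniteType f'] [IsClosedImmersion f] :
    IsClosedImmersion f' := by
  have ⟨hcl, hsurj⟩ := hY
  have hmono : Mono f' := (Groth.Agent.S1315.result iX iY f f' hY hc).mp inferInstance
  have hsX : Surjective iX := MorphismProperty.of_isPullback hc.flip hsurj
  have hu : UniversallyClosed (iX ≫ f') := by
    rw [hc.w]
    infer_instance
  have hu' : UniversallyClosed f' := UniversallyClosed.of_comp_surjective iX f'
  rw [IsClosedImmersion.iff_isProper_and_mono]
  exact ⟨{ }, hmono⟩

end Groth.Agent.Flat2D.ThickImm
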