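import Groth.Prelude.Def_MoreMor
import Mathlib.AlgebraicGeometry.Morphisms.ClosedImmersion
import Mathlib.AlgebraicGeometry.Morphisms.UniversallyInjective

/-!
# Thickenings: lifting reduced test schemes, universal injectivity
-/

set_option autoImplicit false
universe u

open AlgebraicGeometry CategoryTheory Limits

namespace Groth.Agent.Flat2D.ThickMono

/-- A morphism from a reduced scheme to the target of a thickening lifts through the thickening. -/
theorem exists_lift_of_isReduced {Y Y' T : Scheme.{u}} (i : Y ⟶ Y') [IsClosedImmersion i]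
    [Surjective i] [IsReduced T] (h : T ⟶ Y') : ∃ h₀ : T ⟶ Y, h₀ ≫ i = h := by
  have : IsIso (pullback.fst h i) := isIso_of_isClosedImmersion_of_surjective _
  refine ⟨inv (pullback.fst h i) ≫ pullback.snd h i, ?_⟩
  rw [Category.assoc, ← pullback.condition, IsIso.inv_hom_id_assoc]

/-- Universal injectivity can be tested after restriction to the base of a thickening. -/
theorem universallyInjective_of_thickening {X X' Y Y' : Scheme.{u}} {iX : X ⟶ X'} {iY : Y ⟶ Y'}
    {f : X ⟶ Y} {f' : X' ⟶ Y'} [IsClosedImmersion iY] [Surjective iY]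
    (hc : IsPullback iX f f' iY) [UniversallyInjective f] : UniversallyInjective f' := by
  have key0 : UniversallyInjective f ↔
      ∀ (K : Type u) [Field K], Function.Injective (fun g : Spec (.of K) ⟶ X ↦ g ≫ f) :=
    (tfae_universallyInjective f).out 0 1
  have hf := key0.mp inferInstance
  have key : UniversallyInjective f' ↔
      ∀ (K : Type u) [Field K], Function.Injective (fun g : Spec (.of K) ⟶ X' ↦ g ≫ f') :=
    (tfae_universallyInjective f').out 0 1
  rw [key]
  intro K _ g₁ g₂ hg
  dsimp at hg
  obtain ⟨h₀, hh₀⟩ := exists_lift_of_isReduced iY (g₁ ≫ f')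
  have e1 : hc.lift g₁ h₀ hh₀.symm = hc.lift g₂ h₀ (by rw [← hg, hh₀]) := by
    apply hf K
    dsimp
    rw [hc.lift_snd, hc.lift_snd]
  calc g₁ = hc.lift g₁ h₀ hh₀.symm ≫ iX := (hc.lift_fst _ _ _).symm
    _ = hc.lift g₂ h₀ (by rw [← hg, hh₀]) ≫ iX := by rw [e1]
    _ = g₂ := hc.lift_fst _ _ _

end Groth.Agent.Flat2D.ThickMono
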