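import Mathlib.AlgebraicGeometry.Morphisms.Flat
import Mathlib.AlgebraicGeometry.Morphisms.ClosedImmersion
import Groth.Prelude.Def_MoreMor

/-!
Reduction of statements about a thickening of the base to ring theory.
-/

set_option autoImplicit false
universe u

namespace Groth.Agent.Flat2D.ThickRed

open AlgebraicGeometry CategoryTheory Limits

/-- A pushout of commutative rings along a surjection: the opposite map is surjective and its kernel is
the extension of the kernel. -/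
lemma surjective_and_ker_of_isPushout {A A0 B B0 : CommRingCat.{u}} {a : A ⟶ A0} {φ : A ⟶ B}
    {φ0 : A0 ⟶ B0} {b : B ⟶ B0} (h : IsPushout φ a b φ0) (ha : Function.Surjective a.hom) :
    Function.Surjective b.hom ∧ RingHom.ker b.hom = (RingHom.ker a.hom).map φ.hom := by
  set J : Ideal B := (RingHom.ker a.hom).map φ.hom with hJ
  let q : B ⟶ CommRingCat.of (B ⧸ J) := CommRingCat.ofHom (Ideal.Quotient.mk J)
  have hq : RingHom.ker a.hom ≤ RingHom.ker (φ ≫ q).hom := by
    intro x hx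
    simp only [q, CommRingCat.hom_comp, CommRingCat.hom_ofHom, RingHom.mem_ker, RingHom.comp_apply,
      Ideal.Quotient.eq_zero_iff_mem]
    exact Ideal.mem_map_of_mem _ hx
  let p0 : A0 ⟶ CommRingCat.of (B ⧸ J) :=
    CommRingCat.ofHom (RingHom.liftOfSurjective a.hom ha ⟨(φ ≫ q).hom, hq⟩)
  have hp0 : a ≫ p0 = φ ≫ q := by
    ext x
    exact RingHom.liftOfRightInverse_comp_apply a.hom _ (Function.rightInverse_surjInv ha)
      ⟨(φ ≫ q).hom, hq⟩ x
  let u : B0 ⟶ CommRingCat.of (B ⧸ J) := h.desc q p0 hp0.symm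
  have hu : b ≫ u = q := h.inl_desc _ _ _
  have hle : J ≤ RingHom.ker b.hom := by
    rw [hJ, Ideal.map_le_iff_le_comap]
    intro x hx
    have := congr(($(h.w)).hom x)
    simp only [CommRingCat.hom_comp, RingHom.comp_apply] at this
    rw [Ideal.mem_comap, RingHom.mem_ker, this, RingHom.mem_ker.mp hx, map_zero]
  refine ⟨?_, le_antisymm ?_ hle⟩
  · let v : CommRingCat.of (B ⧸ J) ⟶ B0 := CommRingCat.ofHom (Ideal.Quotient.lift J b.hom hle)
    have hv : q ≫ v = b := by
      ext x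
      exact Ideal.Quotient.lift_mk J b.hom hle
    have hepi : Epi a := ConcreteCategory.epi_of_surjective a ha
    have huv : u ≫ v = 𝟙 _ := by
      apply h.hom_ext
      · rw [reassoc_of% hu, hv, Category.comp_id]
      · rw [← cancel_epi a]
        have h1 : φ0 ≫ u = p0 := h.inr_desc _ _ _
        rw [reassoc_of% h1, reassoc_of% hp0, hv, h.w, Category.comp_id]
    have hvs : Function.Surjective v.hom := by
      intro y
      refine ⟨u.hom y, ?_⟩
      have := congr(($huv).hom y)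
      simpa using this
    rw [← hv]
    intro y
    obtain ⟨z, rfl⟩ := hvs y
    obtain ⟨w, rfl⟩ := Ideal.Quotient.mk_surjective z
    exact ⟨w, by simp [q]⟩
  · intro x hx
    have := congr(($hu).hom x)
    simp only [CommRingCat.hom_comp, RingHom.comp_apply, RingHom.mem_ker.mp hx, map_zero] at this
    exact Ideal.Quotient.eq_zero_iff_mem.mp this.symm

variable {X X' Y Y' S S' : Scheme.{u}} {iX : X ⟶ X'} {iY : Y ⟶ Y'} {iS : S ⟶ S'}
    {f : X ⟶ Y} {f' : X' ⟶ Y'} {g : Y ⟶ S} {g' : Y' ⟶ S'}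

/-- The kernel of a finite order thickening on an affine open is nilpotent. -/
lemma isNilpotent_ker_app (hS : MoreMor.IsFiniteOrderThickening iS)
    {W : S'.Opens} (hW : IsAffineOpen W) : IsNilpotent (RingHom.ker (iS.app W).hom) := by
  have : IsClosedImmersion iS := hS.1.1
  obtain ⟨n, hn⟩ := hS.2
  refine ⟨n, ?_⟩
  have := congr(($hn).ideal ⟨W, hW⟩)
  rw [← Scheme.Hom.ker_apply iS ⟨W, hW⟩]
  simpa using this

/-- Sections over an affine open of the base change of a closed immersion. -/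
lemma app_of_isPullback [IsClosedImmersion iS] (hc : IsPullback iY g g' iS)
    {W : S'.Opens} (hW : IsAffineOpen W) {V : Y'.Opens} (hV : IsAffineOpen V) (e : V ≤ g' ⁻¹ᵁ W) :
    Function.Surjective (iS.app W).hom ∧ Function.Surjective (iY.app V).hom ∧
      RingHom.ker (iY.app V).hom = (RingHom.ker (iS.app W).hom).map (g'.appLE W V e).hom := by
  have hs : Function.Surjective (iS.app W).hom := iS.app_surjective W hW
  have hUY : iY ⁻¹ᵁ V = iY ⁻¹ᵁ V ⊓ g ⁻¹ᵁ (iS ⁻¹ᵁ W) := by
    rw [← Scheme.Hom.comp_preimage, ← hc.w, Scheme.Hom.comp_preimage]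
    exact (inf_eq_left.mpr (iY.preimage_mono e)).symm
  have h1 := isIso_pushoutSection_of_isAffineOpen hc (UT := iS ⁻¹ᵁ W) le_rfl e hUY hW
    (hW.preimage iS) hV
  have h2 := (isIso_pushoutSection_iff hc le_rfl e hUY).mp h1
  have h3 := surjective_and_ker_of_isPushout h2 (by
    simpa [Scheme.Hom.app_eq_appLE] using hs)
  refine ⟨hs, ?_, ?_⟩
  · simpa [Scheme.Hom.app_eq_appLE] using h3.1
  · simpa [Scheme.Hom.app_eq_appLE] using h3.2

/-- The upper square of a deformation situation is cartesian. -/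
lemma isPullback_top (hcX : IsPullback iX (f ≫ g) (f' ≫ g') iS) (hcY : IsPullback iY g g' iS)
    (w : iX ≫ f' = f ≫ iY) : IsPullback iX f f' iY :=
  IsPullback.of_bot hcX w hcY

/-- The ring theoretic data attached to a deformation situation over affine opens. `a : A → A0` is
`Γ(S', W) → Γ(S, W)`, and so on. -/
theorem deform_of_ringHom {P : MorphismProperty Scheme.{u}}
    {Q : ∀ {R T : Type u} [CommRing R] [CommRing T], (R →+* T) → Prop} [HasRingHomProperty P Q]
    (hQ : RingHom.StableUnderCompositionWithLocalizationAwaySource Q)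
    (H : ∀ (A A0 B B0 C C0 : Type u) [CommRing A] [CommRing A0] [CommRing B] [CommRing B0]
      [CommRing C] [CommRing C0] (a : A →+* A0) (b : B →+* B0) (c : C →+* C0) (φ : A →+* B)
      (ψ : B →+* C) (ψ0 : B0 →+* C0), Function.Surjective a → Function.Surjective b →
      Function.Surjective c → IsNilpotent (RingHom.ker a) →
      RingHom.ker b = (RingHom.ker a).map φ → RingHom.ker c = (RingHom.ker a).map (ψ.comp φ) →
      c.comp ψ = ψ0.comp b → (ψ.comp φ).Flat → Q ψ0 → Q ψ)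
    (hS : MoreMor.IsFiniteOrderThickening iS) (hcX : IsPullback iX (f ≫ g) (f' ≫ g') iS)
    (hcY : IsPullback iY g g' iS) (w : iX ≫ f' = f ≫ iY) [Flat (f' ≫ g')] (hf : P f) : P f' := by
  have : IsClosedImmersion iS := hS.1.1
  have hiY : IsClosedImmersion iY := MorphismProperty.of_isPullback hcY.flip this
  have hiX : IsClosedImmersion iX := MorphismProperty.of_isPullback hcX.flip this
  rw [HasRingHomProperty.iff_exists_appLE (P := P) hQ]
  intro x
  obtain ⟨_, ⟨W, hW, rfl⟩, hxW, -⟩ := S'.isBasis_affineOpens.exists_subset_of_mem_open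
    (Set.mem_univ (g' (f' x))) isOpen_univ
  obtain ⟨_, ⟨V, hV, rfl⟩, hxV, hVW : V ≤ g' ⁻¹ᵁ W⟩ :=
    Y'.isBasis_affineOpens.exists_subset_of_mem_open hxW (g' ⁻¹ᵁ W).isOpen
  obtain ⟨_, ⟨U, hU, rfl⟩, hxU, hUV : U ≤ f' ⁻¹ᵁ V⟩ :=
    X'.isBasis_affineOpens.exists_subset_of_mem_open hxV (f' ⁻¹ᵁ V).isOpen
  refine ⟨⟨V, hV⟩, ⟨U, hU⟩, hxU, hUV, ?_⟩
  have hUW : U ≤ (f' ≫ g') ⁻¹ᵁ W := hUV.trans (f'.preimage_mono hVW)
  obtain ⟨ha, hb, hkb⟩ := app_of_isPullback hcY hW hV hVW
  obtain ⟨-, hc, hkc⟩ := app_of_isPullback hcX hW hU hUW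
  have hcomp : (f'.appLE V U hUV).hom.comp (g'.appLE W V hVW).hom =
      ((f' ≫ g').appLE W U hUW).hom := by
    rw [← CommRingCat.hom_comp, Scheme.Hom.appLE_comp_appLE]
  have e0 : iX ⁻¹ᵁ U ≤ f ⁻¹ᵁ (iY ⁻¹ᵁ V) := by
    rw [← Scheme.Hom.comp_preimage, ← w, Scheme.Hom.comp_preimage]
    exact iX.preimage_mono hUV
  refine H _ _ _ _ _ _ (iS.app W).hom (iY.app V).hom (iX.app U).hom (g'.appLE W V hVW).hom
    (f'.appLE V U hUV).hom (f.appLE (iY ⁻¹ᵁ V) (iX ⁻¹ᵁ U) e0).hom ha hb hc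
    (isNilpotent_ker_app hS hW) hkb ?_ ?_ ?_ ?_
  · rw [hcomp, hkc]
  · rw [← CommRingCat.hom_comp, ← CommRingCat.hom_comp, Scheme.Hom.app_eq_appLE,
      Scheme.Hom.app_eq_appLE, Scheme.Hom.appLE_comp_appLE, Scheme.Hom.appLE_comp_appLE]
    congr 2
  · rw [hcomp]
    exact HasRingHomProperty.appLE @Flat (f' ≫ g') inferInstance ⟨_, hW⟩ ⟨_, hU⟩ hUW
  · exact HasRingHomProperty.appLE P f hf ⟨_, hV.preimage iY⟩ ⟨_, hU.preimage iX⟩ e0

end Groth.Agent.Flat2D.ThickRed
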