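import Groth.Agent.Flat2D.DeformFib
import Mathlib.AlgebraicGeometry.ZariskisMainTheorem
import Mathlib.AlgebraicGeometry.Morphisms.Immersion

/-!
# Topological properties along thickenings

Throughout `hc : IsPullback iX f f' iY` with `iY` a surjective closed immersion.
-/

set_option autoImplicit false
universe u

namespace Groth.Agent.Flat2D.ThickTop

open AlgebraicGeometry CategoryTheory Limits

variable {X X' Y Y' : Scheme.{u}} {iX : X ⟶ X'} {iY : Y ⟶ Y'} {f : X ⟶ Y} {f' : X' ⟶ Y'}

lemma isClosedImmersion_left (hc : IsPullback iX f f' iY) [IsClosedImmersion iY] :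
    IsClosedImmersion iX := MorphismProperty.of_isPullback hc.flip ‹_›

lemma surjective_left (hc : IsPullback iX f f' iY) [Surjective iY] :
    Surjective iX := MorphismProperty.of_isPullback hc.flip ‹_›

lemma universallyClosed (hc : IsPullback iX f f' iY) [IsClosedImmersion iY] [Surjective iY]
    [UniversallyClosed f] : UniversallyClosed f' := by
  have := surjective_left hc
  have : UniversallyClosed (iX ≫ f') := by rw [hc.w]; infer_instance
  exact UniversallyClosed.of_comp_surjective iX f'

lemma quasiCompact (hc : IsPullback iX f f' iY) [IsClosedImmersion iY] [Surjective iY]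
    [QuasiCompact f] : QuasiCompact f' := by
  have := surjective_left hc
  have : QuasiCompact (iX ≫ f') := by rw [hc.w]; infer_instance
  rw [quasiCompact_iff]
  intro U hU hU'
  have h1 : IsCompact ((iX ≫ f') ⁻¹' U) := QuasiCompact.isCompact_preimage (f := iX ≫ f') U hU hU'
  have h2 : f' ⁻¹' U = iX '' ((iX ≫ f') ⁻¹' U) := by
    ext x
    constructor
    · intro hx
      obtain ⟨z, rfl⟩ := iX.surjective x
      exact ⟨z, by simpa using! hx, rfl⟩
    · rintro ⟨z, hz, rfl⟩
      simpa using! hz
  rw [h2]
  exact h1.image iX.continuous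

lemma locallyQuasiFinite (hc : IsPullback iX f f' iY) [IsClosedImmersion iY] [Surjective iY]
    [LocallyOfFiniteType f'] [LocallyQuasiFinite f] : LocallyQuasiFinite f' := by
  have := surjective_left hc
  have := isClosedImmersion_left hc
  rw [locallyQuasiFinite_iff_isDiscrete_preimage_singleton]
  intro y'
  obtain ⟨y, rfl⟩ := iY.surjective y'
  have h1 : _root_.IsDiscrete (f ⁻¹' {y}) := f.isDiscrete_preimage_singleton y
  have h2 : f' ⁻¹' {iY y} = iX '' (f ⁻¹' {y}) := by
    ext x
    constructor
    · intro hx
      obtain ⟨z, rfl⟩ := iX.surjective x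
      refine ⟨z, ?_, rfl⟩
      have h3 : f' (iX z) = iY y := hx
      rw [← Scheme.Hom.comp_apply, hc.w, Scheme.Hom.comp_apply] at h3
      exact iY.isClosedEmbedding.injective h3
    · rintro ⟨z, hz, rfl⟩
      change f' (iX z) = iY y
      rw [← Scheme.Hom.comp_apply, hc.w, Scheme.Hom.comp_apply]
      exact congrArg _ hz
  rw [h2]
  exact h1.image iX.isEmbedding.toIsInducing

lemma isSeparated (hc : IsPullback iX f f' iY) [IsClosedImmersion iY] [Surjective iY]
    [IsSeparated f] : IsSeparated f' := by
  have := surjective_left hc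
  have := isClosedImmersion_left hc
  constructor
  refine IsClosedImmersion.of_isPreimmersion _ ?_
  let j : pullback (iX ≫ f') (iX ≫ f') ⟶ pullback f' f' :=
    pullback.map (iX ≫ f') (iX ≫ f') f' f' iX iX (𝟙 _) (by simp) (by simp)
  have hj : IsClosedImmersion j :=
    have : MorphismProperty.IsStableUnderComposition @IsClosedImmersion.{u} :=
      ⟨fun _ _ _ _ => inferInstance⟩
    MorphismProperty.pullbackMap (P := @IsClosedImmersion) ‹_› ‹_› rfl rfl
  have h1 : IsSeparated (iX ≫ f') := by rw [hc.w]; infer_instance
  have h2 : IsClosedImmersion (pullback.diagonal (iX ≫ f') ≫ j) := inferInstance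
  have h3 : pullback.diagonal (iX ≫ f') ≫ j = iX ≫ pullback.diagonal f' := by
    apply pullback.hom_ext
    · rw [Category.assoc, pullback.lift_fst, pullback.diagonal_fst_assoc, Category.assoc,
        pullback.diagonal_fst, Category.comp_id]
    · rw [Category.assoc, pullback.lift_snd, pullback.diagonal_snd_assoc, Category.assoc,
        pullback.diagonal_snd, Category.comp_id]
  have h4 : Set.range (pullback.diagonal f') = Set.range (pullback.diagonal (iX ≫ f') ≫ j) := by
    rw [h3]
    ext x
    constructor
    · rintro ⟨x, rfl⟩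
      obtain ⟨z, rfl⟩ := iX.surjective x
      exact ⟨z, by simp⟩
    · rintro ⟨z, rfl⟩
      exact ⟨iX z, by simp⟩
  rw [h4]
  exact (pullback.diagonal (iX ≫ f') ≫ j).isClosedEmbedding.isClosed_range

lemma isProper (hc : IsPullback iX f f' iY) [IsClosedImmersion iY] [Surjective iY]
    [LocallyOfFiniteType f'] [IsProper f] : IsProper f' := by
  have := universallyClosed hc
  have := isSeparated hc
  exact { }

lemma isFinite (hc : IsPullback iX f f' iY) [IsClosedImmersion iY] [Surjective iY]
    [LocallyOfFiniteType f'] [IsFinite f] : IsFinite f' := by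
  rw [IsFinite.iff_isProper_and_locallyQuasiFinite]
  exact ⟨isProper hc, locallyQuasiFinite hc⟩

end Groth.Agent.Flat2D.ThickTop
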