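import Groth.Prelude.Def_MoreMor
import Mathlib.AlgebraicGeometry.Morphisms.Flat
import Mathlib.AlgebraicGeometry.Morphisms.FormallyUnramified
import Mathlib.RingTheory.Kaehler.TensorProduct
import Mathlib.RingTheory.Nakayama
import Mathlib.RingTheory.RingHom.Unramified

/-!
# Thickenings and formally unramified morphisms

* `unram_of_isPushout`: for a pushout square of rings `R → S` surjective with kernel in the
  nilradical, `R → A` of finite type and `S → B` formally unramified, `R → A` is formally
  unramified.
* `ker_app_le_nilradical`: for a closed immersion `i` which is surjective on points, the kernel of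
  `i.app U` consists of nilpotent elements for `U` affine.
-/

set_option autoImplicit false
universe u

open AlgebraicGeometry CategoryTheory Limits TensorProduct

namespace Groth.Agent.Flat2D.ThickUnram

/-- If `R → S` is surjective with kernel contained in the nilradical, and `M` is a finite module
over an `R`-algebra `A` with `S ⊗[R] M = 0`, then `M = 0`. -/
theorem subsingleton_of_tensor {R S A M : Type*} [CommRing R] [CommRing S] [Algebra R S]
    [CommRing A] [Algebra R A] [AddCommGroup M] [Module R M] [Module A M] [IsScalarTower R A M]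
    [Module.Finite A M] (hs : Function.Surjective (algebraMap R S))
    (hk : RingHom.ker (algebraMap R S) ≤ nilradical R) (h : Subsingleton (S ⊗[R] M)) :
    Subsingleton M := by
  set I := RingHom.ker (algebraMap R S) with hI
  have hmap : ∀ m : M, m ∈ (I • (⊤ : Submodule R M)) := by
    intro m
    have e : (R ⧸ I) ⊗[R] M ≃ₗ[R] M ⧸ (I • (⊤ : Submodule R M)) :=
      TensorProduct.quotTensorEquivQuotSMul M I
    let eS : (R ⧸ I) ≃ₐ[R] S := Ideal.quotientKerAlgEquivOfSurjective (f := Algebra.ofId R S) hs
    have e2 : (R ⧸ I) ⊗[R] M ≃ₗ[R] S ⊗[R] M :=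
      TensorProduct.congr eS.toLinearEquiv (LinearEquiv.refl R M)
    have : Subsingleton (M ⧸ (I • (⊤ : Submodule R M))) :=
      (e.symm.trans e2).toEquiv.subsingleton
    rw [← Submodule.Quotient.mk_eq_zero]
    exact Subsingleton.elim _ _
  have hle : (⊤ : Submodule A M) ≤ (I.map (algebraMap R A)) • (⊤ : Submodule A M) := by
    intro m _
    have := hmap m
    refine Submodule.smul_induction_on (p := fun x => x ∈ (I.map (algebraMap R A)) • (⊤ : Submodule A M)) this ?_ ?_
    · intro r hr n _
      rw [← algebraMap_smul A r n]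
      exact Submodule.smul_mem_smul (Ideal.mem_map_of_mem _ hr) trivial
    · intro x y hx hy
      exact add_mem hx hy
  have hjac : (I.map (algebraMap R A)) ≤ (⊥ : Ideal A).jacobson := by
    rw [Ideal.map_le_iff_le_comap]
    intro r hr
    have h1 : IsNilpotent r := hk hr
    have h2 : IsNilpotent (algebraMap R A r) := h1.map (algebraMap R A)
    rw [Ideal.mem_comap]
    exact Ideal.radical_le_jacobson (by rwa [← mem_nilradical] at h2)
  have := Submodule.eq_bot_of_le_smul_of_le_jacobson_bot _ (⊤ : Submodule A M) Module.Finite.fg_top hle hjac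
  exact (Submodule.subsingleton_iff A).mp (subsingleton_of_bot_eq_top this.symm)

/-- Descent of formal unramifiedness along a nilpotent (surjective with kernel in the nilradical)
base change. -/
theorem unram_of_isPushout {R S A B : CommRingCat.{u}} (φ : R ⟶ A) (π : R ⟶ S) (π' : A ⟶ B)
    (ψ : S ⟶ B) (h : IsPushout φ π π' ψ) (hs : Function.Surjective π.hom)
    (hk : RingHom.ker π.hom ≤ nilradical R) (hφ : φ.hom.FiniteType)
    (hψ : ψ.hom.FormallyUnramified) : φ.hom.FormallyUnramified := by
  algebraize [φ.hom, π.hom, π'.hom, ψ.hom, π'.hom.comp φ.hom]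
  have e : π'.hom.comp φ.hom = ψ.hom.comp π.hom := by
    rw [← CommRingCat.hom_comp, h.w, CommRingCat.hom_comp]
  have : IsScalarTower R S B := IsScalarTower.of_algebraMap_eq' (by
    rw [RingHom.algebraMap_toAlgebra, e]; rfl)
  have hp : Algebra.IsPushout R A S B := by
    rw [← CommRingCat.isPushout_iff_isPushout]
    exact h
  have hp' : Algebra.IsPushout R S A B := hp.symm
  have e1 := KaehlerDifferential.tensorKaehlerEquivBase R S A B
  have hΩ : Subsingleton Ω[B⁄S] := Algebra.FormallyUnramified.subsingleton_kaehlerDifferential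
  have : Subsingleton (S ⊗[R] Ω[A⁄R]) := e1.toEquiv.subsingleton
  have hf : Module.Finite A Ω[A⁄R] := inferInstance
  have := subsingleton_of_tensor (A := A) (M := Ω[A⁄R]) hs hk this
  exact ⟨this⟩

/-- The kernel of a surjective (on points) morphism on an affine open consists of
nilpotent elements. -/
theorem ker_app_le_nilradical {X Y : Scheme.{u}} (i : X ⟶ Y) [Surjective i]
    (U : Y.Opens) (hU : IsAffineOpen U) : RingHom.ker (i.app U).hom ≤ nilradical Γ(Y, U) := by
  intro s hs
  rw [RingHom.mem_ker] at hs
  rw [mem_nilradical, Scheme.isNilpotent_iff_basicOpen_eq_bot_of_isCompact hU.isCompact]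
  rw [← SetLike.coe_set_eq]
  have h : (i ⁻¹ᵁ (Y.basicOpen s)) = ⊥ := by
    rw [Scheme.preimage_basicOpen, hs, Scheme.basicOpen_zero]
  ext x
  obtain ⟨y, rfl⟩ := i.surjective x
  constructor
  · intro hx
    have : y ∈ i ⁻¹ᵁ (Y.basicOpen s) := hx
    rw [h] at this
    exact this.elim
  · intro hx
    exact hx.elim

end Groth.Agent.Flat2D.ThickUnram
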