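import Groth.Agent.S2136
import Groth.Agent.S1182
import Groth.Agent.Flat2E.SplitIntegral
import Mathlib.RingTheory.Localization.AtPrime.Basic
import Mathlib.RingTheory.Localization.LocalizationLocalization

/-!
# Flatness over geometrically unibranch local domains: local rings of tensor products
-/

set_option autoImplicit false
universe u

namespace Groth.Agent.Flat2D.UniDesc

open IsLocalRing TensorProduct

/-- Two ring homomorphisms to fields from a local ring `R` integral over `A`, which agree on `A`. -/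
theorem ker_eq_of_pow {A R T : Type u} [CommRing A] [CommRing R] [Algebra A R] [IsLocalRing R]
    [CommRing T] (m₁ m₂ : Ideal T) [m₁.IsMaximal] [m₂.IsMaximal] {D : Type u} [CommRing D] [IsLocalRing D]
    [Algebra D T] (r : R →+* T) (a : A →+* D) (hra : r.comp (algebraMap A R) = (algebraMap D T).comp a)
    (hgen : ∀ (K : Type u) [Field K] (σ τ : T →+* K), σ.comp (algebraMap D T) = τ.comp (algebraMap D T) →
      σ.comp r = τ.comp r → σ = τ)
    (hD₁ : m₁.comap (algebraMap D T) = maximalIdeal D) (hD₂ : m₂.comap (algebraMap D T) = maximalIdeal D)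
    (hR₁ : m₁.comap r = maximalIdeal R) (hR₂ : m₂.comap r = maximalIdeal R)
    (q : ℕ) [ExpChar (ResidueField R) q]
    (h : ∀ x : R, ∃ (n : ℕ) (a : A), x ^ q ^ n - algebraMap A R a ∈ maximalIdeal R) : m₁ = m₂ := by
  -- the two maps from the residue field of `D`
  let f₁ : ResidueField D →+* T ⧸ m₁ := Ideal.quotientMap m₁ (algebraMap D T) hD₁.ge
  let f₂ : ResidueField D →+* T ⧸ m₂ := Ideal.quotientMap m₂ (algebraMap D T) hD₂.ge
  let _ : Field (T ⧸ m₁) := Ideal.Quotient.field m₁
  let _ : Field (T ⧸ m₂) := Ideal.Quotient.field m₂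
  let _ : Algebra (ResidueField D) (T ⧸ m₁) := f₁.toAlgebra
  let _ : Algebra (ResidueField D) (T ⧸ m₂) := f₂.toAlgebra
  obtain ⟨M, hM⟩ := Ideal.exists_maximal ((T ⧸ m₁) ⊗[ResidueField D] (T ⧸ m₂))
  let K := ((T ⧸ m₁) ⊗[ResidueField D] (T ⧸ m₂)) ⧸ M
  let _ : Field K := Ideal.Quotient.field M
  let g₁ : (T ⧸ m₁) →+* K := (Ideal.Quotient.mk M).comp
    (Algebra.TensorProduct.includeLeftRingHom : (T ⧸ m₁) →+* (T ⧸ m₁) ⊗[ResidueField D] (T ⧸ m₂))
  let g₂ : (T ⧸ m₂) →+* K := (Ideal.Quotient.mk M).comp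
    (Algebra.TensorProduct.includeRight : (T ⧸ m₂) →ₐ[ResidueField D] (T ⧸ m₁) ⊗[ResidueField D] (T ⧸ m₂)).toRingHom
  have hg : g₁.comp f₁ = g₂.comp f₂ := by
    apply RingHom.ext
    intro y
    change Ideal.Quotient.mk M _ = Ideal.Quotient.mk M _
    congr 1
    exact RingHom.congr_fun (Algebra.TensorProduct.includeLeftRingHom_comp_algebraMap (R := ResidueField D)
      (A := T ⧸ m₁) (B := T ⧸ m₂)) y
  let σ : T →+* K := g₁.comp (Ideal.Quotient.mk m₁)
  let τ : T →+* K := g₂.comp (Ideal.Quotient.mk m₂)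
  have hσ : RingHom.ker σ = m₁ := by
    ext x
    rw [RingHom.mem_ker, RingHom.comp_apply, map_eq_zero_iff _ g₁.injective, Ideal.Quotient.eq_zero_iff_mem]
  have hτ : RingHom.ker τ = m₂ := by
    ext x
    rw [RingHom.mem_ker, RingHom.comp_apply, map_eq_zero_iff _ g₂.injective, Ideal.Quotient.eq_zero_iff_mem]
  have hDeq : σ.comp (algebraMap D T) = τ.comp (algebraMap D T) := by
    apply RingHom.ext
    intro d
    exact RingHom.congr_fun hg (residue D d)
  have hchar : ExpChar K q := by
    let ρ : ResidueField R →+* T ⧸ m₁ := Ideal.quotientMap m₁ r hR₁.ge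
    exact expChar_of_injective_ringHom (f := g₁.comp ρ) (g₁.comp ρ).injective q
  have hReq : σ.comp r = τ.comp r := by
    apply RingHom.ext
    intro x
    obtain ⟨n, y, hy⟩ := h x
    have h1 : σ (r x) ^ q ^ n = σ (algebraMap D T (a y)) := by
      rw [← map_pow, ← map_pow, ← sub_eq_zero, ← map_sub]
      have : x ^ q ^ n - algebraMap A R y ∈ m₁.comap r := by rw [hR₁]; exact hy
      rw [Ideal.mem_comap, map_sub, ← RingHom.comp_apply r, hra] at this
      rw [← RingHom.mem_ker, hσ]
      exact this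
    have h2 : τ (r x) ^ q ^ n = τ (algebraMap D T (a y)) := by
      rw [← map_pow, ← map_pow, ← sub_eq_zero, ← map_sub]
      have : x ^ q ^ n - algebraMap A R y ∈ m₂.comap r := by rw [hR₂]; exact hy
      rw [Ideal.mem_comap, map_sub, ← RingHom.comp_apply r, hra] at this
      rw [← RingHom.mem_ker, hτ]
      exact this
    have h3 : σ (r x) ^ q ^ n = τ (r x) ^ q ^ n := by
      rw [h1, h2]
      exact RingHom.congr_fun hDeq _
    exact iterateFrobenius_inj K q n h3
  exact hσ.symm.trans ((congrArg RingHom.ker (hgen K σ τ hDeq hReq)).trans hτ)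

/-- `D ⊗ R` is local when `R` is local, integral over `A` with purely inseparable residue field extension, and `A → D` is a
local homomorphism. -/
theorem isLocalRing_tensor (A R D : Type u) [CommRing A] [IsLocalRing A] [CommRing R] [IsLocalRing R] [Algebra A R]
    [Algebra.IsIntegral A R] [CommRing D] [IsLocalRing D] [Algebra A D] [IsLocalHom (algebraMap A D)]
    (q : ℕ) [ExpChar (ResidueField R) q]
    (h : ∀ x : R, ∃ (n : ℕ) (a : A), x ^ q ^ n - algebraMap A R a ∈ maximalIdeal R) :
    IsLocalRing (D ⊗[A] R) ∧ ∀ m : Ideal (D ⊗[A] R), m.IsMaximal →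
      m.comap (algebraMap D (D ⊗[A] R)) = maximalIdeal D ∧
      m.comap (Algebra.TensorProduct.includeRight : R →ₐ[A] D ⊗[A] R).toRingHom = maximalIdeal R := by
  let T := D ⊗[A] R
  let r : R →+* T := (Algebra.TensorProduct.includeRight : R →ₐ[A] D ⊗[A] R).toRingHom
  have hAD : (maximalIdeal D).comap (algebraMap A D) = maximalIdeal A :=
    ((local_hom_TFAE (algebraMap A D)).out 0 4 rfl rfl).mp inferInstance
  have hra : r.comp (algebraMap A R) = (algebraMap D T).comp (algebraMap A D) := by
    apply RingHom.ext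
    intro x
    change (1 : D) ⊗ₜ[A] algebraMap A R x = algebraMap A D x ⊗ₜ[A] (1 : R)
    rw [Algebra.algebraMap_eq_smul_one, Algebra.algebraMap_eq_smul_one, TensorProduct.tmul_smul,
      TensorProduct.smul_tmul']
  -- contractions of maximal ideals
  have hD : ∀ m : Ideal T, m.IsMaximal → m.comap (algebraMap D T) = maximalIdeal D := by
    intro m hm
    exact IsLocalRing.eq_maximalIdeal (Ideal.isMaximal_comap_of_isIntegral_of_isMaximal m)
  have hR : ∀ m : Ideal T, m.IsMaximal → m.comap r = maximalIdeal R := by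
    intro m hm
    have h1 : (m.comap r).comap (algebraMap A R) = maximalIdeal A := by
      rw [Ideal.comap_comap, hra, ← Ideal.comap_comap, hD m hm, hAD]
    have hp : (m.comap r).IsPrime := inferInstance
    have : (m.comap r).IsMaximal := by
      apply Ideal.isMaximal_of_isIntegral_of_isMaximal_comap (R := A) (m.comap r)
      rw [h1]
      infer_instance
    exact IsLocalRing.eq_maximalIdeal this
  have hgen : ∀ (K : Type u) [Field K] (σ τ : T →+* K), σ.comp (algebraMap D T) = τ.comp (algebraMap D T) →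
      σ.comp r = τ.comp r → σ = τ := by
    intro K _ σ τ h1 h2
    apply RingHom.ext
    intro z
    induction z using TensorProduct.induction_on with
    | zero => rw [map_zero, map_zero]
    | add a b ha hb => rw [map_add, map_add, ha, hb]
    | tmul d x =>
      have : d ⊗ₜ[A] x = algebraMap D T d * r x := by
        change _ = (d ⊗ₜ[A] (1 : R)) * ((1 : D) ⊗ₜ[A] x)
        rw [Algebra.TensorProduct.tmul_mul_tmul, mul_one, one_mul]
      rw [this, map_mul, map_mul]
      exact congr_arg₂ _ (RingHom.congr_fun h1 d) (RingHom.congr_fun h2 x)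
  obtain ⟨J, hJ, hJ1, -⟩ := Groth.Agent.Flat2E.SplitIntegral.exists_prime_tensorProduct (R := A) (maximalIdeal D)
    (maximalIdeal R) (by
      rw [hAD]
      exact (IsLocalRing.eq_maximalIdeal (Ideal.isMaximal_comap_of_isIntegral_of_isMaximal (maximalIdeal R))).symm)
  have hnt : Nontrivial T := by
    have := Ideal.IsPrime.ne_top hJ
    exact ⟨⟨0, 1, fun h0 => this ((Ideal.eq_top_iff_one J).mpr (by rw [← h0]; exact zero_mem _))⟩⟩
  obtain ⟨m, hm⟩ := Ideal.exists_maximal T
  have hloc : IsLocalRing T := IsLocalRing.of_unique_max_ideal ⟨m, hm, fun m' hm' =>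
    have := hm
    have : m'.IsMaximal := hm'
    ker_eq_of_pow m' m r (algebraMap A D) hra hgen (hD m' hm') (hD m hm) (hR m' hm') (hR m hm) q h⟩
  exact ⟨hloc, fun m hm => ⟨hD m hm, hR m hm⟩⟩

end Groth.Agent.Flat2D.UniDesc
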