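import Groth.Agent.Flat2D.PolyCrit3
import Groth.Agent.S0437
import Mathlib.RingTheory.Valuation.ValuationRing
import Mathlib.RingTheory.EssentialFiniteness
import Mathlib.RingTheory.LocalRing.RingHom.Basic
import Mathlib.RingTheory.Nakayama

/-!
Stacks 0GSG: maps of finite modules, injective modulo the maximal ideal of a valuation ring.
-/

set_option autoImplicit false
universe u

open Function IsLocalRing MvPolynomial

namespace Groth.Agent.Flat2D.ValCrit

/-- Over a valuation ring, every element of `I M` is a single multiple `a • y` with `a ∈ I`. -/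
lemma exists_eq_smul_of_mem {A M : Type*} [CommRing A] [IsDomain A] [ValuationRing A] [AddCommGroup M]
    [Module A M] {I : Ideal A} {x : M} (hx : x ∈ I • (⊤ : Submodule A M)) :
    ∃ a ∈ I, ∃ y : M, x = a • y := by
  induction hx using Submodule.smul_induction_on' with
  | smul a ha y _ => exact ⟨a, ha, y, rfl⟩
  | add x _ x' _ hx hx' =>
    obtain ⟨a, ha, y, rfl⟩ := hx
    obtain ⟨a', ha', y', rfl⟩ := hx'
    rcases ValuationRing.dvd_total a a' with ⟨c, rfl⟩ | ⟨c, rfl⟩
    · exact ⟨a, ha, y + c • y', by rw [smul_add, mul_smul]⟩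
    · exact ⟨a', ha', c • y + y', by rw [smul_add, mul_smul]⟩

/-- Presentation of an essentially finite type algebra. -/
lemma exists_poly_of_essFiniteType (A B : Type*) [CommRing A] [CommRing B] [Algebra A B]
    [Algebra.EssFiniteType A B] : ∃ (n : ℕ) (φ : MvPolynomial (Fin n) A →ₐ[A] B),
      ∀ x : B, ∃ p s, IsUnit (φ s) ∧ φ s * x = φ p := by
  obtain ⟨n, f, hf⟩ := Algebra.FiniteType.iff_quotient_mvPolynomial''.1
    (inferInstance : Algebra.FiniteType A (Algebra.EssFiniteType.subalgebra A B))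
  refine ⟨n, (Algebra.EssFiniteType.subalgebra A B).val.comp f, fun x => ?_⟩
  obtain ⟨⟨y, s⟩, h⟩ := IsLocalization.surj (Algebra.EssFiniteType.submonoid A B) x
  obtain ⟨p, rfl⟩ := hf y
  obtain ⟨s', hs'⟩ := hf s
  refine ⟨p, s', ?_, ?_⟩
  · have := s.2
    rw [AlgHom.comp_apply, hs']
    exact this
  · rw [AlgHom.comp_apply, hs', mul_comm]
    exact h

section

variable {A B : Type u} [CommRing A] [CommRing B] [Algebra A B]
  {n : ℕ} (φ : MvPolynomial (Fin n) A →ₐ[A] B) (hφ : ∀ x : B, ∃ p s, IsUnit (φ s) ∧ φ s * x = φ p)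

include hφ in
/-- clearing denominators -/
lemma exists_smul_eq_sum {M : Type*} [AddCommGroup M] [Module B M] {ι : Type*} [Fintype ι] (x : ι → M)
    (hx : Submodule.span B (Set.range x) = ⊤) (m : M) :
    ∃ (t : MvPolynomial (Fin n) A) (c : ι → MvPolynomial (Fin n) A), IsUnit (φ t) ∧
      φ t • m = ∑ i, φ (c i) • x i := by
  classical
  have hm : m ∈ Submodule.span B (Set.range x) := hx ▸ Submodule.mem_top
  induction hm using Submodule.span_induction with
  | mem _ h =>
    obtain ⟨i, rfl⟩ := h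
    refine ⟨1, Pi.single i 1, by simp, ?_⟩
    simp [Pi.single_apply, apply_ite, ite_smul]
  | zero => exact ⟨1, 0, by simp, by simp⟩
  | add m m' _ _ h h' =>
    obtain ⟨t, c, ht, hc⟩ := h
    obtain ⟨t', c', ht', hc'⟩ := h'
    refine ⟨t * t', fun i => t' * c i + t * c' i, by rw [map_mul]; exact ht.mul ht', ?_⟩
    simp only [map_add, map_mul, add_smul, mul_smul, Finset.sum_add_distrib, ← Finset.smul_sum, ← hc,
      ← hc', smul_add]
    rw [smul_comm (φ t) (φ t') m]
  | smul b m _ h =>
    obtain ⟨t, c, ht, hc⟩ := h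
    obtain ⟨p, s, hs, hb⟩ := hφ b
    refine ⟨s * t, fun i => p * c i, by rw [map_mul]; exact hs.mul ht, ?_⟩
    simp only [map_mul, mul_smul, ← Finset.smul_sum, ← hc, ← hb]
    rw [smul_comm (φ t) b m]

/-- The evaluation `v ↦ ∑ φ (v i) • x i`. -/
noncomputable def ev {M : Type*} [AddCommGroup M] [Module B M] {ι : Type*} [Fintype ι] (x : ι → M) :
    (ι → MvPolynomial (Fin n) A) →+ M where
  toFun v := ∑ i, φ (v i) • x i
  map_zero' := by simp
  map_add' v w := by simp [add_smul, Finset.sum_add_distrib]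

lemma ev_apply {M : Type*} [AddCommGroup M] [Module B M] {ι : Type*} [Fintype ι] (x : ι → M)
    (v : ι → MvPolynomial (Fin n) A) : ev φ x v = ∑ i, φ (v i) • x i := rfl

lemma ev_smul {M : Type*} [AddCommGroup M] [Module B M] {ι : Type*} [Fintype ι] (x : ι → M)
    (t : MvPolynomial (Fin n) A) (v : ι → MvPolynomial (Fin n) A) :
    ev φ x (t • v) = φ t • ev φ x v := by
  simp [ev_apply, mul_smul, Finset.smul_sum]

lemma ev_smul' {M : Type*} [AddCommGroup M] [Module B M] [Module A M] [IsScalarTower A B M]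
    {ι : Type*} [Fintype ι] (x : ι → M) (a : A) (v : ι → MvPolynomial (Fin n) A) :
    ev φ x (a • v) = a • ev φ x v := by
  simp only [ev_apply, Pi.smul_apply, map_smul, Finset.smul_sum, smul_assoc]

/-- The module of relations. -/
noncomputable def rel {M : Type*} [AddCommGroup M] [Module B M] {ι : Type*} [Fintype ι] (x : ι → M) :
    Submodule (MvPolynomial (Fin n) A) (ι → MvPolynomial (Fin n) A) where
  carrier := {v | ev φ x v = 0}
  add_mem' := by
    intro v w hv hw
    simp only [Set.mem_ofPred_eq] at hv hw ⊢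
    rw [map_add, hv, hw, add_zero]
  zero_mem' := by simp only [Set.mem_ofPred_eq, map_zero]
  smul_mem' := by
    intro t v hv
    simp only [Set.mem_ofPred_eq] at hv ⊢
    rw [ev_smul, hv, smul_zero]

lemma mem_rel {M : Type*} [AddCommGroup M] [Module B M] {ι : Type*} [Fintype ι] {x : ι → M}
    {v : ι → MvPolynomial (Fin n) A} : v ∈ rel φ x ↔ ev φ x v = 0 := Iff.rfl

lemma rel_saturated [IsDomain A] {M : Type*} [AddCommGroup M] [Module B M]
    [Module A M] [IsScalarTower A B M] [Module.Flat A M] {ι : Type*} [Fintype ι] (x : ι → M)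
    (a : A) (ha : a ≠ 0) (v : ι → MvPolynomial (Fin n) A) (hv : a • v ∈ rel φ x) : v ∈ rel φ x := by
  rw [mem_rel] at hv ⊢
  rw [ev_smul'] at hv
  exact (smul_eq_zero_iff_right ha).1 hv

lemma rel_fg [IsDomain A] [ValuationRing A] {M : Type*} [AddCommGroup M] [Module B M]
    [Module A M] [IsScalarTower A B M] [Module.Flat A M] {r : ℕ} (x : Fin r → M) :
    (rel φ x).FG :=
  Groth.Agent.S0437.fg_of_saturated _ (rel_saturated φ x)

end

/-- Stacks 0GSG. -/
theorem injective_and_flat {A B : Type u} [CommRing A] [IsDomain A] [ValuationRing A] [CommRing B]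
    [IsLocalRing B] [Algebra A B] [IsLocalHom (algebraMap A B)] [Algebra.EssFiniteType A B]
    {N M : Type u} [AddCommGroup N] [Module B N] [Module A N] [IsScalarTower A B N] [Module.Finite B N]
    [AddCommGroup M] [Module B M] [Module A M] [IsScalarTower A B M] [Module.Finite B M]
    [Module.Flat A M] (u : N →ₗ[B] M)
    (hu : ∀ y : N, u y ∈ maximalIdeal A • (⊤ : Submodule A M) → y ∈ maximalIdeal A • (⊤ : Submodule A N)) :
    Function.Injective u ∧ Module.Flat A (M ⧸ LinearMap.range u) := by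
  classical
  obtain ⟨n, φ, hφ⟩ := exists_poly_of_essFiniteType A B
  obtain ⟨r, x, hx⟩ := Module.Finite.exists_fin (R := B) (M := M)
  obtain ⟨s, y₀, hy₀⟩ := Module.Finite.exists_fin (R := B) (M := N)
  have huA : ∀ (a : A) (z : N), u (a • z) = a • u z := fun a z => by
    rw [← algebraMap_smul B a z, map_smul, algebraMap_smul]
  -- adjust the generators of `N`
  obtain ⟨y, f, hy, hyf⟩ : ∃ (y : Fin s → N) (f : Fin s → Fin r → MvPolynomial (Fin n) A),
      Submodule.span B (Set.range y) = ⊤ ∧ ∀ i, u (y i) = ev φ x (f i) := by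
    choose t f ht hf using fun i => exists_smul_eq_sum φ hφ x hx (u (y₀ i))
    refine ⟨fun i => φ (t i) • y₀ i, f, ?_, fun i => ?_⟩
    · rw [eq_top_iff, ← hy₀, Submodule.span_le]
      rintro _ ⟨i, rfl⟩
      obtain ⟨v, hv⟩ := ht i
      have h1 : (v⁻¹ : Bˣ) • φ (t i) • y₀ i = y₀ i := by
        rw [← hv]; exact inv_smul_smul v (y₀ i)
      rw [← h1]
      exact Submodule.smul_mem _ _ (Submodule.subset_span ⟨i, rfl⟩)
    · rw [map_smul, hf]; rfl
  -- `u` on combinations of the generators
  have huy : ∀ c : Fin s → MvPolynomial (Fin n) A, u (ev φ y c) = ev φ x (∑ i, c i • f i) := by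
    intro c
    rw [ev_apply, map_sum, map_sum]
    refine Finset.sum_congr rfl fun i _ => ?_
    rw [map_smul, hyf, ev_smul]
  let q : Ideal (MvPolynomial (Fin n) A) := (maximalIdeal B).comap φ.toRingHom
  have hq : q.IsPrime := inferInstance
  have hq' : ∀ t, t ∉ q ↔ IsUnit (φ t) := by
    intro t
    rw [Ideal.mem_comap, mem_maximalIdeal, mem_nonunits_iff, not_not]
    rfl
  have hmq : (maximalIdeal A).map C ≤ q := by
    rw [Ideal.map_le_iff_le_comap]
    intro a ha
    rw [Ideal.mem_comap, Ideal.mem_comap]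
    have : φ.toRingHom (C a) = algebraMap A B a := by
      rw [← MvPolynomial.algebraMap_eq]; exact φ.commutes a
    rw [this, mem_maximalIdeal, mem_nonunits_iff]
    rw [mem_maximalIdeal, mem_nonunits_iff] at ha
    exact fun h => ha (isUnit_of_map_unit (algebraMap A B) a h)
  let Nt : Submodule (MvPolynomial (Fin n) A) (Fin r → MvPolynomial (Fin n) A) :=
    rel φ x ⊔ Submodule.span _ (Set.range f)
  have hNtfg : Nt.FG := (rel_fg φ x).sup (Submodule.fg_span (Set.finite_range f))
  have hfNt : ∀ c : Fin s → MvPolynomial (Fin n) A, ∑ i, c i • f i ∈ Nt := fun c =>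
    Submodule.mem_sup_right (Submodule.sum_mem _ fun i _ =>
      Submodule.smul_mem _ _ (Submodule.subset_span ⟨i, rfl⟩))
  have hNt1 : ∀ w ∈ Nt, ∃ c, ev φ x w = u (ev φ y c) := by
    intro w hw
    obtain ⟨k, hk, z, hz, rfl⟩ := Submodule.mem_sup.mp hw
    obtain ⟨c, rfl⟩ := (Submodule.mem_span_range_iff_exists_fun _).mp hz
    refine ⟨c, ?_⟩
    rw [map_add, huy, (mem_rel φ).mp hk, zero_add]
  have hNt2 : ∀ w, ev φ x w ∈ LinearMap.range u → ∃ t, t ∉ q ∧ t • w ∈ Nt := by
    rintro w ⟨z, hz⟩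
    obtain ⟨t, c, ht, hc⟩ := exists_smul_eq_sum φ hφ y hy z
    refine ⟨t, (hq' t).mpr ht, ?_⟩
    have h1 : t • w - ∑ i, c i • f i ∈ rel φ x := by
      rw [mem_rel, map_sub, ev_smul, ← hz, ← map_smul, hc, ← huy, ev_apply, sub_self]
    have h2 : t • w = (t • w - ∑ i, c i • f i) + ∑ i, c i • f i := by rw [sub_add_cancel]
    rw [h2]
    exact Submodule.add_mem _ (Submodule.mem_sup_left h1) (hfNt c)
  -- elements with coefficients in the maximal ideal
  have hdiv : ∀ w : Fin r → MvPolynomial (Fin n) A,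
      (∀ k, w k ∈ (maximalIdeal A).map (C : A →+* MvPolynomial (Fin n) A)) →
      ∃ a ∈ maximalIdeal A, ∃ w₁, w = a • w₁ := by
    intro w hw
    apply exists_eq_smul_of_mem
    rw [← PolyCrit.mem_smul_top_pi_iff] at hw
    have := Ideal.smul_restrictScalars (maximalIdeal A)
      (⊤ : Submodule (MvPolynomial (Fin n) A) (Fin r → MvPolynomial (Fin n) A))
    rw [Submodule.restrictScalars_top] at this
    rw [← this]
    exact hw
  have hcoeff : ∀ (a : A), a ∈ maximalIdeal A → ∀ w ∈ Nt, a • w ∈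
      (maximalIdeal A).map (C : A →+* MvPolynomial (Fin n) A) • Nt := by
    intro a ha w hw
    rw [← algebraMap_smul (MvPolynomial (Fin n) A) a w, MvPolynomial.algebraMap_eq]
    exact Submodule.smul_mem_smul (Ideal.mem_map_of_mem _ ha) hw
  have hN : ∀ w ∈ Nt, (∀ k, w k ∈ (maximalIdeal A).map (C : A →+* MvPolynomial (Fin n) A)) →
      ∃ t : MvPolynomial (Fin n) A, t ∉ q ∧
        t • w ∈ (maximalIdeal A).map (C : A →+* MvPolynomial (Fin n) A) • Nt := by
    intro w hw hwm
    obtain ⟨a, ha, w₁, rfl⟩ := hdiv w hwm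
    obtain ⟨c, hc⟩ := hNt1 _ hw
    have h1 : ev φ y c ∈ maximalIdeal A • (⊤ : Submodule A N) := by
      apply hu
      rw [← hc, ev_smul']
      exact Submodule.smul_mem_smul ha trivial
    obtain ⟨a', ha', n₁, hn₁⟩ := exists_eq_smul_of_mem h1
    obtain ⟨t, c', ht, hc'⟩ := exists_smul_eq_sum φ hφ y hy n₁
    refine ⟨t, (hq' t).mpr ht, ?_⟩
    -- `t • a • w₁ - a' • ∑ c' f` is a relation divisible by an element of the maximal ideal
    have h2 : t • a • w₁ - a' • ∑ i, c' i • f i ∈ rel φ x := by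
      have e1 : ev φ x (t • a • w₁) = φ t • a' • u n₁ := by
        rw [ev_smul, hc, hn₁, huA]
      have e2 : ev φ x (a' • ∑ i, c' i • f i) = a' • φ t • u n₁ := by
        rw [ev_smul' (φ := φ) (x := x) a' (∑ i, c' i • f i), ← huy, ev_apply, ← hc', map_smul]
      rw [mem_rel, map_sub, e1, e2, smul_comm, sub_self]
    have h3 : ∃ a'' ∈ maximalIdeal A, ∃ w₂, t • a • w₁ - a' • ∑ i, c' i • f i = a'' • w₂ := by
      rcases ValuationRing.dvd_total a a' with ⟨d, rfl⟩ | ⟨d, rfl⟩
      · refine ⟨a, ha, t • w₁ - d • ∑ i, c' i • f i, ?_⟩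
        rw [smul_sub, mul_smul, smul_comm t a]
      · refine ⟨a', ha', t • d • w₁ - ∑ i, c' i • f i, ?_⟩
        rw [smul_sub, mul_smul, smul_comm t a']
    obtain ⟨a'', ha'', w₂, hw₂⟩ := h3
    have h4 : t • a • w₁ = a'' • w₂ + a' • ∑ i, c' i • f i := by rw [← hw₂, sub_add_cancel]
    rw [h4]
    refine add_mem ?_ (hcoeff a' ha' _ (hfNt c'))
    by_cases h0 : a'' = 0
    · rw [h0, zero_smul]; exact zero_mem _
    · refine hcoeff a'' ha'' _ (Submodule.mem_sup_left (rel_saturated φ x a'' h0 w₂ ?_))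
      rw [← hw₂]; exact h2
  constructor
  · -- injectivity
    have hg : (rel φ (fun i => u (y i))).FG := rel_fg φ _
    obtain ⟨l, c, hc⟩ := Submodule.fg_iff_exists_fin_generating_family.mp hg
    have hevu : ∀ v, ev φ (fun i => u (y i)) v = u (ev φ y v) := by
      intro v
      simp only [ev_apply, map_sum, map_smul]
    have hspan : LinearMap.ker u = Submodule.span B (Set.range fun j => ev φ y (c j)) := by
      apply le_antisymm
      · intro z hz
        rw [LinearMap.mem_ker] at hz
        obtain ⟨t, v, ht, hv⟩ := exists_smul_eq_sum φ hφ y hy z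
        have h1 : v ∈ rel φ (fun i => u (y i)) := by
          rw [mem_rel, hevu, ev_apply, ← hv, map_smul, hz, smul_zero]
        rw [← hc, Submodule.mem_span_range_iff_exists_fun] at h1
        obtain ⟨d, rfl⟩ := h1
        have h2 : φ t • z = ∑ j, φ (d j) • ev φ y (c j) := by
          rw [hv, ← ev_apply, map_sum]
          exact Finset.sum_congr rfl fun j _ => ev_smul φ y (d j) (c j)
        obtain ⟨b, hb⟩ := ht
        have h5 : z = ((b⁻¹ : Bˣ) : B) • φ t • z := by
          rw [← hb, smul_smul, Units.inv_mul, one_smul]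
        rw [h5, h2]
        exact Submodule.smul_mem _ _ (Submodule.sum_mem _ fun j _ =>
          Submodule.smul_mem _ _ (Submodule.subset_span ⟨j, rfl⟩))
      · rw [Submodule.span_le]
        rintro _ ⟨j, rfl⟩
        change u (ev φ y (c j)) = 0
        rw [← hevu, ← mem_rel, ← hc]
        exact Submodule.subset_span ⟨j, rfl⟩
    have hfg : (LinearMap.ker u).FG := by
      rw [hspan]; exact Submodule.fg_span (Set.finite_range _)
    rw [← LinearMap.ker_eq_bot]
    refine Submodule.eq_bot_of_le_smul_of_le_jacobson_bot (maximalIdeal B) _ hfg ?_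
      (maximalIdeal_le_jacobson _)
    intro z hz
    rw [LinearMap.mem_ker] at hz
    obtain ⟨a, ha, z', rfl⟩ := exists_eq_smul_of_mem (hu z (by rw [hz]; exact zero_mem _))
    by_cases h0 : a = 0
    · rw [h0, zero_smul]; exact zero_mem _
    rw [huA] at hz
    have h1 : u z' = 0 := (smul_eq_zero_iff_right h0).1 hz
    rw [← algebraMap_smul B a z']
    refine Submodule.smul_mem_smul ?_ h1
    rw [mem_maximalIdeal, mem_nonunits_iff] at ha ⊢
    exact fun h => ha (isUnit_of_map_unit (algebraMap A B) a h)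
  · rw [Module.Flat.flat_iff_torsion_eq_bot_of_isBezout, eq_bot_iff]
    intro z hz
    rw [Submodule.mem_torsion_iff] at hz
    obtain ⟨a, ha⟩ := hz
    obtain ⟨m, rfl⟩ := Submodule.Quotient.mk_surjective _ z
    rw [Submodule.mem_bot, Submodule.Quotient.mk_eq_zero]
    have ha' : (a : A) • m ∈ LinearMap.range u := by
      rw [← Submodule.Quotient.mk_eq_zero]
      exact ha
    obtain ⟨t, v, ht, hv⟩ := exists_smul_eq_sum φ hφ x hx m
    have h1 : ev φ x ((a : A) • v) ∈ LinearMap.range u := by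
      rw [ev_smul', ev_apply, ← hv, smul_comm]
      exact Submodule.smul_mem _ _ ha'
    obtain ⟨t', ht', h2⟩ := hNt2 _ h1
    rw [smul_comm] at h2
    obtain ⟨t'', ht'', h3⟩ := PolyCrit.exists_smul_mem_of_local q hmq Nt hNtfg hN a
      (nonZeroDivisors.coe_ne_zero a) _ h2
    obtain ⟨c, hc⟩ := hNt1 _ h3
    rw [ev_smul, ev_smul, ev_apply, ← hv] at hc
    obtain ⟨b, hb⟩ := (((hq' _).mp ht'').mul ((hq' _).mp ht')).mul ht
    have h4 : (b : B) • m ∈ LinearMap.range u := by
      rw [hb, mul_smul, mul_smul, hc]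
      exact ⟨_, rfl⟩
    have h5 : m = ((b⁻¹ : Bˣ) : B) • (b : B) • m := by
      rw [smul_smul, Units.inv_mul, one_smul]
    rw [h5]
    exact Submodule.smul_mem _ _ h4

end Groth.Agent.Flat2D.ValCrit
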